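import Groth.Agent.L24.FinSub.Quot
import Groth.Agent.L25.FpqcLocal
import Mathlib.AlgebraicGeometry.Morphisms.Separated

/-!
# Sums of subschemes and their descent
-/

set_option autoImplicit false
universe u

open CategoryTheory CategoryTheory.Limits MonoidalCategory CartesianMonoidalCategory AlgebraicGeometry
open scoped MonObj

set_option backward.isDefEq.respectTransparency.types false
set_option linter.style.haveILetI false

noncomputable section

namespace Groth.L24.MSub

open Groth.L25 Groth.L24.FinSub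

variable {S : Scheme.{u}}

theorem diag_map {Y Z : Scheme.{u}} (a : Y ⟶ S) (b : Z ⟶ S) (e : Y ⟶ Z) (he : a ≫ 𝟙 S = e ≫ b) :
    pullback.diagonal a ≫ pullback.map a a b b e e (𝟙 S) he he = e ≫ pullback.diagonal b := by
  apply pullback.hom_ext
  · rw [Category.assoc, pullback.map, pullback.lift_fst, ← Category.assoc, pullback.diagonal_fst, Category.id_comp,
      Category.assoc, pullback.diagonal_fst, Category.comp_id]
  · rw [Category.assoc, pullback.map, pullback.lift_snd, ← Category.assoc, pullback.diagonal_snd, Category.id_comp,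
      Category.assoc, pullback.diagonal_snd, Category.comp_id]

/-- a sum of separated schemes is separated -/
theorem isSeparated_sigmaDesc {J : Type u} {X : J → Scheme.{u}} (h : ∀ i, X i ⟶ S) (hh : ∀ i, IsSeparated (h i)) :
    IsSeparated (Sigma.desc h) := by
  let f : (∐ X) ⟶ S := Sigma.desc h
  refine ⟨IsClosedImmersion.of_isPreimmersion (pullback.diagonal f) ⟨?_⟩⟩
  rw [isOpen_iff_forall_mem_open]
  intro z hz
  obtain ⟨i, x, hx⟩ := (sigmaOpenCover X).exists_eq (pullback.fst f f z)
  obtain ⟨k, y, hy⟩ := (sigmaOpenCover X).exists_eq (pullback.snd f f z)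
  by_cases hik : i = k
  · subst hik
    let m := pullback.map (h i) (h i) f f (Sigma.ι X i) (Sigma.ι X i) (𝟙 S)
      (by rw [Category.comp_id, Sigma.ι_desc]) (by rw [Category.comp_id, Sigma.ι_desc])
    obtain ⟨w, hw⟩ : z ∈ Set.range m := by
      rw [Scheme.Pullback.range_map]
      exact ⟨⟨x, hx⟩, ⟨y, hy⟩⟩
    haveI := hh i
    refine ⟨m '' (Set.range (pullback.diagonal (h i)))ᶜ, ?_,
      m.isOpenEmbedding.isOpenMap _ (pullback.diagonal (h i)).isClosedEmbedding.isClosed_range.isOpen_compl,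
      ⟨w, ?_, hw⟩⟩
    · rintro _ ⟨w', hw', rfl⟩ ⟨p, hp⟩
      obtain ⟨i', p', rfl⟩ := (sigmaOpenCover X).exists_eq p
      have h1 := congrArg (pullback.fst f f) hp
      rw [← Scheme.Hom.comp_apply, pullback.diagonal_fst, ← Scheme.Hom.comp_apply m (pullback.fst f f),
        pullback.lift_fst, Scheme.Hom.comp_apply] at h1
      obtain ⟨rfl, -⟩ := Sigma.mk.inj_iff.1 ((sigmaι_eq_iff X _ _ _ _).1 h1)
      refine hw' ⟨p', m.isOpenEmbedding.injective ?_⟩
      rw [← hp, ← Scheme.Hom.comp_apply]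
      refine (congr($(diag_map (h i') f (Sigma.ι X i') (by rw [Category.comp_id, Sigma.ι_desc])) p')).trans ?_
      rfl
    · rintro ⟨p, hp⟩
      refine hz ⟨Sigma.ι X i p, ?_⟩
      rw [← hw, ← hp, ← Scheme.Hom.comp_apply, ← Scheme.Hom.comp_apply]
      exact (congr($(diag_map (h i) f (Sigma.ι X i) (by rw [Category.comp_id, Sigma.ι_desc])) p)).symm
  · refine ⟨pullback.fst f f ⁻¹' Set.range (Sigma.ι X i) ∩ pullback.snd f f ⁻¹' Set.range (Sigma.ι X k), ?_,
      ((Sigma.ι X i).isOpenEmbedding.isOpen_range.preimage (pullback.fst f f).continuous).inter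
        ((Sigma.ι X k).isOpenEmbedding.isOpen_range.preimage (pullback.snd f f).continuous), ⟨⟨x, hx⟩, ⟨y, hy⟩⟩⟩
    rintro _ ⟨⟨a, ha⟩, ⟨b, hb⟩⟩ ⟨p, rfl⟩
    rw [← Scheme.Hom.comp_apply, pullback.diagonal_fst] at ha
    rw [← Scheme.Hom.comp_apply, pullback.diagonal_snd] at hb
    exact hik (Sigma.mk.inj_iff.1 ((sigmaι_eq_iff X _ _ _ _).1 (ha.trans hb.symm))).1

section Sum

variable {G : Over S} {J : Type u} (X : J → Over S)

/-- the sum of the parameter schemes -/
abbrev sum : Over S := Over.mk (Sigma.desc fun i => (X i).hom)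

/-- the inclusion of a summand -/
abbrev sumInc (i : J) : X i ⟶ sum X := Over.homMk (Sigma.ι (fun i => (X i).left) i) (Sigma.ι_desc _ _)

theorem exists_fac_sum {Y : Over S} (v : Y ⟶ sum X) (y : Y.left) :
    ∃ (i : J) (U : Y.left.Opens) (u : Over.mk (U.ι ≫ Y.hom) ⟶ X i), y ∈ U ∧
      (Over.homMk U.ι rfl : Over.mk (U.ι ≫ Y.hom) ⟶ Y) ≫ v = u ≫ sumInc X i := by
  obtain ⟨i, z, hz⟩ := (sigmaOpenCover fun i => (X i).left).exists_eq (v.left y)
  haveI : IsOpenImmersion (sumInc X i).left := inferInstanceAs (IsOpenImmersion (Sigma.ι (fun i => (X i).left) i))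
  let U := v.left ⁻¹ᵁ (sumInc X i).left.opensRange
  let u := IsOpenImmersion.lift (sumInc X i).left (U.ι ≫ v.left) (by rintro _ ⟨w, rfl⟩; exact w.2)
  refine ⟨i, U, Over.homMk u ?_, ⟨z, hz⟩, Over.OverMorphism.ext (IsOpenImmersion.lift_fac _ _ _).symm⟩
  show u ≫ (X i).hom = U.ι ≫ Y.hom
  rw [← Over.w (sumInc X i), IsOpenImmersion.lift_fac_assoc, Category.assoc, Over.w v]

theorem exists_sum_sub (K : ∀ i, Over (X i).left) (j : ∀ i, K i ⟶ Red.bc (X i).hom G)
    (hj : ∀ i, IsClosedImmersion (j i).left) :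
    ∃ (K₀ : Over (sum X).left) (j₀ : K₀ ⟶ Red.bc (sum X).hom G), IsClosedImmersion j₀.left ∧
      ∀ (i : J) (Y : Over S) (v : Y ⟶ X i) (g : Y ⟶ G), Mem j₀ (v ≫ sumInc X i) g ↔ Mem (j i) v g := by
  let K₀ : Over (sum X).left := Over.mk (Limits.Sigma.map fun i => (K i).hom)
  let j₀ : K₀ ⟶ Red.bc (sum X).hom G :=
    Over.homMk (pullback.lift (Sigma.desc fun i => (j i).left ≫ pullback.fst G.hom (X i).hom)
      (Limits.Sigma.map fun i => (K i).hom) (Sigma.hom_ext _ _ fun i => by
        have hw : (j i).left ≫ pullback.snd G.hom (X i).hom = (K i).hom := Over.w (j i)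
        simp only [sum, Over.mk_hom, Sigma.ι_desc_assoc, Limits.Sigma.ι_map_assoc, Sigma.ι_desc, Category.assoc,
          pullback.condition, reassoc_of% hw])) (pullback.lift_snd _ _ _)
  have hoiX : ∀ i, IsOpenImmersion (sumInc X i).left := fun i =>
    inferInstanceAs (IsOpenImmersion (Sigma.ι (fun i => (X i).left) i))
  have hpre : ∀ i, (Limits.Sigma.map fun i => (K i).hom) ⁻¹ᵁ (sumInc X i).left.opensRange =
      (Sigma.ι (fun i => (K i).left) i).opensRange := by
    intro i
    ext x
    obtain ⟨k, z, rfl⟩ := (sigmaOpenCover fun i => (K i).left).exists_eq x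
    have h : (Limits.Sigma.map fun i => (K i).hom) (Sigma.ι (fun i => (K i).left) k z) =
        Sigma.ι (fun i => (X i).left) k ((K k).hom z) := by
      rw [← Scheme.Hom.comp_apply, Limits.Sigma.ι_map, Scheme.Hom.comp_apply]
    constructor
    · rintro ⟨w, hw⟩
      obtain ⟨rfl, -⟩ := Sigma.mk.inj_iff.1 ((sigmaι_eq_iff (fun i => (X i).left) i k w _).1 (hw.trans h))
      exact ⟨z, rfl⟩
    · rintro ⟨w, hw⟩
      obtain ⟨rfl, -⟩ := Sigma.mk.inj_iff.1 ((sigmaι_eq_iff (fun i => (K i).left) i k w z).1 hw)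
      exact ⟨_, h.symm⟩
  have hKpb : ∀ i, IsPullback (Sigma.ι (fun i => (K i).left) i) (K i).hom K₀.hom (sumInc X i).left := fun i => by
    haveI := hoiX i
    exact (IsOpenImmersion.isPullback (K i).hom (Sigma.ι (fun i => (K i).left) i) (sumInc X i).left K₀.hom
      (Limits.Sigma.ι_map (p := fun i => (K i).hom) i) (hpre i)).flip
  let incG : ∀ i, pullback G.hom (X i).hom ⟶ pullback G.hom (sum X).hom := fun i =>
    pullback.lift (pullback.fst G.hom (X i).hom) (pullback.snd G.hom (X i).hom ≫ (sumInc X i).left) (by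
      rw [Category.assoc, Over.w (sumInc X i)]; exact pullback.condition)
  have hG : ∀ i, IsPullback (incG i) (pullback.snd G.hom (X i).hom) (pullback.snd G.hom (sum X).hom)
      (sumInc X i).left := fun i => by
    refine IsPullback.of_right (h₁₂ := pullback.fst G.hom (sum X).hom) (v₁₃ := G.hom) (h₂₂ := (sum X).hom) ?_
      (pullback.lift_snd _ _ _) (IsPullback.of_hasPullback G.hom (sum X).hom)
    rw [show incG i ≫ pullback.fst G.hom (sum X).hom = pullback.fst G.hom (X i).hom from pullback.lift_fst _ _ _,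
      Over.w (sumInc X i)]
    exact IsPullback.of_hasPullback G.hom (X i).hom
  have hcl : IsClosedImmersion j₀.left := by
    have hoi : ∀ i, IsOpenImmersion (incG i) := fun i =>
      MorphismProperty.of_isPullback (P := @IsOpenImmersion) (hG i).flip (hoiX i)
    let 𝒰 : (pullback G.hom (sum X).hom).OpenCover := Scheme.Cover.mkOfCovers J
      (fun i => pullback G.hom (X i).hom) incG (fun x => by
        obtain ⟨i, z, hz⟩ := (sigmaOpenCover fun i => (X i).left).exists_eq (pullback.snd G.hom (sum X).hom x)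
        obtain ⟨w, hw, -⟩ := Scheme.Pullback.exists_preimage_pullback
          (f := pullback.snd G.hom (sum X).hom) (g := (sumInc X i).left) x z hz.symm
        refine ⟨i, (hG i).isoPullback.inv w, ?_⟩
        rw [← Scheme.Hom.comp_apply, (hG i).isoPullback_inv_fst]
        exact hw) hoi
    refine IsZariskiLocalAtTarget.of_openCover (P := @IsClosedImmersion) 𝒰 fun (i : J) => ?_
    have hjw : j₀.left ≫ pullback.snd G.hom (sum X).hom = K₀.hom := Over.w j₀
    have hiw : (j i).left ≫ pullback.snd G.hom (X i).hom = (K i).hom := Over.w (j i)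
    have hK : IsPullback (Sigma.ι (fun i => (K i).left) i) ((j i).left ≫ pullback.snd G.hom (X i).hom)
        (j₀.left ≫ pullback.snd G.hom (sum X).hom) (sumInc X i).left := by
      rw [hjw, hiw]
      exact hKpb i
    have sq : IsPullback (Sigma.ι (fun i => (K i).left) i) (j i).left j₀.left (incG i) := by
      refine IsPullback.of_bot hK ?_ (hG i)
      apply pullback.hom_ext
      · simp only [Category.assoc, j₀, Over.homMk_left, pullback.lift_fst, incG, Sigma.ι_desc]
      · simp only [Category.assoc, hjw, incG, pullback.lift_snd, reassoc_of% hiw]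
        exact (hKpb i).w
    have h1 : IsClosedImmersion (pullback.snd j₀.left (incG i)) := by
      haveI := hj i
      rw [← sq.isoPullback_inv_snd]
      infer_instance
    exact h1
  refine ⟨K₀, j₀, hcl, fun i Y v g => ?_⟩
  have hf : j₀.left ≫ pullback.fst G.hom (sum X).hom =
      Sigma.desc fun i => (j i).left ≫ pullback.fst G.hom (X i).hom := pullback.lift_fst _ _ _
  constructor
  · rintro ⟨z, h1, h2⟩
    refine ⟨(hKpb i).lift z v.left h1, (hKpb i).lift_snd _ _ _, ?_⟩
    rw [← h2, hf]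
    conv_rhs => rw [← (hKpb i).lift_fst z v.left h1, Category.assoc, Sigma.ι_desc]
  · rintro ⟨z, h1, h2⟩
    refine ⟨z ≫ Sigma.ι (fun i => (K i).left) i, ?_, ?_⟩
    · show (z ≫ _) ≫ Limits.Sigma.map (fun i => (K i).hom) = v.left ≫ (sumInc X i).left
      rw [Category.assoc, Limits.Sigma.ι_map, reassoc_of% h1]
      rfl
    · rw [Category.assoc, hf, Sigma.ι_desc]
      exact h2

end Sum

/-- descent of a closed subscheme of a base change of `G` along an etale surjection -/
theorem exists_desc_sub {G A P : Over S} (π : P ⟶ A) [Etale π.left] [Surjective π.left] {K₀ : Over P.left}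
    (j₀ : K₀ ⟶ Red.bc P.hom G) (hc : IsClosedImmersion j₀.left)
    (hinv : ∀ (Y : Over S) (a b : Y ⟶ P), a ≫ π = b ≫ π → ∀ g : Y ⟶ G, Mem j₀ a g → Mem j₀ b g) :
    ∃ (K : Over A.left) (j : K ⟶ Red.bc A.hom G), IsClosedImmersion j.left ∧
      ∀ (T : Over S) (a : T ⟶ P) (g : T ⟶ G), Mem j (a ≫ π) g ↔ Mem j₀ a g := by
  let p₀ := π.left
  have hq : p₀ ≫ A.hom = P.hom := Over.w π
  let f := j₀.left
  haveI : IsClosedImmersion f := hc
  have hMpb : pullback.fst G.hom P.hom ≫ G.hom = (pullback.snd G.hom P.hom ≫ p₀) ≫ A.hom := by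
    rw [Category.assoc, hq, pullback.condition]
  let ρ : pullback G.hom P.hom ⟶ pullback G.hom A.hom :=
    pullback.lift (pullback.fst G.hom P.hom) (pullback.snd G.hom P.hom ≫ p₀) hMpb
  have hsq : IsPullback ρ (pullback.snd G.hom P.hom) (pullback.snd G.hom A.hom) p₀ := by
    refine IsPullback.of_right (h₁₂ := pullback.fst G.hom A.hom) (v₁₃ := G.hom) (h₂₂ := A.hom) ?_
      (pullback.lift_snd _ _ _) (IsPullback.of_hasPullback G.hom A.hom)
    rw [pullback.lift_fst, hq]
    exact IsPullback.of_hasPullback G.hom P.hom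
  haveI : Etale ρ := MorphismProperty.of_isPullback (P := @Etale) hsq.flip ‹Etale π.left›
  haveI : Surjective ρ := MorphismProperty.of_isPullback (P := @Surjective) hsq.flip ‹Surjective π.left›
  haveI : Groth.L20.SchDesc.Cov ρ :=
    Descent.cov_of_cover ρ (Groth.L08.Borel.cover_of_lfp ρ)
  have hfw : f ≫ pullback.snd G.hom P.hom = K₀.hom := Over.w j₀
  have hex : ∀ {T : Scheme.{u}} (v : T ⟶ K₀.left) (x : T ⟶ pullback G.hom P.hom),
      v ≫ f ≫ ρ = x ≫ ρ → ∃ w, w ≫ f = x := by
    intro T v x h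
    have hg := congrArg (· ≫ pullback.fst G.hom A.hom) h
    have hm := congrArg (· ≫ pullback.snd G.hom A.hom) h
    simp only [ρ, Category.assoc, pullback.lift_fst, pullback.lift_snd] at hg hm
    let Y : Over S := Over.mk ((x ≫ pullback.snd G.hom P.hom) ≫ P.hom)
    let b : Y ⟶ P := Over.homMk (x ≫ pullback.snd G.hom P.hom) rfl
    let g : Y ⟶ G := Over.homMk (x ≫ pullback.fst G.hom P.hom) (by
      show (x ≫ pullback.fst G.hom P.hom) ≫ G.hom = (x ≫ pullback.snd G.hom P.hom) ≫ P.hom
      simp only [Category.assoc, pullback.condition])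
    have hm' : (v ≫ K₀.hom) ≫ p₀ = (x ≫ pullback.snd G.hom P.hom) ≫ p₀ := by
      rw [← hfw]
      simpa only [Category.assoc] using hm
    let a : Y ⟶ P := Over.homMk (v ≫ K₀.hom) (by
      show (v ≫ K₀.hom) ≫ P.hom = (x ≫ pullback.snd G.hom P.hom) ≫ P.hom
      have h1 := congrArg (· ≫ A.hom) hm'
      simpa only [Category.assoc, hq] using h1)
    obtain ⟨w, hw, hw'⟩ := hinv Y a b (Over.OverMorphism.ext hm') g ⟨v, rfl, hg⟩
    refine ⟨w, pullback.hom_ext ((Category.assoc _ _ _).trans hw') ?_⟩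
    rw [Category.assoc, hfw]
    exact hw
  choose act hact using @hex
  let Pr : Groth.L20.SchDesc.Pre ρ f :=
    { act := act
      hom := hact
      natural := fun g v x e e' => (cancel_mono f).1 (by rw [hact, Category.assoc, hact])
      self := fun v e => (cancel_mono f).1 (hact _ _ _)
      comp := fun v x y e e' e'' => (cancel_mono f).1 (by rw [hact, hact]) }
  obtain ⟨d⟩ := Groth.L20.SchDesc.effective_of_isIndQuasiAffineHom
    (Groth.L20.isIndQuasiAffineHom_of_isImmersion f) Pr
  haveI hdc : IsClosedImmersion d.a := by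
    refine FpqcLocal.of_fpqc (P := @IsClosedImmersion) d.a (pullback.snd G.hom A.hom) p₀
      (Groth.L08.Borel.cover_of_lfp p₀) fun s => ⟨⊤, trivial, ?_⟩
    let g := pullback.fst (pullback.snd G.hom A.hom) ((⊤ : P.left.Opens).ι ≫ p₀)
    let c : pullback (pullback.snd G.hom A.hom) ((⊤ : P.left.Opens).ι ≫ p₀) ⟶ pullback G.hom P.hom :=
      hsq.lift g (pullback.snd _ _ ≫ (⊤ : P.left.Opens).ι) (by rw [Category.assoc]; exact pullback.condition)
    refine FpqcLocal.bc_comp d.a c ρ _ (hsq.lift_fst _ _ _) ?_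
    rw [← d.isPullback.flip.isoPullback_inv_snd]
    infer_instance
  let K : Over A.left := Over.mk (d.a ≫ pullback.snd G.hom A.hom)
  let j : K ⟶ Red.bc A.hom G := Over.homMk d.a rfl
  have sqK : IsPullback d.q (f ≫ pullback.snd G.hom P.hom) (d.a ≫ pullback.snd G.hom A.hom) p₀ :=
    d.isPullback.flip.paste_vert hsq
  refine ⟨K, j, hdc, fun T a g => ?_⟩
  let x : T.left ⟶ pullback G.hom P.hom := pullback.lift g.left a.left ((Over.w g).trans (Over.w a).symm)
  constructor
  · rintro ⟨z, h1, h2⟩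
    have h1' : z ≫ d.a ≫ pullback.snd G.hom A.hom = a.left ≫ p₀ := h1
    have h2' : z ≫ d.a ≫ pullback.fst G.hom A.hom = g.left := h2
    have hz : z ≫ d.a = x ≫ ρ := pullback.hom_ext
      (by rw [Category.assoc, h2', Category.assoc, pullback.lift_fst, pullback.lift_fst])
      (by rw [Category.assoc, h1', Category.assoc, pullback.lift_snd, pullback.lift_snd_assoc])
    refine ⟨d.isPullback.flip.lift z x hz, ?_, ?_⟩
    · show _ ≫ K₀.hom = a.left
      rw [← hfw, ← Category.assoc, d.isPullback.flip.lift_snd, pullback.lift_snd]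
    · show _ ≫ f ≫ pullback.fst G.hom P.hom = g.left
      rw [← Category.assoc, d.isPullback.flip.lift_snd, pullback.lift_fst]
  · rintro ⟨z, h1, h2⟩
    have h1' : z ≫ K₀.hom = a.left := h1
    have h2' : z ≫ f ≫ pullback.fst G.hom P.hom = g.left := h2
    refine ⟨z ≫ d.q, ?_, ?_⟩
    · show (z ≫ d.q) ≫ d.a ≫ pullback.snd G.hom A.hom = a.left ≫ p₀
      rw [Category.assoc, sqK.w, Category.assoc, reassoc_of% hfw, reassoc_of% h1']
    · show (z ≫ d.q) ≫ d.a ≫ pullback.fst G.hom A.hom = g.left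
      rw [Category.assoc, ← d.isPullback.w_assoc, pullback.lift_fst, h2']

end Groth.L24.MSub
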