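import Groth.Agent.L24.MSub.Univ
import Groth.Agent.L24.TorusField.Criteria
import Groth.Agent.L08.Borel.RedRankTorus
import Groth.Agent.L08.Borel.MaxToriConj

/-!
# Split maximal tori as points of the scheme of monomorphisms
-/

set_option autoImplicit false
universe u

open CategoryTheory CategoryTheory.Limits MonoidalCategory CartesianMonoidalCategory AlgebraicGeometry
open scoped MonObj

set_option backward.isDefEq.respectTransparency.types false
set_option linter.style.haveILetI false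

noncomputable section

namespace Groth.L24.MSub

open Groth.L25 Groth.L25.SplitSub Groth.L24.FinSub

variable {S : Scheme.{u}} {G : Over S} [GrpObj G] [IsAffineHom G.hom] [Smooth G.hom]

/-- the index of split tori of rank `r` -/
abbrev torusIdx (r : ℕ) : Idx.{u} := ULift.up ⟨r, ⊥⟩

/-- its group of characters is free -/
def torusEquiv (r : ℕ) : grpI (torusIdx.{u} r) ≃+ (Fin r → ℤ) := QuotientAddGroup.quotientBot

namespace MRep

variable (R : MRep G)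

/-- two monomorphisms give the same point iff they have the same image -/
theorem pti_eq_iff (i : Idx.{u}) {Y : Over S} (a b : Y ⟶ R.Δ.X i) : a ≫ R.pti i = b ≫ R.pti i ↔
    ∀ (T : Over S) (t : T ⟶ Y) (g : T ⟶ G), Img (R.Δ.υ i) (t ≫ a) g ↔ Img (R.Δ.υ i) (t ≫ b) g := by
  constructor
  · intro h T t g
    rw [← mem_lift_iff, ← mem_lift_iff, Category.assoc, Category.assoc, h]
  · intro h
    refine R.pt_ext _ _ fun T t g => ?_
    rw [← Category.assoc, ← Category.assoc, mem_lift_iff, mem_lift_iff, h]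

variable {T : Scheme.{u}} {f : T ⟶ S} {K' : Over T} [GrpObj K'] (j' : K' ⟶ Red.bc f G) [IsMonHom j'] [Mono j'.left]

/-- a splitting gives a point of the corresponding scheme of monomorphisms -/
theorem exists_pt_of_split {T₁ : Scheme.{u}} (π : T₁ ⟶ T) {M : Type} [AddCommGroup M]
    (e : Grp.mk (Red.bc π K') ≅ Grp.mk (Red.DS T₁ M)) (i : Idx.{u}) (ε : grpI i ≃+ M) :
    ∃ a : Over.mk (π ≫ f) ⟶ R.Δ.X i, ∀ (Y : Over S) (t : Y ⟶ Over.mk (π ≫ f)) (g : Y ⟶ G),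
      Mem (M := Over.mk f) j' (t ≫ Over.homMk π rfl) g ↔ Mem R.j (t ≫ a ≫ R.pti i) g := by
  let e₀ : Red.bc π K' ≅ Red.DS T₁ M := (Grp.forget _).mapIso e
  haveI : IsMonHom e₀.inv := e.inv.hom.isMonHom_hom
  let Y₁ : Over S := Over.mk (π ≫ f)
  let c : Y₁ ⟶ Over.mk f := Over.homMk π rfl
  let m : Red.DS T₁ (grpI i) ⟶ Red.DS T₁ M := Red.DSmap T₁ (ε.symm : M →+ grpI i)
  have hm1 : m ≫ Red.DSmap T₁ (ε : grpI i →+ M) = 𝟙 _ := by
    rw [TorusTorsion.DSmap_comp, show (ε.symm : M →+ grpI i).comp (ε : grpI i →+ M) = AddMonoidHom.id _ from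
      AddMonoidHom.ext fun a => ε.symm_apply_apply a, TorusTorsion.DSmap_id]
  have hm2 : Red.DSmap T₁ (ε : grpI i →+ M) ≫ m = 𝟙 _ := by
    rw [TorusTorsion.DSmap_comp, show (ε : grpI i →+ M).comp (ε.symm : M →+ grpI i) = AddMonoidHom.id _ from
      AddMonoidHom.ext fun a => ε.apply_symm_apply a, TorusTorsion.DSmap_id]
  haveI : IsIso m := ⟨_, hm1, hm2⟩
  haveI : IsMonHom m := TorusTorsion.isMonHom_DSmap _ _
  let ci := ActBC.bcCompIso π f G (d := π ≫ f) rfl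
  haveI : IsMonHom ci.hom := (Grp.mkIso' ci).hom.hom.isMonHom_hom
  let d : Red.bc (π ≫ f) (Red.DS S (grpI i)) ≅ Red.DS T₁ (grpI i) := bcDS _
  haveI : IsMonHom d.hom := isMonHom_bcDS _
  haveI : IsMonHom ((Over.pullback π).map j') := MonoClosed.isMonHom_pullbackMap _ _
  let q : Red.bc (π ≫ f) (Red.DS S (grpI i)) ⟶ Red.bc π K' := d.hom ≫ m ≫ e₀.inv
  haveI : IsMonHom q := inferInstanceAs (IsMonHom (d.hom ≫ m ≫ e₀.inv))
  haveI : IsIso q := inferInstanceAs (IsIso (d.hom ≫ m ≫ e₀.inv))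
  let H : Red.bc (π ≫ f) (Red.DS S (grpI i)) ⟶ Red.bc (π ≫ f) G := q ≫ (Over.pullback π).map j' ≫ ci.hom
  haveI : IsMonHom H := inferInstanceAs (IsMonHom (q ≫ (Over.pullback π).map j' ≫ ci.hom))
  haveI : Mono j' := Over.mono_of_mono_left _
  haveI : Mono H := inferInstanceAs (Mono (q ≫ (Over.pullback π).map j' ≫ ci.hom))
  obtain ⟨φ, hφ⟩ := exists_sub_eq (Y := Y₁) H
  have hφ' : bcSub φ = H := hφ
  haveI : IsMonHom (bcSub φ) := by rw [hφ']; infer_instance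
  haveI : Mono (bcSub φ) := by rw [hφ']; infer_instance
  obtain ⟨a, ha⟩ := (R.Δ.piece i).exists_pt Y₁ φ (isHomFamily_of_isMonHom φ) (monoFam_of_mono φ)
  refine ⟨a, fun Y t g => ?_⟩
  rw [← Category.assoc t a, mem_lift_iff]
  have h1 : Img (R.Δ.υ i) (t ≫ a) g ↔ Img φ t g := exists_congr fun z => by
    rw [← ha, lift_whiskerLeft_assoc]
  rw [h1, ← mem_sub_iff]
  show _ ↔ Mem (bcSub φ) t g
  rw [hφ']
  show _ ↔ Mem (M := Y₁) (q ≫ (Over.pullback π).map j' ≫ ci.hom) t g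
  rw [mem_iso_comp_iff (M := Y₁)]
  exact (mem_bc_iff (M := Over.mk f) j' c t g).symm

end MRep

/-- the base change of a free split group is a torus, split on each geometric fibre -/
theorem isSplit_geomFibre_DS {T : Scheme.{u}} (M : Type) [AddCommGroup M] {r : ℕ} (ε : M ≃+ (Fin r → ℤ)) (p : T) :
    Red.IsSplitTorusWith (Fin r → ℤ) (Red.geomFibre p (Red.DS T M)) :=
  Groth.L08.Borel.isSplit_bc (Red.geomPt p) ⟨Groth.L25.TorLift.dsCongr T ε⟩

theorem isTorus_DS_free {T : Scheme.{u}} (M : Type) [AddCommGroup M] {r : ℕ} (ε : M ≃+ (Fin r → ℤ)) :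
    Red.IsTorus (Red.DS T M) :=
  Groth.L25.TorLift.isTorus_of_iso (Groth.L25.TorLift.dsCongr T ε).symm (Groth.L08.Borel.isTorus_ds T r)

variable {M : Type} [AddCommGroup M]

/-- split monomorphisms of the rank of the fibre are maximal tori -/
theorem isMaximalTorus_famHom {Y : Over S} {φ : Red.DS S M ⊗ Y ⟶ G}
    (hφ : AutFam.IsHomFamily (Red.DS S M) G φ) (hm : MonoFam φ) {r : ℕ} (ε : M ≃+ (Fin r → ℤ))
    (hr : ∀ y : Y.left, SGA3x.HasRedRank G (Y.hom y) r) : Red.IsMaximalTorus (famHom φ) := by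
  haveI := isMonHom_famHom φ hφ
  haveI := mono_famHom hφ hm
  exact Groth.L08.Borel.isMaximalTorus_of_ranks Y.hom (famHom φ) (isTorus_DS_free M ε)
    fun p => ⟨r, isSplit_geomFibre_DS M ε p, hr p⟩

/-- images of two split maximal tori at a geometric point are conjugate -/
theorem exists_conj_of_rank {K : Type u} [Field K] [IsAlgClosed K] (ξ : Spec (CommRingCat.of K) ⟶ S)
    {φ₁ φ₂ : Red.DS S M ⊗ Over.mk ξ ⟶ G} (h₁ : AutFam.IsHomFamily (Red.DS S M) G φ₁) (m₁ : MonoFam φ₁)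
    (h₂ : AutFam.IsHomFamily (Red.DS S M) G φ₂) (m₂ : MonoFam φ₂) {r : ℕ} (ε : M ≃+ (Fin r → ℤ))
    (hr : ∀ y, SGA3x.HasRedRank G (ξ y) r) :
    ∃ γ : Over.mk ξ ⟶ G, ∀ (T : Over S) (t : T ⟶ Over.mk ξ) (y : T ⟶ G),
      Img φ₂ t y ↔ Img φ₁ t ((t ≫ γ)⁻¹ * y * (t ≫ γ)) := by
  let GK := Red.bc ξ G
  haveI : IsAffineHom GK.hom := MorphismProperty.pullback_snd _ _ ‹IsAffineHom G.hom›
  haveI : Smooth GK.hom := MorphismProperty.pullback_snd _ _ ‹Smooth G.hom›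
  haveI : QuasiCompact GK.hom := inferInstance
  haveI : IsAffine GK.left := isAffine_of_isAffineHom GK.hom
  let j₁ : Red.DS (Spec (CommRingCat.of K)) M ⟶ GK := famHom (Y := Over.mk ξ) φ₁
  let j₂ : Red.DS (Spec (CommRingCat.of K)) M ⟶ GK := famHom (Y := Over.mk ξ) φ₂
  haveI : IsMonHom j₁ := isMonHom_famHom (Y := Over.mk ξ) φ₁ h₁
  haveI : IsMonHom j₂ := isMonHom_famHom (Y := Over.mk ξ) φ₂ h₂
  haveI : Mono j₁ := mono_famHom (Y := Over.mk ξ) h₁ m₁
  haveI : Mono j₂ := mono_famHom (Y := Over.mk ξ) h₂ m₂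
  have a₁ : AGF.IsMaxTorus j₁ :=
    Groth.L08.Borel.isMaxTorus_of_isMaximalTorus (isMaximalTorus_famHom (Y := Over.mk ξ) h₁ m₁ ε hr)
  have a₂ : AGF.IsMaxTorus j₂ :=
    Groth.L08.Borel.isMaxTorus_of_isMaximalTorus (isMaximalTorus_famHom (Y := Over.mk ξ) h₂ m₂ ε hr)
  obtain ⟨g, f, hf⟩ := Groth.L08.Borel.exists_maxTorus_conj_any a₁ a₂
  let e : Over.mk ξ ⟶ Over.mk ((𝟙_ (Over (Spec (CommRingCat.of K)))).hom ≫ ξ) := Over.homMk (𝟙 _) (by
    show 𝟙 _ ≫ 𝟙 _ ≫ ξ = ξ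
    rw [Category.id_comp, Category.id_comp])
  let γ : Over.mk ξ ⟶ G := e ≫ NilAction.toBase ξ g
  refine ⟨γ, fun T t y => ?_⟩
  -- transport to points over the field
  have key : ∀ (z : T ⟶ Red.DS S M), ∃ z' : T ⟶ Red.DS S M,
      lift z' t ≫ φ₂ = (t ≫ γ) * (lift z t ≫ φ₁) * (t ≫ γ)⁻¹ ∧
      ∃ z'' : T ⟶ Red.DS S M, lift z t ≫ φ₂ = (t ≫ γ) * (lift z'' t ≫ φ₁) * (t ≫ γ)⁻¹ := by
    intro z
    obtain ⟨T', x, i, hx, hT'⟩ := exists_upPt ξ t z
    have ht : (Over.homMk T'.hom rfl : Over.mk (T'.hom ≫ ξ) ⟶ Over.mk ξ) = i.hom ≫ t :=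
      Over.OverMorphism.ext hT'
    have hg : NilAction.toBase ξ (toUnit T' ≫ g) = i.hom ≫ t ≫ γ := by
      rw [← Category.assoc, ← ht]
      apply Over.OverMorphism.ext
      show ((toUnit T').left ≫ g.left) ≫ _ = T'.hom ≫ 𝟙 _ ≫ g.left ≫ _
      rw [show (toUnit T').left = T'.hom from (Category.comp_id _).symm.trans (Over.w (toUnit T')),
        Category.id_comp, Category.assoc]
    have hinv : NilAction.toBase ξ (toUnit T' ≫ g)⁻¹ = (NilAction.toBase ξ (toUnit T' ≫ g))⁻¹ :=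
      eq_inv_of_mul_eq_one_left (by rw [← NilAction.toBase_mul, inv_mul_cancel, NilAction.toBase_one])
    have hconj : ∀ w : T' ⟶ Red.DS (Spec (CommRingCat.of K)) M,
        NilAction.toBase ξ ((w ≫ f.hom) ≫ j₂) =
          (i.hom ≫ t ≫ γ) * NilAction.toBase ξ (w ≫ j₁) * (i.hom ≫ t ≫ γ)⁻¹ := fun w => by
      rw [Category.assoc, hf, AGF.conjBy, MonObj.comp_mul, MonObj.comp_mul, GrpObj.comp_inv,
        ← Category.assoc w (toUnit _), toUnit_unique (w ≫ toUnit _) (toUnit T'), NilAction.toBase_mul,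
        NilAction.toBase_mul, hinv, hg]
    have hpt : ∀ (φ : Red.DS S M ⊗ Over.mk ξ ⟶ G) (w : T' ⟶ Red.DS (Spec (CommRingCat.of K)) M),
        NilAction.toBase ξ (w ≫ famHom (Y := Over.mk ξ) φ) = i.hom ≫ lift (i.inv ≫ downPt ξ w) t ≫ φ := fun φ w => by
      refine (toBase_famHom (Y := Over.mk ξ) φ w).trans ?_
      rw [ht, comp_lift_assoc, Iso.hom_inv_id_assoc]
      rfl
    refine ⟨i.inv ≫ downPt ξ (x ≫ f.hom), ?_, i.inv ≫ downPt ξ (x ≫ f.inv), ?_⟩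
    · have h := hconj x
      simp only [j₁, j₂, hpt, ← hx, Iso.inv_hom_id_assoc] at h
      rw [← cancel_epi i.hom, h, MonObj.comp_mul, MonObj.comp_mul, GrpObj.comp_inv]
    · have h := hconj (x ≫ f.inv)
      rw [Category.assoc x f.inv, Iso.inv_hom_id, Category.comp_id] at h
      simp only [j₁, j₂, hpt, ← hx, Iso.inv_hom_id_assoc] at h
      rw [← cancel_epi i.hom, h, MonObj.comp_mul, MonObj.comp_mul, GrpObj.comp_inv]
  constructor
  · rintro ⟨z, rfl⟩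
    obtain ⟨-, -, z'', h⟩ := key z
    exact ⟨z'', by rw [h]; group⟩
  · rintro ⟨z, hz⟩
    obtain ⟨z', h, -⟩ := key z
    exact ⟨z', by rw [h, hz]; group⟩

end Groth.L24.MSub
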