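import Groth.Agent.L24.FinSub.Fam
import Groth.Agent.L24.FinSub.Mem
import Groth.Agent.L24.FinSub.Piece
import Groth.Agent.L25.SplitHom.Main
import Groth.Agent.L25.SplitHom.Smooth
import Groth.Agent.L25.MonoClosed.Main
import Groth.Agent.L25.Locus.Torus

/-!
# Monomorphisms of a diagonalisable group of finite type into a smooth affine group
-/

set_option autoImplicit false
universe u

open CategoryTheory CategoryTheory.Limits MonoidalCategory CartesianMonoidalCategory AlgebraicGeometry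
open scoped MonObj

set_option backward.isDefEq.respectTransparency.types false
set_option linter.style.haveILetI false

noncomputable section

namespace Groth.L24.MSub

open Groth.L25 Groth.L25.SplitSub Groth.L24.FinSub

variable {S : Scheme.{u}} {M : Type} [AddCommGroup M] {Y G : Over S}

theorem mem_famHom_iff (φ : Red.DS S M ⊗ Y ⟶ G) {T : Over S} (a : T ⟶ Y) (g : T ⟶ G) :
    Mem (famHom φ) a g ↔ Img φ a g := by
  have hcast : ∀ (x : Over.mk a.left ⟶ Red.DS Y.left M),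
      (NilAction.toBase Y.hom (x ≫ famHom φ)).left =
        x.left ≫ (famHom φ).left ≫ pullback.fst G.hom Y.hom := fun x => Category.assoc _ _ _
  let T' : Over Y.left := Over.mk a.left
  let i : Over.mk (T'.hom ≫ Y.hom) ≅ T :=
    Over.isoMk (Iso.refl _) ((Category.id_comp _).trans (Over.w a).symm)
  have hi : (Over.homMk T'.hom rfl : Over.mk (T'.hom ≫ Y.hom) ⟶ Y) = i.hom ≫ a :=
    Over.OverMorphism.ext (Category.id_comp _).symm
  constructor
  · rintro ⟨z, h1, h2⟩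
    let x : T' ⟶ Red.DS Y.left M := Over.homMk z h1
    refine ⟨i.inv ≫ downPt Y.hom x, ?_⟩
    rw [← cancel_epi i.hom, ← Category.assoc, comp_lift, Iso.hom_inv_id_assoc, ← hi, ← toBase_famHom]
    refine Over.OverMorphism.ext ((hcast x).trans (h2.trans ?_))
    exact (Category.id_comp _).symm
  · rintro ⟨z, rfl⟩
    obtain ⟨T'', x, e, he, hT⟩ := exists_down a z
    have hx : T''.hom = e.hom.left ≫ a.left := congrArg (fun m : _ ⟶ Y => m.left) hT
    have key : e.hom ≫ lift z a ≫ φ = NilAction.toBase Y.hom (x ≫ famHom φ) := by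
      rw [← Category.assoc, comp_lift, ← he, ← hT, toBase_famHom]
    refine ⟨e.inv.left ≫ x.left, ?_, ?_⟩
    · rw [Category.assoc, Over.w x]
      exact (congrArg (e.inv.left ≫ ·) hx).trans (congrArg (fun m : T ⟶ Y => m.left) (e.inv_hom_id_assoc a))
    · rw [Category.assoc]
      have h2 : x.left ≫ (famHom φ).left ≫ pullback.fst G.hom Y.hom = (e.hom ≫ lift z a ≫ φ).left := by
        rw [key]; exact (Category.assoc _ _ _).symm
      rw [h2]
      exact congrArg (fun m : T ⟶ G => m.left) (e.inv_hom_id_assoc _)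

variable [GrpObj G]

/-- the homomorphism of points given by a member of a family -/
def ptHom (φ : Red.DS S M ⊗ Y ⟶ G) (hφ : AutFam.IsHomFamily (Red.DS S M) G φ) {T : Over S} (a : T ⟶ Y) :
    (T ⟶ Red.DS S M) →* (T ⟶ G) :=
  MonoidHom.mk' (fun z => lift z a ≫ φ) fun z z' => hφ T z z' a

theorem mono_famHom {φ : Red.DS S M ⊗ Y ⟶ G} (hφ : AutFam.IsHomFamily (Red.DS S M) G φ) (hm : MonoFam φ) :
    Mono (famHom φ) := by
  constructor
  intro T x x' h
  have h' : NilAction.toBase Y.hom (x ≫ famHom φ) = NilAction.toBase Y.hom (x' ≫ famHom φ) := by rw [h]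
  rw [toBase_famHom, toBase_famHom] at h'
  have e := hm.cancel hφ h'
  refine DSPts.char_injective ?_
  rw [← char_downPt Y.hom x, ← char_downPt Y.hom x', e]

variable [IsAffineHom G.hom] [Smooth G.hom]

theorem isClosedImmersion_famHom (hM : AddGroup.FG M) {φ : Red.DS S M ⊗ Y ⟶ G}
    (hφ : AutFam.IsHomFamily (Red.DS S M) G φ) (hm : MonoFam φ) : IsClosedImmersion (famHom φ).left := by
  haveI := isMonHom_famHom φ hφ
  haveI := mono_famHom hφ hm
  haveI : Module.Finite ℤ M := Module.Finite.iff_addGroup_fg.2 hM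
  haveI : IsAffineHom (Red.bc Y.hom G).hom := MorphismProperty.pullback_snd _ _ ‹IsAffineHom G.hom›
  haveI : Smooth (Red.bc Y.hom G).hom := MorphismProperty.pullback_snd _ _ ‹Smooth G.hom›
  exact MonoClosed.isClosedImmersion_DS (famHom φ)

/-- `X` carries the universal family of homomorphisms with trivial kernel out of `D(M)` into `G` -/
structure MPiece (M : Type) [AddCommGroup M] (X : Over S) (υ : Red.DS S M ⊗ X ⟶ G) : Prop where
  fg : AddGroup.FG M
  hom : AutFam.IsHomFamily (Red.DS S M) G υ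
  mono : MonoFam υ
  exists_pt : ∀ (Z : Over S) (φ : Red.DS S M ⊗ Z ⟶ G), AutFam.IsHomFamily (Red.DS S M) G φ → MonoFam φ →
    ∃ a : Z ⟶ X, (Red.DS S M ◁ a) ≫ υ = φ
  pt_ext : ∀ (Z : Over S) (a b : Z ⟶ X), (Red.DS S M ◁ a) ≫ υ = (Red.DS S M ◁ b) ≫ υ → a = b
  smooth : Smooth X.hom
  separated : IsSeparated X.hom

theorem exists_mpiece (M : Type) [AddCommGroup M] (hM : AddGroup.FG M) :
    ∃ (X : Over S) (υ : Red.DS S M ⊗ X ⟶ G), MPiece M X υ := by
  have hMT := isMultTypeFT_DS S M hM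
  have hH' : TwC.Locally S TwC.Topology.fpqc (fun S' f => ∃ (N : Type) (_ : AddCommGroup N),
      Nonempty (Grp.mk (Red.bc f (Red.DS S M)) ≅ Grp.mk (Red.DS S' N))) := by
    obtain ⟨S', f, h1, h2, h3, h4⟩ := hMT
    refine ⟨S', f, h1, h2, h3, fun s => ?_⟩
    obtain ⟨U, hU, N, i, -, e⟩ := h4 s
    exact ⟨U, hU, N, i, e⟩
  haveI : Flat G.hom := inferInstance
  haveI : LocallyOfFinitePresentation G.hom := inferInstance
  obtain ⟨A, υA, hA, hsep, hlfp⟩ := SplitHom.exists_representsHom (Red.DS S M) G hH'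
  haveI := hlfp
  haveI hsm : Smooth A.hom := SplitHom.smooth_of_representsHom hH' hA
  haveI := hsep
  obtain ⟨hυ, huniv⟩ := hA
  let U := monoLocus υA
  let X : Over S := Over.mk (U.ι ≫ A.hom)
  let i : X ⟶ A := Over.homMk U.ι rfl
  have hhom : ∀ {Z : Over S} (a : Z ⟶ A), AutFam.IsHomFamily (Red.DS S M) G ((Red.DS S M ◁ a) ≫ υA) :=
    fun a T z z' t => by
      rw [comp_whisker, comp_whisker, comp_whisker]
      exact hυ _ _ _ _
  refine ⟨X, (Red.DS S M ◁ i) ≫ υA, hM, hhom i, (monoFam_iff υA hυ i).2 fun z => z.2, fun Z φ hφ hm => ?_,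
    fun Z a b e => ?_, inferInstanceAs (Smooth (U.ι ≫ A.hom)), inferInstanceAs (IsSeparated (U.ι ≫ A.hom))⟩
  · obtain ⟨a, ha, -⟩ := huniv Z φ hφ
    have hr : ∀ z, a.left z ∈ U := (monoFam_iff υA hυ a).1 (by rwa [ha])
    let a' : Z ⟶ X := Over.homMk (IsOpenImmersion.lift U.ι a.left (by
        rintro _ ⟨z, rfl⟩; rw [Scheme.Opens.range_ι]; exact hr z)) (by
      show _ ≫ U.ι ≫ A.hom = Z.hom
      rw [IsOpenImmersion.lift_fac_assoc, Over.w a])
    refine ⟨a', ?_⟩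
    have : a' ≫ i = a := Over.OverMorphism.ext (IsOpenImmersion.lift_fac _ _ _)
    rw [← MonoidalCategory.whiskerLeft_comp_assoc, this, ha]
  · have h1 : a ≫ i = b ≫ i := by
      obtain ⟨c, -, hc⟩ := huniv Z _ (hhom (a ≫ i))
      refine (hc _ rfl).trans (hc _ ?_).symm
      show (Red.DS S M ◁ (b ≫ i)) ≫ υA = (Red.DS S M ◁ (a ≫ i)) ≫ υA
      rw [MonoidalCategory.whiskerLeft_comp_assoc, MonoidalCategory.whiskerLeft_comp_assoc, e]
    refine Over.OverMorphism.ext ((cancel_mono U.ι).1 ?_)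
    exact congrArg (fun m => m.left) h1

omit [IsAffineHom G.hom] [Smooth G.hom]

variable {X : Over S} {υ : Red.DS S M ⊗ X ⟶ G}

theorem MPiece.eq_of_pts (hX : MPiece M X υ) {Z : Over S} (a b : Z ⟶ X)
    (h : ∀ (T : Over S) (t : T ⟶ Z) (z : T ⟶ Red.DS S M), lift z (t ≫ a) ≫ υ = lift z (t ≫ b) ≫ υ) : a = b :=
  hX.pt_ext Z a b (by
    have := h _ (snd (Red.DS S M) Z) (fst _ _)
    have e : ∀ c : Z ⟶ X, lift (fst (Red.DS S M) Z) (snd (Red.DS S M) Z ≫ c) = Red.DS S M ◁ c := fun c => by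
      apply CartesianMonoidalCategory.hom_ext <;> simp
    rwa [e, e] at this)

/-- a point of `G` lies in the image of the `N`-torsion -/
def LImg (N : ℕ) (υ : Red.DS S M ⊗ X ⟶ G) {T : Over S} (a : T ⟶ X) (g : T ⟶ G) : Prop :=
  ∃ z, z ^ N = 1 ∧ lift z a ≫ υ = g

theorem limg_iff (hX : MPiece M X υ) (N : ℕ) {T : Over S} (a : T ⟶ X) (g : T ⟶ G) :
    LImg N υ a g ↔ Img υ a g ∧ g ^ N = 1 := by
  constructor
  · rintro ⟨z, hz, rfl⟩
    refine ⟨⟨z, rfl⟩, ?_⟩
    show ptHom υ hX.hom a z ^ N = 1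
    rw [← map_pow, hz, map_one]
  · rintro ⟨⟨z, rfl⟩, h⟩
    refine ⟨z, hX.mono T a _ ?_, rfl⟩
    show ptHom υ hX.hom a (z ^ N) = 1
    rw [map_pow]
    exact h

theorem img_comp {N' : Type} [AddCommGroup N'] {Z : Over S} {φ : Red.DS S N' ⊗ Z ⟶ G} {T T' : Over S}
    (c : T' ⟶ T) {a : T ⟶ Z} {g : T ⟶ G} (h : Img φ a g) : Img φ (c ≫ a) (c ≫ g) := by
  obtain ⟨z, rfl⟩ := h
  exact ⟨c ≫ z, (comp_lift_assoc _ _ _ _).symm⟩

variable {M' : Type} [AddCommGroup M'] {X' : Over S} {υ' : Red.DS S M' ⊗ X' ⟶ G}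

/-- precomposing with an isomorphism of character groups -/
theorem MPiece.exists_twisted (hX : MPiece M X υ) (hX' : MPiece M' X' υ') (e : M ≃+ M') {Z : Over S}
    (b : Z ⟶ X') : ∃ a : Z ⟶ X, ∀ (T : Over S) (t : T ⟶ Z) (z : T ⟶ Red.DS S M),
      lift z (t ≫ a) ≫ υ = lift (z ≫ Red.DSmap S (e.symm : M' →+ M)) (t ≫ b) ≫ υ' := by
  haveI : IsMonHom (Red.DSmap S (e.symm : M' →+ M)) := TorusTorsion.isMonHom_DSmap S _
  haveI : IsMonHom (Red.DSmap S (e : M →+ M')) := TorusTorsion.isMonHom_DSmap S _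
  obtain ⟨a, ha⟩ := hX.exists_pt Z ((Red.DSmap S (e.symm : M' →+ M) ▷ Z) ≫ (Red.DS S M' ◁ b) ≫ υ')
    (fun T z z' t => by
      simp only [lift_whiskerRight_assoc, lift_whiskerLeft_assoc, MonObj.mul_comp]
      exact hX'.hom _ _ _ _) (fun T t z hz => by
      rw [lift_whiskerRight_assoc, lift_whiskerLeft_assoc] at hz
      have h' := congrArg (· ≫ Red.DSmap S (e : M →+ M')) (hX'.mono T (t ≫ b) _ hz)
      simp only [Category.assoc, TorusTorsion.DSmap_comp, MonObj.one_comp] at h'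
      rwa [show (e.symm : M' →+ M).comp (e : M →+ M') = AddMonoidHom.id M from
        AddMonoidHom.ext fun x => e.symm_apply_apply x, TorusTorsion.DSmap_id, Category.comp_id] at h')
  refine ⟨a, fun T t z => ?_⟩
  have := congrArg (lift z t ≫ ·) ha
  simpa only [lift_whiskerLeft_assoc, lift_whiskerRight_assoc] using this

/-- equal images are related by an isomorphism of character groups, locally -/
theorem exists_local_iso (hX : MPiece M X υ) (hX' : MPiece M' X' υ') {Y : Over S} (a : Y ⟶ X) (b : Y ⟶ X')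
    (h : ∀ (T : Over S) (t : T ⟶ Y) (g : T ⟶ G), Img υ (t ≫ a) g ↔ Img υ' (t ≫ b) g) (y : Y.left) :
    ∃ U : Y.left.Opens, y ∈ U ∧ ∃ e : M' ≃+ M, ∀ (T : Over S) (t : T ⟶ Y), (∀ w, t.left w ∈ U) →
      ∀ z : T ⟶ Red.DS S M,
        lift (z ≫ Red.DSmap S (e : M' →+ M)) (t ≫ b) ≫ υ' = lift z (t ≫ a) ≫ υ := by
  obtain ⟨α, hα⟩ := (h _ (snd (Red.DS S M) Y) _).1 ⟨fst _ _, rfl⟩
  obtain ⟨β, hβ⟩ := (h _ (snd (Red.DS S M') Y) _).2 ⟨fst _ _, rfl⟩
  have hαT : ∀ {T : Over S} (z : T ⟶ Red.DS S M) (t : T ⟶ Y),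
      lift (lift z t ≫ α) (t ≫ b) ≫ υ' = lift z (t ≫ a) ≫ υ := fun z t => by
    have := congrArg (lift z t ≫ ·) hα
    simpa only [comp_lift_assoc, lift_fst, lift_snd_assoc] using this
  have hβT : ∀ {T : Over S} (z : T ⟶ Red.DS S M') (t : T ⟶ Y),
      lift (lift z t ≫ β) (t ≫ a) ≫ υ = lift z (t ≫ b) ≫ υ' := fun z t => by
    have := congrArg (lift z t ≫ ·) hβ
    simpa only [comp_lift_assoc, lift_fst, lift_snd_assoc] using this
  have hαh : AutFam.IsHomFamily (Red.DS S M) (Red.DS S M') α := fun T z z' t => by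
    refine hX'.mono.cancel hX'.hom (a := t ≫ b) ?_
    rw [hαT, hX.hom, hX'.hom, hαT, hαT]
  have hβh : AutFam.IsHomFamily (Red.DS S M') (Red.DS S M) β := fun T z z' t => by
    refine hX.mono.cancel hX.hom (a := t ≫ a) ?_
    rw [hβT, hX'.hom, hX.hom, hβT, hβT]
  obtain ⟨U₁, hy₁, φ, hφ⟩ := exists_local_map hX'.fg α hαh y
  obtain ⟨U₂, hy₂, ψ, hψ⟩ := exists_local_map hX.fg β hβh y
  let U := U₁ ⊓ U₂
  let YU : Over S := Over.mk (U.ι ≫ Y.hom)
  let iU : YU ⟶ Y := Over.homMk U.ι rfl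
  let yU : YU.left := ⟨y, hy₁, hy₂⟩
  have hin : ∀ {T : Over S} (t : T ⟶ YU) (w : T.left), (t ≫ iU).left w ∈ U := fun t w => (t.left w).2
  have h1 : φ.comp ψ = AddMonoidHom.id M := addHom_ext yU _ _ fun T t z => by
    rw [← TorusTorsion.DSmap_comp, TorusTorsion.DSmap_id, Category.comp_id, ← Category.assoc,
      ← hφ T (t ≫ iU) (fun w => (hin t w).1) z, ← hψ T (t ≫ iU) (fun w => (hin t w).2)]
    refine hX.mono.cancel hX.hom (a := (t ≫ iU) ≫ a) ?_
    rw [hβT, hαT]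
  have h2 : ψ.comp φ = AddMonoidHom.id M' := addHom_ext yU _ _ fun T t z => by
    rw [← TorusTorsion.DSmap_comp, TorusTorsion.DSmap_id, Category.comp_id, ← Category.assoc,
      ← hψ T (t ≫ iU) (fun w => (hin t w).2) z, ← hφ T (t ≫ iU) (fun w => (hin t w).1)]
    refine hX'.mono.cancel hX'.hom (a := (t ≫ iU) ≫ b) ?_
    rw [hαT, hβT]
  refine ⟨U, ⟨hy₁, hy₂⟩, AddMonoidHom.toAddEquiv φ ψ h2 h1, fun T t ht z => ?_⟩
  rw [show ((AddMonoidHom.toAddEquiv φ ψ h2 h1 : M' ≃+ M) : M' →+ M) = φ from rfl,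
    ← hφ T t (fun w => (ht w).1) z, hαT]

end Groth.L24.MSub
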