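import Groth.Agent.L24.MSub.Glue
import Groth.Agent.L24.MSub.Piece

/-!
# Monomorphisms with bounded characters

Over an affine chart the monomorphisms of a split group whose coefficients lie in a given finite set of
characters form an affine scheme.
-/

set_option autoImplicit false
universe u

open CategoryTheory CategoryTheory.Limits MonoidalCategory CartesianMonoidalCategory AlgebraicGeometry
open scoped MonObj

set_option backward.isDefEq.respectTransparency.types false
set_option linter.style.haveILetI false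

noncomputable section

namespace Groth.L24.MSub

open Groth.L25 Groth.L25.SplitSub Groth.L25.SplitHom Groth.L24.FinSub

section Bound

variable {R : Type u} [CommRing R] {A : Type u} [CommRing A] [Bialgebra R A] {M : Type} [CommGroup M]

open scoped Classical Pointwise in
/-- a bound on the generators bounds every element -/
theorem exists_supp_bound (d : Datum R A) (F : Finset M) (a : A) :
    ∃ H : Finset M, ∀ (C : Type u) [CommRing C] [Algebra R C] (ψ : A →ₐ[R] MonoidAlgebra C M),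
      (∀ i, ∀ m ∉ F, (ψ (d.v i)).coeff m = 0) → ∀ m ∉ H, (ψ a).coeff m = 0 := by
  have ha : a ∈ Algebra.adjoin R (Set.range d.v) := by rw [d.adjoin_v]; trivial
  induction ha using Algebra.adjoin_induction with
  | mem x hx =>
    obtain ⟨i, rfl⟩ := hx
    exact ⟨F, fun C _ _ ψ h => h i⟩
  | algebraMap r =>
    refine ⟨{1}, fun C _ _ ψ _ m hm => ?_⟩
    rw [AlgHom.commutes, IsScalarTower.algebraMap_apply R C (MonoidAlgebra C M), MonoidAlgebra.coe_algebraMap]
    simp only [Function.comp_apply, MonoidAlgebra.coeff_single]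
    rw [Finsupp.single_eq_of_ne (fun h => hm (by rw [h]; exact Finset.mem_singleton_self _))]
  | add x y _ _ hx hy =>
    obtain ⟨H, hH⟩ := hx
    obtain ⟨H', hH'⟩ := hy
    refine ⟨H ∪ H', fun C _ _ ψ h m hm => ?_⟩
    rw [map_add, MonoidAlgebra.coeff_add, Finsupp.add_apply,
      hH C ψ h m (fun e => hm (Finset.mem_union_left _ e)),
      hH' C ψ h m (fun e => hm (Finset.mem_union_right _ e)), add_zero]
  | mul x y _ _ hx hy =>
    obtain ⟨H, hH⟩ := hx
    obtain ⟨H', hH'⟩ := hy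
    refine ⟨H * H', fun C _ _ ψ h m hm => ?_⟩
    rw [map_mul]
    refine Finsupp.notMem_support_iff.1 fun hmem => hm ?_
    refine Finset.mul_subset_mul (fun n hn => ?_) (fun n hn => ?_)
      (MonoidAlgebra.support_coeff_mul_subset (ψ x) (ψ y) hmem)
    · by_contra hnH
      exact Finsupp.mem_support_iff.1 hn (hH C ψ h n hnH)
    · by_contra hnH
      exact Finsupp.mem_support_iff.1 hn (hH' C ψ h n hnH)

open scoped Classical in
/-- points with bounded generators lie in a single piece -/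
theorem exists_piece_bound (d : Datum R A) (F : Finset M) :
    ∃ F' : Finset M, ∀ (C : Type u) [CommRing C] [Algebra R C] (ψ : A →ₐ[R] MonoidAlgebra C M)
      (hψ : IsPt ψ), (∀ i, ∀ m ∉ F, (ψ (d.v i)).coeff m = 0) → evB ψ hψ (d.dB F') = 1 := by
  choose H hH using fun p : Fin d.n × Fin d.n => exists_supp_bound d F (d.b p.1 p.2)
  refine ⟨Finset.univ.biUnion H, fun C _ _ ψ hψ h => ?_⟩
  rw [d.evB_dB]
  exact d.det_mat_eq_one hψ fun i k m hm =>
    hH (i, k) C ψ h m fun e => hm (Finset.mem_biUnion.2 ⟨(i, k), Finset.mem_univ _, e⟩)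

end Bound

section Points

variable {S : Scheme.{u}} {G : Over S} [GrpObj G] [IsAffineHom G.hom] [Smooth G.hom]
  {M : Type} [AddCommGroup M] {X : Over S} {υ : Red.DS S M ⊗ X ⟶ G}
  {R : Type u} [CommRing R] {j : Spec (CommRingCat.of R) ⟶ S}
  {A : Type u} [CommRing A] [HopfAlgebra R A]
  (ch : Cocycle.Chart j (Red.DS S M) (Multiplicative M)) (g : GChart j G A) (d : Datum R A)

/-- a split group over a chart is split -/
def chartDS (j : Spec (CommRingCat.of R) ⟶ S) (M : Type) [AddCommGroup M] :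
    Cocycle.Chart j (Red.DS S M) (Multiplicative M) :=
  Cocycle.Chart.ofSplit j (𝟙 _) (Category.id_comp j) (Grp.mkIso' (SplitSub.bcDS (N := M) j))

theorem mono_chart [IsOpenImmersion j] : Mono (Cocycle.X j R).hom := by
  show Mono (Spec.map (CommRingCat.ofHom (RingHom.id R)) ≫ j)
  rw [CommRingCat.ofHom_id, Spec.map_id, Category.id_comp]
  infer_instance

theorem toChart_unique [IsOpenImmersion j] {T : Over S} (a b : T ⟶ Cocycle.X j R) : a = b := by
  haveI := mono_chart (j := j)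
  exact Over.OverMorphism.ext ((cancel_mono (Cocycle.X j R).hom).1 ((Over.w a).trans (Over.w b).symm))

/-- morphisms of spectra over the base come from algebra maps -/
theorem exists_mor_chart [IsOpenImmersion j] {C D : Type u} [CommRing C] [Algebra R C] [CommRing D] [Algebra R D]
    (b : Cocycle.X j D ⟶ Cocycle.X j C) : ∃ h : C →ₐ[R] D, b = Cocycle.mor j h :=
  SplitHom.exists_mor b (toChart_unique _ _)

/-- an affine scheme over the image of the chart is a spectrum -/
theorem exists_chart_alg [IsOpenImmersion j] {T : Over S} [IsAffine T.left]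
    (hT : Set.range T.hom ⊆ Set.range j) :
    ∃ (C : Type u) (_ : CommRing C) (_ : Algebra R C), Nonempty (Cocycle.X j C ≅ T) := by
  let p : T ⟶ Cocycle.X j R := Over.homMk (IsOpenImmersion.lift j T.hom hT) (by
    show _ ≫ Spec.map (CommRingCat.ofHom (RingHom.id R)) ≫ j = T.hom
    rw [CommRingCat.ofHom_id, Spec.map_id, Category.id_comp, IsOpenImmersion.lift_fac])
  obtain ⟨C, i₁, i₂, i, -⟩ := SplitHom.exists_alg p
  exact ⟨C, i₁, i₂, ⟨i⟩⟩

theorem range_X_hom (C : Type u) [CommRing C] [Algebra R C] : Set.range (Cocycle.X j C).hom ⊆ Set.range j := by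
  rintro _ ⟨c, rfl⟩
  exact ⟨_, rfl⟩

variable (υ) in
/-- `ψ` gives the coefficients of the point `b` -/
def CoefOf [IsAffineHom (Red.DS S M).hom] {C : Type u} [CommRing C] [Algebra R C] (b : Cocycle.X j C ⟶ X)
    (ψ : A →ₐ[R] MonoidAlgebra C (Multiplicative M)) : Prop :=
  (Red.DS S M ◁ b) ≫ υ = SplitHom.famA ch g ψ

variable [IsAffineHom (Red.DS S M).hom]

variable {C D : Type u} [CommRing C] [Algebra R C] [CommRing D] [Algebra R D]

theorem exists_coefOf (b : Cocycle.X j C ⟶ X) : ∃ ψ, CoefOf υ ch g b ψ := by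
  obtain ⟨ψ, hψ⟩ := SplitHom.exists_famA ch g ((Red.DS S M ◁ b) ≫ υ)
  exact ⟨ψ, hψ.symm⟩

omit [IsAffineHom G.hom] [Smooth G.hom] in
theorem CoefOf.unique {b : Cocycle.X j C ⟶ X} {ψ ψ' : A →ₐ[R] MonoidAlgebra C (Multiplicative M)}
    (h : CoefOf υ ch g b ψ) (h' : CoefOf υ ch g b ψ') : ψ = ψ' :=
  SplitHom.famA_injective ch g (h.symm.trans h')

omit [IsAffineHom G.hom] [Smooth G.hom] in
theorem CoefOf.push {b : Cocycle.X j C ⟶ X} {ψ : A →ₐ[R] MonoidAlgebra C (Multiplicative M)}
    (h : CoefOf υ ch g b ψ) (f : C →ₐ[R] D) :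
    CoefOf υ ch g (Cocycle.mor j f ≫ b) (SplitHom.push f ψ) := by
  unfold CoefOf at *
  rw [MonoidalCategory.whiskerLeft_comp_assoc, h, SplitHom.famA_res]

theorem CoefOf.isPt (hX : MPiece M X υ) {b : Cocycle.X j C ⟶ X}
    {ψ : A →ₐ[R] MonoidAlgebra C (Multiplicative M)} (h : CoefOf υ ch g b ψ) : IsPt ψ := by
  refine SplitHom.isPt_of_isHomFamily ch g ?_
  rw [← h]
  intro T z z' t
  rw [comp_whisker, comp_whisker, comp_whisker]
  exact hX.hom _ _ _ _

variable (υ) in
/-- the coefficients of the generators vanish outside `F` -/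
def InF (F : Finset (Multiplicative M)) (b : Cocycle.X j C ⟶ X) : Prop :=
  ∀ ψ, CoefOf υ ch g b ψ → ∀ i, ∀ m ∉ F, (ψ (d.v i)).coeff m = 0

omit [IsAffineHom G.hom] [Smooth G.hom] in
theorem inF_of_coefOf {F : Finset (Multiplicative M)} {b : Cocycle.X j C ⟶ X}
    {ψ : A →ₐ[R] MonoidAlgebra C (Multiplicative M)} (h : CoefOf υ ch g b ψ)
    (h0 : ∀ i, ∀ m ∉ F, (ψ (d.v i)).coeff m = 0) : InF υ ch g d F b := fun ψ' h' => by
  rw [h'.unique ch g h]
  exact h0

theorem exists_inF (b : Cocycle.X j C ⟶ X) : ∃ F : Finset (Multiplicative M), InF υ ch g d F b := by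
  classical
  obtain ⟨ψ, hψ⟩ := exists_coefOf (υ := υ) ch g b
  refine ⟨Finset.univ.biUnion fun i => (ψ (d.v i)).coeff.support, inF_of_coefOf ch g d hψ fun i m hm => ?_⟩
  by_contra h
  exact hm (Finset.mem_biUnion.2 ⟨i, Finset.mem_univ _, Finsupp.mem_support_iff.2 h⟩)

theorem InF.comp {F : Finset (Multiplicative M)} {b : Cocycle.X j C ⟶ X} (h : InF υ ch g d F b)
    (f : C →ₐ[R] D) : InF υ ch g d F (Cocycle.mor j f ≫ b) := by
  obtain ⟨ψ, hψ⟩ := exists_coefOf (υ := υ) ch g b
  refine inF_of_coefOf ch g d (hψ.push ch g f) fun i m hm => ?_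
  rw [SplitHom.coeff_push, h ψ hψ i m hm, map_zero]

theorem InF.of_injective {F : Finset (Multiplicative M)} {b : Cocycle.X j C ⟶ X} (f : C →ₐ[R] D)
    (hf : Function.Injective f) (h : InF υ ch g d F (Cocycle.mor j f ≫ b)) : InF υ ch g d F b := by
  obtain ⟨ψ, hψ⟩ := exists_coefOf (υ := υ) ch g b
  refine inF_of_coefOf ch g d hψ fun i m hm => hf ?_
  rw [map_zero, ← SplitHom.coeff_push]
  exact h _ (hψ.push ch g f) i m hm

/-- the affine scheme of monomorphisms with characters in `F` -/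
theorem exists_bounded [IsOpenImmersion j] (hX : MPiece M X υ) (F : Finset (Multiplicative M)) :
    ∃ (Z : Over S) (a : Z ⟶ X), IsAffine Z.left ∧ Set.range Z.hom ⊆ Set.range j ∧
      (∀ (C : Type u) [CommRing C] [Algebra R C] (b : Cocycle.X j C ⟶ X),
        InF υ ch g d F b → ∃ z : Cocycle.X j C ⟶ Z, z ≫ a = b) ∧
      (∀ (C : Type u) [CommRing C] [Algebra R C] (z : Cocycle.X j C ⟶ Z), InF υ ch g d F (z ≫ a)) ∧
      (∀ (C : Type u) [CommRing C] [Algebra R C] (z z' : Cocycle.X j C ⟶ Z), z ≫ a = z' ≫ a → z = z') := by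
  obtain ⟨F', hF'⟩ := exists_piece_bound d F
  let L := d.Lu F'
  let c : Fin d.n → Multiplicative M → L := fun i m => (d.ptU F' (d.v i)).coeff m
  let I : Ideal L := Ideal.span {x | ∃ i m, m ∉ F ∧ c i m = x}
  let E : Type u := L ⧸ I
  let q : L →ₐ[R] E := Ideal.Quotient.mkₐ R I
  let ψE : A →ₐ[R] MonoidAlgebra E (Multiplicative M) := SplitHom.push q (d.ptU F')
  let φ := SplitHom.famA ch g ψE
  have hψE : IsPt ψE := (d.isPt_ptU F').push q
  have hφ : AutFam.IsHomFamily (Red.DS S M) G φ := SplitHom.isHomFamily_famA ch g hψE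
  let U : (Cocycle.X j E).left.Opens := monoLocus φ
  let Z : Over S := Over.mk (U.ι ≫ (Cocycle.X j E).hom)
  let inc : Z ⟶ Cocycle.X j E := Over.homMk U.ι rfl
  haveI : IsClosedImmersion U.ι := IsClosedImmersion.of_isPreimmersion U.ι (by
    rw [Scheme.Opens.range_ι]
    exact isClosed_monoLocus φ hφ)
  haveI : IsAffine (Cocycle.X j E).left := inferInstanceAs (IsAffine (Spec (CommRingCat.of E)))
  haveI hZ : IsAffine Z.left := isAffine_of_isAffineHom U.ι
  have hmZ : MonoFam ((Red.DS S M ◁ inc) ≫ φ) := (monoFam_iff φ hφ inc).2 fun z => z.2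
  obtain ⟨a, ha⟩ := hX.exists_pt Z ((Red.DS S M ◁ inc) ≫ φ) (fun T z z' t => by
    rw [comp_whisker, comp_whisker, comp_whisker]
    exact hφ _ _ _ _) hmZ
  haveI : Mono inc.left := inferInstanceAs (Mono U.ι)
  haveI : Mono inc := Over.mono_of_mono_left _
  have hsrc : ∀ (C : Type u) [CommRing C] [Algebra R C] (z : Cocycle.X j C ⟶ Z),
      ∃ h : E →ₐ[R] C, z ≫ inc = Cocycle.mor j h ∧ CoefOf υ ch g (z ≫ a) (SplitHom.push h ψE) := by
    intro C _ _ z
    obtain ⟨h, hh⟩ := exists_mor_chart (z ≫ inc)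
    refine ⟨h, hh, ?_⟩
    unfold CoefOf
    rw [MonoidalCategory.whiskerLeft_comp_assoc, ha, ← MonoidalCategory.whiskerLeft_comp_assoc, hh]
    exact SplitHom.famA_res ch g ψE h
  refine ⟨Z, a, hZ, ?_, fun C _ _ b hb => ?_, fun C _ _ z => ?_, fun C _ _ z z' e => ?_⟩
  · rintro _ ⟨z, rfl⟩
    exact range_X_hom E ⟨U.ι z, rfl⟩
  · obtain ⟨ψ, hψ⟩ := exists_coefOf (υ := υ) ch g b
    have hpt := hψ.isPt ch g hX
    have h0 := hb ψ hψ
    have hu : IsUnit (evB ψ hpt (d.dB F')) := by rw [hF' C ψ hpt h0]; exact isUnit_one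
    let l : L →ₐ[R] C := d.liftPt ψ hpt hu
    have hl : I ≤ RingHom.ker l := Ideal.span_le.2 fun x hx => by
      obtain ⟨i, m, hm, rfl⟩ := hx
      show l ((d.ptU F' (d.v i)).coeff m) = 0
      rw [← SplitHom.coeff_push, Datum.push_liftPt]
      exact h0 i m hm
    let h : E →ₐ[R] C := Ideal.Quotient.liftₐ I l fun x hx => hl hx
    have hψ' : SplitHom.push h ψE = ψ := by
      rw [SplitHom.push_push, show h.comp q = l from Ideal.Quotient.liftₐ_comp _ _ _, Datum.push_liftPt]
    have hfam : (Red.DS S M ◁ Cocycle.mor j h) ≫ φ = (Red.DS S M ◁ b) ≫ υ := by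
      rw [SplitHom.famA_res, hψ']
      exact hψ.symm
    have hmono : MonoFam ((Red.DS S M ◁ Cocycle.mor j h) ≫ φ) := by
      rw [hfam]
      intro T t z hz
      rw [comp_whisker] at hz
      exact hX.mono T _ z hz
    have hr := (monoFam_iff φ hφ _).1 hmono
    let z : Cocycle.X j C ⟶ Z := Over.homMk (IsOpenImmersion.lift U.ι (Cocycle.mor j h).left (by
        rintro _ ⟨w, rfl⟩; rw [Scheme.Opens.range_ι]; exact hr w)) (by
      show _ ≫ U.ι ≫ (Cocycle.X j E).hom = _
      rw [IsOpenImmersion.lift_fac_assoc, Over.w (Cocycle.mor j h)])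
    have hz : z ≫ inc = Cocycle.mor j h := Over.OverMorphism.ext (IsOpenImmersion.lift_fac _ _ _)
    refine ⟨z, hX.pt_ext _ _ _ ?_⟩
    rw [MonoidalCategory.whiskerLeft_comp_assoc, ha, ← MonoidalCategory.whiskerLeft_comp_assoc, hz, hfam]
  · obtain ⟨h, -, hc⟩ := hsrc C z
    refine inF_of_coefOf ch g d hc fun i m hm => ?_
    rw [SplitHom.coeff_push, SplitHom.coeff_push]
    have : q (c i m) = 0 := Ideal.Quotient.eq_zero_iff_mem.2 (Ideal.subset_span ⟨i, m, hm, rfl⟩)
    exact (congrArg h this).trans (map_zero h)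
  · obtain ⟨h, hh, hc⟩ := hsrc C z
    obtain ⟨h', hh', hc'⟩ := hsrc C z'
    rw [e] at hc
    have hψ := hc.unique ch g hc'
    rw [SplitHom.push_push, SplitHom.push_push] at hψ
    have hcomp : h.comp q = h'.comp q := d.lu_hom_ext fun i m => by
      rw [← Datum.coeff_ptU, ← SplitHom.coeff_push, ← SplitHom.coeff_push, hψ]
    have hhh : h = h' := Ideal.Quotient.algHom_ext R hcomp
    rw [← cancel_mono inc, hh, hh', hhh]

end Points

end Groth.L24.MSub
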