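import Groth.Agent.L24.MSub.Bounded
import Groth.Agent.L20.Chevalley.Reduction
import Groth.Agent.L25.MaxTorus.Image
import Mathlib.AlgebraicGeometry.ValuativeCriterion
import Mathlib.AlgebraicGeometry.Morphisms.FlatDescent

/-!
# Quasi-compact schemes of subgroups isomorphic to a split group are affine

If a separated scheme parametrises images of monomorphisms of a split group, then each quasi-compact piece lying
over an affine open of the base is the image of an affine scheme of monomorphisms with bounded characters, by a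
universally closed morphism, hence is affine.
-/

set_option autoImplicit false
universe u

open CategoryTheory CategoryTheory.Limits MonoidalCategory CartesianMonoidalCategory AlgebraicGeometry
open scoped MonObj

set_option backward.isDefEq.respectTransparency.types false
set_option linter.style.haveILetI false

noncomputable section

namespace Groth.L24.MSub

open Groth.L25 Groth.L25.SplitSub Groth.L25.SplitHom Groth.L24.FinSub

variable {S : Scheme.{u}} {G : Over S} [GrpObj G] [IsAffineHom G.hom] [Smooth G.hom]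
  {M : Type} [AddCommGroup M] {X Ω : Over S} {υ : Red.DS S M ⊗ X ⟶ G}
  {R : Type u} [CommRing R] {j : Spec (CommRingCat.of R) ⟶ S} [IsOpenImmersion j]

/-- finitely many affine charts covering a quasi-compact open piece of the image -/
theorem exists_affine_chart (p : X ⟶ Ω) [Etale p.left] (W : Ω.left.Opens)
    (hW : (W : Set Ω.left) = Set.range p.left ∩ Ω.hom ⁻¹' Set.range j) (hc : IsCompact (W : Set Ω.left)) :
    ∃ (C : Type u) (_ : CommRing C) (_ : Algebra R C) (b : Cocycle.X j C ⟶ X),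
      Etale b.left ∧ Set.range (b ≫ p).left = (W : Set Ω.left) := by
  classical
  have hx : ∀ x : ↥(p.left ⁻¹ᵁ W), ∃ U : X.left.Opens, IsAffineOpen U ∧ x.1 ∈ U ∧ U ≤ p.left ⁻¹ᵁ W := fun x => by
    obtain ⟨U, hU, hxU, hle⟩ := exists_isAffineOpen_mem_and_subset (X := X.left) (x := x.1)
      (U := p.left ⁻¹ᵁ W) x.2
    exact ⟨U, hU, hxU, hle⟩
  choose U hU hxU hUW using hx
  have hcov : (W : Set Ω.left) ⊆ ⋃ x, p.left '' (U x : Set X.left) := fun w hw => by
    obtain ⟨x, hx⟩ := (hW.le hw).1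
    exact Set.mem_iUnion.2 ⟨⟨x, show p.left x ∈ W from hx.symm ▸ hw⟩, x, hxU _, hx⟩
  obtain ⟨t, ht⟩ := hc.elim_finite_subcover _ (fun x => p.left.isOpenMap _ (U x).2) hcov
  let e := t.equivFin.symm
  let Y : ULift.{u} (Fin t.card) → Over S := fun k => Over.mk ((U (e k.down).1).ι ≫ X.hom)
  let inc : ∀ k, Y k ⟶ X := fun k => Over.homMk (U (e k.down).1).ι rfl
  let T : Over S := sum Y
  let c : T ⟶ X := Over.homMk (Sigma.desc fun k => (inc k).left) (Sigma.hom_ext _ _ fun k => by simp [T, inc, Y])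
  haveI : ∀ k, IsAffine (Y k).left := fun k => hU _
  haveI : IsAffine T.left := inferInstanceAs (IsAffine (∐ fun k => (Y k).left))
  have hcr : ∀ w, p.left (c.left w) ∈ W := fun w => by
    obtain ⟨k, y, rfl⟩ := (sigmaOpenCover fun k => (Y k).left).exists_eq w
    show p.left ((Sigma.ι (fun k => (Y k).left) k ≫ c.left) y) ∈ W
    rw [show Sigma.ι (fun k => (Y k).left) k ≫ c.left = (inc k).left from Sigma.ι_desc _ _]
    exact hUW _ y.2
  have hT : Set.range T.hom ⊆ Set.range j := by
    rintro _ ⟨w, rfl⟩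
    have h := (hW.le (hcr w)).2
    rwa [Set.mem_preimage, ← Scheme.Hom.comp_apply, Over.w p, ← Scheme.Hom.comp_apply, Over.w c] at h
  obtain ⟨C, i₁, i₂, ⟨i⟩⟩ := exists_chart_alg (j := j) hT
  haveI : IsIso i.hom.left := inferInstanceAs (IsIso ((Over.forget _).map i.hom))
  haveI : Etale c.left := IsZariskiLocalAtSource.sigmaDesc (P := @Etale) fun k => inferInstanceAs (Etale (inc k).left)
  refine ⟨C, i₁, i₂, i.hom ≫ c, ?_, ?_⟩
  · show Etale (i.hom.left ≫ c.left)
    infer_instance
  · refine Set.Subset.antisymm ?_ fun w hw => ?_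
    · rintro _ ⟨z, rfl⟩
      exact hcr (i.hom.left z)
    · obtain ⟨x, hxt, y, hy, rfl⟩ := Set.mem_iUnion₂.1 (ht hw)
      obtain ⟨k, hk⟩ : ∃ k : ULift.{u} (Fin t.card), (e k.down).1 = x :=
        ⟨⟨t.equivFin ⟨x, hxt⟩⟩, by simp [e]⟩
      subst hk
      let z : T.left := Sigma.ι (fun k => (Y k).left) k ⟨y, hy⟩
      obtain ⟨z', hz'⟩ := i.hom.left.surjective z
      refine ⟨z', ?_⟩
      show p.left (c.left (i.hom.left z')) = p.left y
      rw [hz']
      congr 1
      show (Sigma.ι (fun k => (Y k).left) k ≫ c.left) ⟨y, hy⟩ = y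
      rw [show Sigma.ι (fun k => (Y k).left) k ≫ c.left = (inc k).left from Sigma.ι_desc _ _]
      rfl

variable {A : Type u} [CommRing A] [HopfAlgebra R A] [IsAffineHom (Red.DS S M).hom]
  (g : GChart j G A) (d : Datum R A)

/-- points with the same image and bounded characters generically are bounded -/
theorem exists_bounded_twist (hX : MPiece M X υ) (p : X ⟶ Ω)
    (hp : ∀ (Y : Over S) (a b : Y ⟶ X), a ≫ p = b ≫ p ↔
      ∀ (T : Over S) (t : T ⟶ Y) (x : T ⟶ G), Img υ (t ≫ a) x ↔ Img υ (t ≫ b) x)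
    {F : Finset (Multiplicative M)} {V K : Type u} [CommRing V] [Algebra R V] [Field K] [Algebra R K]
    (h : V →ₐ[R] K) (hinj : Function.Injective h) (b : Cocycle.X j V ⟶ X) (a : Cocycle.X j K ⟶ X)
    (ha : InF υ (chartDS j M) g d F a) (e : a ≫ p = (Cocycle.mor j h ≫ b) ≫ p) :
    ∃ b' : Cocycle.X j V ⟶ X, InF υ (chartDS j M) g d F b' ∧ b' ≫ p = b ≫ p ∧ Cocycle.mor j h ≫ b' = a := by
  haveI : Subsingleton (Cocycle.X j K).left := inferInstanceAs (Subsingleton (Spec (CommRingCat.of K)))
  let y : (Cocycle.X j K).left := (⊥ : PrimeSpectrum K)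
  obtain ⟨U, hy, ε, hε⟩ := exists_local_iso hX hX a (Cocycle.mor j h ≫ b) ((hp _ _ _).1 e) y
  obtain ⟨b', hb'⟩ := hX.exists_twisted hX ε.symm b
  have hfac : Cocycle.mor j h ≫ b' = a := by
    refine hX.eq_of_pts _ _ fun T t z => ?_
    rw [← Category.assoc, hb', ← hε T t (fun w => by rw [Subsingleton.elim (t.left w) y]; exact hy) z,
      Category.assoc]
    rfl
  refine ⟨b', InF.of_injective (chartDS j M) g d h hinj (by rw [hfac]; exact ha), (hp _ _ _).2 fun T t x => ?_, hfac⟩
  constructor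
  · rintro ⟨z, rfl⟩
    exact ⟨_, (hb' T t z).symm⟩
  · rintro ⟨z, rfl⟩
    refine ⟨z ≫ Red.DSmap S (ε.symm : M →+ M), ?_⟩
    rw [hb', Category.assoc, TorusTorsion.DSmap_comp]
    rw [show (ε.symm : M →+ M).comp ((ε.symm).symm : M →+ M) = AddMonoidHom.id M from
      AddMonoidHom.ext fun m => ε.symm_apply_apply m, TorusTorsion.DSmap_id, Category.comp_id]

omit [IsAffineHom (Red.DS S M).hom] in
/-- quasi-compact pieces over affine opens are affine -/
theorem isAffine_image (hX : MPiece M X υ) (p : X ⟶ Ω) [Etale p.left] [IsSeparated Ω.hom]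
    (hp : ∀ (Y : Over S) (a b : Y ⟶ X), a ≫ p = b ≫ p ↔
      ∀ (T : Over S) (t : T ⟶ Y) (x : T ⟶ G), Img υ (t ≫ a) x ↔ Img υ (t ≫ b) x)
    (W : Ω.left.Opens) (hW : (W : Set Ω.left) = Set.range p.left ∩ Ω.hom ⁻¹' Set.range j)
    (hc : IsCompact (W : Set Ω.left)) : IsAffine W.toScheme := by
  haveI := MaxTorus.isAffineHom_DS S M
  haveI : Flat G.hom := inferInstance
  obtain ⟨A, iA, iH, g, d, -⟩ := SplitHom.exists_gchart_datum G j
  obtain ⟨C, iC, iAC, b, hbe, hbW⟩ := exists_affine_chart (j := j) p W hW hc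
  obtain ⟨F, hF⟩ := exists_inF (υ := υ) (chartDS j M) g d b
  obtain ⟨Z, a, hZaff, hZr, hlift, hinF, hinj⟩ := exists_bounded (chartDS j M) g d hX F
  haveI := hZaff
  have hZW : Set.range (a ≫ p).left ⊆ Set.range W.ι := by
    rw [Scheme.Opens.range_ι]
    rintro _ ⟨z, rfl⟩
    refine hW.ge ⟨⟨a.left z, rfl⟩, ?_⟩
    rw [Set.mem_preimage, ← Scheme.Hom.comp_apply, Over.w (a ≫ p)]
    exact hZr ⟨z, rfl⟩
  let q : Z.left ⟶ W.toScheme := IsOpenImmersion.lift W.ι (a ≫ p).left hZW
  have hq : q ≫ W.ι = (a ≫ p).left := IsOpenImmersion.lift_fac _ _ _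
  let σ : (Cocycle.X j C).left ⟶ W.toScheme := IsOpenImmersion.lift W.ι (b ≫ p).left (by
    rw [Scheme.Opens.range_ι, hbW])
  have hσ : σ ≫ W.ι = (b ≫ p).left := IsOpenImmersion.lift_fac _ _ _
  haveI : IsAffine (Cocycle.X j C).left := inferInstanceAs (IsAffine (Spec (CommRingCat.of C)))
  haveI : W.toScheme.IsSeparated := by
    have hr : Set.range (W.ι ≫ Ω.hom) ⊆ Set.range j := by
      rintro _ ⟨w, rfl⟩
      exact (hW.le w.2).2
    haveI : IsSeparated (IsOpenImmersion.lift j (W.ι ≫ Ω.hom) hr ≫ j) := by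
      rw [IsOpenImmersion.lift_fac]
      infer_instance
    haveI : IsSeparated (IsOpenImmersion.lift j (W.ι ≫ Ω.hom) hr) := IsSeparated.of_comp _ j
    exact ⟨by rw [← terminal.comp_from (IsOpenImmersion.lift j (W.ι ≫ Ω.hom) hr)]; infer_instance⟩
  haveI : QuasiCompact σ := inferInstance
  haveI : IsSeparated (terminal.from W.toScheme) := Scheme.IsSeparated.isSeparated_terminal_from
  haveI : IsAffineHom q :=
    MorphismProperty.of_postcomp (W := @IsAffineHom) (W' := @IsSeparated) q (terminal.from W.toScheme) ‹_›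
      (by rw [terminal.comp_from]; infer_instance)
  haveI hσe : Etale σ := by
    haveI : Etale (σ ≫ W.ι) := by
      rw [hσ, Over.comp_left]
      infer_instance
    exact Etale.of_comp σ W.ι
  haveI hσs : Surjective σ := ⟨fun w => by
    obtain ⟨x, hx⟩ := hbW.ge w.2
    refine ⟨x, W.ι.isOpenEmbedding.injective ?_⟩
    rw [← Scheme.Hom.comp_apply, hσ]
    exact hx⟩
  haveI : Surjective q := ⟨fun w => by
    obtain ⟨x, rfl⟩ := σ.surjective w
    let K : Type u := (Spec (CommRingCat.of C)).residueField x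
    let θ : CommRingCat.of C ⟶ CommRingCat.of K := Spec.preimage ((Spec (CommRingCat.of C)).fromSpecResidueField x)
    letI : Algebra R K := (θ.hom.comp (algebraMap R C)).toAlgebra
    let f : C →ₐ[R] K := { θ.hom with commutes' := fun _ => rfl }
    obtain ⟨z, hz⟩ := hlift K (Cocycle.mor j f ≫ b) (hF.comp (chartDS j M) g d f)
    let x₀ : (Cocycle.X j K).left := (⊥ : PrimeSpectrum K)
    refine ⟨z.left x₀, W.ι.isOpenEmbedding.injective ?_⟩
    have hx₀ : (Cocycle.mor j f).left x₀ = x := by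
      show (Spec.map θ) x₀ = x
      rw [Spec.map_preimage]
      exact Scheme.fromSpecResidueField_apply x x₀
    rw [← Scheme.Hom.comp_apply q, hq, ← Scheme.Hom.comp_apply σ, hσ, ← Scheme.Hom.comp_apply, ← Over.comp_left,
      ← Category.assoc, hz, Category.assoc, Over.comp_left, Scheme.Hom.comp_apply, hx₀]⟩
  haveI : UniversallyClosed q := by
    refine MorphismProperty.of_pullback_snd_of_descendsAlong (P := @UniversallyClosed)
      (Q := @Surjective ⊓ @Flat ⊓ @QuasiCompact) (f := q) (g := σ) ⟨⟨hσs, inferInstance⟩, inferInstance⟩ ?_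
    refine UniversallyClosed.of_valuativeCriterion _ ?_
    rintro ⟨V, K, i₁, i₂, ⟨w⟩⟩
    obtain ⟨θ, rfl⟩ := Spec.map_surjective i₂
    letI : Algebra R V := (θ.hom.comp (algebraMap R C)).toAlgebra
    letI : Algebra R K := ((algebraMap V K).comp (algebraMap R V)).toAlgebra
    let f : C →ₐ[R] V := { θ.hom with commutes' := fun _ => rfl }
    let h : V →ₐ[R] K := { algebraMap V K with commutes' := fun _ => rfl }
    have hinjK : Function.Injective h := FaithfulSMul.algebraMap_injective V K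
    let bV : Cocycle.X j V ⟶ X := Cocycle.mor j f ≫ b
    have hk : (i₁ ≫ pullback.fst q σ) ≫ (a ≫ p).left = ((Cocycle.mor j h ≫ bV) ≫ p).left := by
      rw [← hq, Category.assoc, pullback.condition_assoc, ← Category.assoc i₁, w]
      show _ = (Spec.map (CommRingCat.ofHom (algebraMap V K)) ≫ (Spec.map θ ≫ b.left)) ≫ p.left
      simp only [Category.assoc, hσ, Over.comp_left]
    let zK : Cocycle.X j K ⟶ Z := Over.homMk (i₁ ≫ pullback.fst q σ) (by
      rw [← Over.w (a ≫ p), ← Category.assoc, hk, Over.w ((Cocycle.mor j h ≫ bV) ≫ p)])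
    have e : (zK ≫ a) ≫ p = (Cocycle.mor j h ≫ bV) ≫ p := Over.OverMorphism.ext (by
      rw [Category.assoc, Over.comp_left]
      exact hk)
    obtain ⟨b', hb'F, hb'p, hb'K⟩ := exists_bounded_twist g d hX p hp h hinjK bV (zK ≫ a) (hinF K zK) e
    obtain ⟨zV, hzV⟩ := hlift V b' hb'F
    have hres : Cocycle.mor j h ≫ zV = zK := hinj K _ _ (by rw [Category.assoc, hzV, hb'K])
    have hcond : zV.left ≫ q = Spec.map θ ≫ σ := by
      rw [← cancel_mono W.ι, Category.assoc, Category.assoc, hq, hσ, ← Over.comp_left, ← Category.assoc, hzV, hb'p]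
      rfl
    refine ⟨⟨⟨pullback.lift zV.left (Spec.map θ) hcond, ?_, pullback.lift_snd _ _ _⟩⟩⟩
    apply pullback.hom_ext
    · rw [Category.assoc, pullback.lift_fst]
      exact congrArg (fun k => k.left) hres
    · rw [Category.assoc, pullback.lift_snd]
      exact w.symm
  exact Groth.L20.Chevalley.isAffine_of_surjective_universallyClosed q

end Groth.L24.MSub
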