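import Groth.Agent.L24.MSub.Univ
import Groth.Agent.L20.QuasiAffine
import Groth.Agent.S1402
import Mathlib.AlgebraicGeometry.Morphisms.QuasiFinite

/-!
# The scheme of subgroups of multiplicative type is ind-quasi-affine
-/

set_option autoImplicit false
universe u

open CategoryTheory CategoryTheory.Limits MonoidalCategory CartesianMonoidalCategory AlgebraicGeometry
open scoped MonObj

set_option backward.isDefEq.respectTransparency.types false
set_option linter.style.haveILetI false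

noncomputable section

namespace Groth.L24.MSub

open Groth.L25 Groth.L25.SplitSub Groth.L24.FinSub

variable {S : Scheme.{u}}

/-- a sum of affine morphisms is ind-quasi-affine -/
theorem isIndQuasiAffineHom_sigmaDesc {J : Type u} {X : J → Scheme.{u}} (h : ∀ i, X i ⟶ S)
    (hh : ∀ i, IsAffineHom (h i)) : MoreMor.IsIndQuasiAffineHom (Sigma.desc h) := by
  rw [Groth.L20.isIndQuasiAffineHom_iff]
  intro V hV U hUV hU
  let O : J → (∐ X).Opens := fun i => Sigma.ι X i ''ᵁ (h i ⁻¹ᵁ V)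
  obtain ⟨t, ht⟩ := hU.elim_finite_subcover (fun i => (O i : Set ↥(∐ X))) (fun i => (O i).2)
    fun x hx => by
      obtain ⟨i, y, rfl⟩ := (sigmaOpenCover X).exists_eq x
      refine Set.mem_iUnion.2 ⟨i, y, ?_, rfl⟩
      have h1 := hUV hx
      change (Sigma.desc h) (Sigma.ι X i y) ∈ V at h1
      rw [← Scheme.Hom.comp_apply, Sigma.ι_desc] at h1
      exact h1
  have hO : IsAffineOpen (⨆ i ∈ (t : Set J), O i) :=
    IsAffineOpen.biSup_of_disjoint t.finite_toSet
      (fun i _ => by haveI := hh i; exact (hV.preimage (h i)).image_of_isOpenImmersion _)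
      fun i _ i' _ hne => (disjoint_opensRange_sigmaι X i i' hne).mono
        (Scheme.Hom.image_le_opensRange _ _) (Scheme.Hom.image_le_opensRange _ _)
  have : IsAffine (⨆ i ∈ (t : Set J), O i : (∐ X).Opens).toScheme := hO
  refine Groth.L20.isQuasiAffine_of_le (W := ⨆ i ∈ (t : Set J), O i) (fun x hx => ?_) hU
  simp only [SetLike.mem_coe, TopologicalSpace.Opens.mem_iSup]
  obtain ⟨i, hi, hxi⟩ := Set.mem_iUnion₂.1 (ht hx)
  exact ⟨i, hi, hxi⟩

namespace MRep

variable {G : Over S} [GrpObj G] [IsAffineHom G.hom] [Smooth G.hom] (R : MRep G)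

/-- around every point some level is etale -/
theorem exists_etale_level (x : R.A.left) :
    ∃ (O : R.A.left.Opens) (n : ℕ), x ∈ O ∧ Etale (O.ι ≫ (R.sec.1 n).left) := by
  obtain ⟨y, rfl⟩ := R.proj.left.surjective x
  obtain ⟨i, z, rfl⟩ := (sigmaOpenCover fun i => (R.Δ.X i).left).exists_eq y
  obtain ⟨C, hi, hz⟩ := R.Δ.exists_chart i z
  subst hi
  haveI := C.etale
  haveI : Etale (C.W.ι ≫ (R.pti C.i).left) := inferInstance
  let m := C.W.ι ≫ (R.pti C.i).left
  let O : R.A.left.Opens := ⟨Set.range m, m.isOpenMap.isOpen_range⟩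
  let q : C.W.toScheme ⟶ O.toScheme := IsOpenImmersion.lift O.ι m (by rw [Scheme.Opens.range_ι]; exact subset_rfl)
  have hq : q ≫ O.ι = m := IsOpenImmersion.lift_fac _ _ _
  haveI : Etale (q ≫ O.ι) := by rw [hq]; infer_instance
  haveI : Etale q := Etale.of_comp q O.ι
  haveI : Surjective q := ⟨fun a => by
    obtain ⟨w, hw⟩ := a.2
    refine ⟨w, Subtype.ext ?_⟩
    show (q ≫ O.ι) w = a.1
    rw [hq]; exact hw⟩
  refine ⟨O, C.n, ⟨⟨z, hz⟩, ?_⟩, Groth.L23.etale_of_etale_comp' q _ ?_⟩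
  · show (R.pti C.i).left z = R.proj.left (Sigma.ι (fun i => (R.Δ.X i).left) C.i z)
    rw [← Scheme.Hom.comp_apply]
    exact (congr($(congrArg (fun k : R.Δ.X C.i ⟶ R.A => k.left) (R.inc_proj C.i)) z)).symm
  · rw [← Category.assoc, hq, Category.assoc, ← Over.comp_left, R.pti_sec]
    exact C.etale

/-- finitely many levels at once -/
theorem exists_levels (l : List ℕ) : ∃ (P : Over S) (Φ : R.A ⟶ P), MoreMor.IsIndQuasiAffineHom P.hom ∧
    IsSeparated P.hom ∧ LocallyOfFiniteType P.hom ∧ ∀ n ∈ l, ∃ p : P ⟶ R.Δ.D.tot, Φ ≫ p = R.sec.1 n := by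
  induction l with
  | nil =>
    refine ⟨𝟙_ (Over S), toUnit R.A, ?_, ?_, ?_, fun n hn => absurd hn List.not_mem_nil⟩
    · exact Groth.L20.isIndQuasiAffineHom_of_isImmersion (𝟙 S)
    · exact inferInstanceAs (IsSeparated (𝟙 S))
    · exact inferInstanceAs (LocallyOfFiniteType (𝟙 S))
  | cons m l ih =>
    obtain ⟨P, Φ, hq, hs, hl, hf⟩ := ih
    haveI := hs; haveI := hl
    haveI : IsSeparated R.Δ.D.tot.hom := isSeparated_sigmaDesc _ fun i => by
      haveI := (R.Δ.D.quot i).affine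
      infer_instance
    haveI := R.Δ.D.locallyOfFinitePresentation_tot
    refine ⟨P ⊗ R.Δ.D.tot, lift Φ (R.sec.1 m), ?_, ?_, ?_, fun n hn => ?_⟩
    · show MoreMor.IsIndQuasiAffineHom (pullback.fst P.hom R.Δ.D.tot.hom ≫ P.hom)
      exact Groth.L20.isIndQuasiAffineHom_comp (Groth.L20.isIndQuasiAffineHom_of_isPullback
        (IsPullback.of_hasPullback P.hom R.Δ.D.tot.hom).flip
        (isIndQuasiAffineHom_sigmaDesc _ fun i => (R.Δ.D.quot i).affine)) hq
    · show IsSeparated (pullback.fst P.hom R.Δ.D.tot.hom ≫ P.hom)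
      infer_instance
    · show LocallyOfFiniteType (pullback.fst P.hom R.Δ.D.tot.hom ≫ P.hom)
      infer_instance
    · rcases List.mem_cons.1 hn with rfl | hn
      · exact ⟨snd P R.Δ.D.tot, lift_snd _ _⟩
      · obtain ⟨p, hp⟩ := hf n hn
        exact ⟨fst P R.Δ.D.tot ≫ p, by rw [← Category.assoc, lift_fst, hp]⟩

/-- the scheme of subgroups of multiplicative type is ind-quasi-affine -/
theorem isIndQuasiAffineHom_A : MoreMor.IsIndQuasiAffineHom R.A.hom := by
  rw [Groth.L20.isIndQuasiAffineHom_iff]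
  intro V hV U hUV hU
  choose O n hxO het using R.exists_etale_level
  obtain ⟨t, ht⟩ := hU.elim_finite_subcover (fun x => (O x : Set R.A.left)) (fun x => (O x).2)
    fun x _ => Set.mem_iUnion.2 ⟨x, hxO x⟩
  obtain ⟨P, Φ, hP, hPs, hPl, hp⟩ := R.exists_levels (t.toList.map n)
  haveI := hPs; haveI := hPl
  haveI := R.separated; haveI := R.smooth
  let g : U.toScheme ⟶ P.left := U.ι ≫ Φ.left
  haveI : IsSeparated (g ≫ P.hom) := by rw [Category.assoc, Over.w Φ]; infer_instance
  haveI : LocallyOfFiniteType (g ≫ P.hom) := by rw [Category.assoc, Over.w Φ]; infer_instance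
  haveI : IsSeparated g := IsSeparated.of_comp g P.hom
  haveI : LocallyOfFiniteType g := locallyOfFiniteType_of_comp g P.hom
  have hcov : ∀ z : U.toScheme, ∃ x ∈ t, z.1 ∈ O x := fun z => by
    obtain ⟨x, hx, hzx⟩ := Set.mem_iUnion₂.1 (ht z.2)
    exact ⟨x, hx, hzx⟩
  choose c hct hc using hcov
  haveI : LocallyQuasiFinite g := by
    refine IsZariskiLocalAtSource.of_openCover (P := @LocallyQuasiFinite)
      (Scheme.Cover.mkOfCovers U.toScheme (fun z => (U.ι ⁻¹ᵁ O (c z)).toScheme) (fun z => (U.ι ⁻¹ᵁ O (c z)).ι)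
        (fun z => ⟨z, ⟨z, hc z⟩, rfl⟩) (fun _ => inferInstance)) fun (z : U.toScheme) => ?_
    show LocallyQuasiFinite ((U.ι ⁻¹ᵁ O (c z)).ι ≫ g)
    obtain ⟨p, hp⟩ := hp (n (c z)) (List.mem_map.2 ⟨c z, Finset.mem_toList.2 (hct z), rfl⟩)
    haveI := het (c z)
    haveI : LocallyQuasiFinite (((U.ι ⁻¹ᵁ O (c z)).ι ≫ g) ≫ p.left) := by
      rw [Category.assoc, Category.assoc, ← Over.comp_left, hp, ← Category.assoc, ← morphismRestrict_ι,
        Category.assoc]
      infer_instance
    exact LocallyQuasiFinite.of_comp _ p.left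
  have h1 := Groth.L20.isIndQuasiAffineHom_comp (Groth.Agent.S1402.result g) hP
  rw [Category.assoc, Over.w Φ, Groth.L20.isIndQuasiAffineHom_iff] at h1
  haveI : CompactSpace U := isCompact_iff_compactSpace.mp hU
  haveI := h1 V hV ⊤ (fun z _ => hUV z.2) isCompact_univ
  exact Scheme.IsQuasiAffine.of_isImmersion U.toScheme.topIso.inv

end MRep

end Groth.L24.MSub
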