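import Groth.Agent.L24.MSub.Piece
import Groth.Agent.L25.DiagIso
import Groth.Agent.L20.FibreScheme
import Mathlib.GroupTheory.FiniteAbelian.Basic
import Mathlib.RingTheory.FinitePresentation

/-!
# Torsion detects containment of diagonalisable subgroups over an affine base

Over an affine scheme a closed subscheme of finite presentation of a diagonalisable group of finite type contains the
whole group as soon as it contains the `N`-torsion, for `N` large enough and uniformly in base changes.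
-/

set_option autoImplicit false
universe u

open CategoryTheory CategoryTheory.Limits MonoidalCategory CartesianMonoidalCategory AlgebraicGeometry
open scoped MonObj

set_option backward.isDefEq.respectTransparency.types false
set_option linter.style.haveILetI false

noncomputable section

namespace Groth.L24.MSub

open Groth.L25 Groth.L25.SplitSub Groth.L24.FinSub

variable {M : Type} [AddCommGroup M]

/-- a finitely generated abelian group is residually finite, uniformly on finite sets -/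
theorem exists_nsmul_sep (hM : AddGroup.FG M) (s : Finset M) :
    ∃ N : ℕ, 0 < N ∧ ∀ d ∈ s, (∃ m, N • m = d) → d = 0 := by
  classical
  haveI := hM
  obtain ⟨n, jZ, _, p, hp, e, ⟨φ⟩⟩ := AddCommGroup.equiv_free_prod_directSum_zmod M
  let F := DirectSum jZ fun i => ZMod (p i ^ e i)
  haveI : ∀ i, NeZero (p i ^ e i) := fun i => ⟨(pow_pos (hp i).pos _).ne'⟩
  haveI : Finite F := Finite.of_equiv _ (DirectSum.linearEquivFunOnFintype ℕ jZ fun i => ZMod (p i ^ e i)).symm.toEquiv
  let k := Nat.card F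
  have hk : 0 < k := Nat.card_pos
  let B := s.sup fun d => Finset.univ.sup fun i : Fin n => ((φ d).1 i).natAbs
  refine ⟨k * (B + 1), Nat.mul_pos hk B.succ_pos, fun d hd ⟨m, hm⟩ => ?_⟩
  have h1 : (k * (B + 1)) • (φ m) = φ d := by rw [← map_nsmul, hm]
  have h2 : (φ m).2 = (φ m).2 := rfl
  have hd2 : (φ d).2 = 0 := by
    rw [← h1, Prod.smul_snd, mul_comm, mul_smul, card_nsmul_eq_zero', smul_zero]
  have hd1 : (φ d).1 = 0 := by
    ext i
    have hb : ((φ d).1 i).natAbs ≤ B := (Finset.le_sup (f := fun i : Fin n => ((φ d).1 i).natAbs)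
      (Finset.mem_univ i)).trans (Finset.le_sup (f := fun d => Finset.univ.sup fun i : Fin n => ((φ d).1 i).natAbs) hd)
    rw [← h1, Prod.smul_fst, Finsupp.smul_apply, Finsupp.zero_apply]
    rw [← h1, Prod.smul_fst, Finsupp.smul_apply, nsmul_eq_mul, Int.natAbs_mul, Int.natAbs_natCast] at hb
    by_contra hne
    have hm0 : ((φ m).1 i).natAbs ≠ 0 := fun h0 => hne (by rw [Int.natAbs_eq_zero.1 h0, smul_zero])
    have hle : k * (B + 1) ≤ k * (B + 1) * ((φ m).1 i).natAbs := Nat.le_mul_of_pos_right _ (Nat.pos_of_ne_zero hm0)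
    have hge : B + 1 ≤ k * (B + 1) := Nat.le_mul_of_pos_left _ hk
    omega
  exact φ.injective (by rw [map_zero]; exact Prod.ext hd1 hd2)

/-- the subgroup of multiples -/
abbrev mulN (M : Type) [AddCommGroup M] (N : ℕ) : AddSubgroup M := (nsmulAddMonoidHom N).range

theorem mem_mulN {N : ℕ} {d : M} : d ∈ mulN M N ↔ ∃ m, N • m = d := AddMonoidHom.mem_range

/-- reduction of characters -/
abbrev redN (M : Type) [AddCommGroup M] (N : ℕ) : Multiplicative M →* Multiplicative (M ⧸ mulN M N) :=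
  AddMonoidHom.toMultiplicative (QuotientAddGroup.mk' (mulN M N))

theorem map_eq_zero_of_red {A B : Type u} [CommRing A] [CommRing B] (h : A →+* B)
    (f : MonoidAlgebra A (Multiplicative M)) (N : ℕ)
    (hN : ∀ x ∈ f.coeff.support, ∀ y ∈ f.coeff.support, x.toAdd - y.toAdd ∈ mulN M N → x = y)
    (h0 : MonoidAlgebra.mapDomainRingHom B (redN M N) (MonoidAlgebra.mapRingHom _ h f) = 0) :
    MonoidAlgebra.mapRingHom _ h f = 0 := by
  classical
  set g := MonoidAlgebra.mapRingHom (Multiplicative M) h f with hg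
  have hsupp : g.coeff.support ⊆ f.coeff.support := fun x hx => by
    rw [Finsupp.mem_support_iff] at hx ⊢
    intro h'
    exact hx (by rw [hg, MonoidAlgebra.coeff_mapRingHom, h', map_zero])
  have hinj : Set.InjOn (redN M N) (f.coeff.support : Set (Multiplicative M)) := fun x hx y hy e => by
    refine hN x (Finset.mem_coe.1 hx) y (Finset.mem_coe.1 hy) ?_
    exact QuotientAddGroup.eq_iff_sub_mem.1 e
  have h1 : Finsupp.mapDomain (redN M N) g.coeff = 0 := congrArg MonoidAlgebra.coeff h0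
  ext x
  by_cases hx : x ∈ f.coeff.support
  · have := Finsupp.mapDomain_apply' _ g.coeff (Finset.coe_subset.2 hsupp) hinj (Finset.mem_coe.2 hx)
    rw [h1] at this
    exact this.symm
  · exact Finsupp.notMem_support_iff.1 fun h' => hx (hsupp h')

theorem eq_zero_of_flat_cover {T : Scheme.{u}} (s : Γ(T, ⊤))
    (h : ∀ x : T, ∃ (V : Scheme.{u}) (g : V ⟶ T), Flat g ∧ x ∈ Set.range g ∧ g.appTop s = 0) : s = 0 := by
  refine TopCat.Presheaf.section_ext T.sheaf ⊤ _ _ fun x hx => ?_
  obtain ⟨V, g, hg, ⟨y, rfl⟩, hs⟩ := h x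
  refine stalkMap_injective' g y ?_
  change g.stalkMap y (T.presheaf.germ ⊤ _ hx s) = g.stalkMap y (T.presheaf.germ ⊤ _ hx 0)
  rw [Scheme.Hom.germ_stalkMap_apply, Scheme.Hom.germ_stalkMap_apply]
  exact congrArg _ (hs.trans (map_zero _).symm)

theorem char_pow {S : Scheme.{u}} {T : Over S} (x : T ⟶ Red.DS S M) (N : ℕ) :
    DSPts.char (x ^ N) = DSPts.char x ^ N := by
  induction N with
  | zero => rw [pow_zero, pow_zero, DSPts.char_one]
  | succ n ih => rw [pow_succ, pow_succ, DSPts.char_mul, ih]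

section Affine

variable (A : Type u) [CommRing A] {T T' : Over (Spec (CommRingCat.of A))}

/-- the ring map of a point of the diagonalisable group over an affine base -/
def evPt (x : T ⟶ Red.DS (Spec (CommRingCat.of A)) M) : DiagIso.RM A M →+* Γ(T.left, ⊤) :=
  ((Scheme.ΓSpecIso (CommRingCat.of (DiagIso.RM A M))).inv ≫ (x.left ≫ DiagIso.rhoL A M).appTop).hom

theorem evPt_single (x : T ⟶ Red.DS (Spec (CommRingCat.of A)) M) (m : Multiplicative M) :
    evPt A x (MonoidAlgebra.single m 1) = DSPts.char x m := by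
  show (x.left ≫ DiagIso.rhoL A M).appTop ((Scheme.ΓSpecIso (CommRingCat.of (DiagIso.RM A M))).inv _) = _
  rw [GmPts.appTop_comp_apply]
  refine (congrArg x.left.appTop ((DiagIso.rhoL_appTop A M _).trans (DiagIso.psi_of A M m))).trans ?_
  exact ((DSPts.char_comp x (𝟙 _) m).symm.trans (by rw [Category.comp_id]))

theorem evPt_algebraMap (x : T ⟶ Red.DS (Spec (CommRingCat.of A)) M) (r : A) :
    evPt A x (algebraMap A _ r) = T.hom.appTop ((Scheme.ΓSpecIso (CommRingCat.of A)).inv r) := by
  show (x.left ≫ DiagIso.rhoL A M).appTop ((Scheme.ΓSpecIso (CommRingCat.of (DiagIso.RM A M))).inv _) = _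
  rw [GmPts.appTop_comp_apply]
  refine (congrArg x.left.appTop ((DiagIso.rhoL_appTop A M _).trans (DiagIso.psi_algebraMap A M r))).trans ?_
  rw [← GmPts.appTop_comp_apply, Over.w x]

theorem evPt_comp (c : T' ⟶ T) (x : T ⟶ Red.DS (Spec (CommRingCat.of A)) M) (r : DiagIso.RM A M) :
    evPt A (c ≫ x) r = c.left.appTop (evPt A x r) := by
  show ((c.left ≫ x.left) ≫ DiagIso.rhoL A M).appTop _ = c.left.appTop ((x.left ≫ DiagIso.rhoL A M).appTop _)
  rw [Category.assoc, GmPts.appTop_comp_apply]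

theorem toSpecΓ_evPt (x : T ⟶ Red.DS (Spec (CommRingCat.of A)) M) :
    T.left.toSpecΓ ≫ Spec.map (CommRingCat.ofHom (evPt A x)) = x.left ≫ DiagIso.rhoL A M := by
  show T.left.toSpecΓ ≫ Spec.map ((Scheme.ΓSpecIso (CommRingCat.of (DiagIso.RM A M))).inv ≫
    (x.left ≫ DiagIso.rhoL A M).appTop) = _
  rw [Spec.map_comp, ← Scheme.toSpecΓ_naturality_assoc, ← SpecMap_ΓSpecIso_hom, ← Spec.map_comp,
    Iso.inv_hom_id, Spec.map_id, Category.comp_id]

variable {A}

theorem exists_level (hM : AddGroup.FG M) {Z : Scheme.{u}} (jZ : Z ⟶ (Red.DS (Spec (CommRingCat.of A)) M).left)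
    [IsClosedImmersion jZ] [LocallyOfFinitePresentation jZ] :
    ∃ N : ℕ, 0 < N ∧ ∀ (Y : Over (Spec (CommRingCat.of A))),
      (∀ (T : Over (Spec (CommRingCat.of A))) (_ : T ⟶ Y) (x : T ⟶ Red.DS (Spec (CommRingCat.of A)) M),
        x ^ N = 1 → ∃ w, w ≫ jZ = x.left) →
      ∀ (T : Over (Spec (CommRingCat.of A))) (_ : T ⟶ Y) (x : T ⟶ Red.DS (Spec (CommRingCat.of A)) M),
        ∃ w, w ≫ jZ = x.left := by
  classical
  let R : Type u := DiagIso.RM A M
  haveI : IsIso (DiagIso.rho A M) := ⟨DiagIso.theta A M, DiagIso.rho_theta A M, DiagIso.theta_rho A M⟩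
  haveI : IsIso (DiagIso.rhoL A M) := inferInstanceAs (IsIso ((Over.forget _).map (DiagIso.rho A M)))
  have hc : IsClosedImmersion (jZ ≫ DiagIso.rhoL A M) := inferInstance
  obtain ⟨I, e, he⟩ := (IsClosedImmersion.Spec_iff (R := CommRingCat.of R)).1 hc
  have hfp : (Ideal.Quotient.mk I).FinitePresentation := by
    have h1 : LocallyOfFinitePresentation (Spec.map (CommRingCat.ofHom (Ideal.Quotient.mk I))) := by
      rw [show Spec.map (CommRingCat.ofHom (Ideal.Quotient.mk I)) = e.inv ≫ jZ ≫ DiagIso.rhoL A M by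
        rw [he]; exact (e.inv_hom_id_assoc _).symm]
      infer_instance
    exact (HasRingHomProperty.Spec_iff (P := @LocallyOfFinitePresentation)).1 h1
  have hI : I.FG := by
    haveI : Algebra.FinitePresentation R (R ⧸ I) := RingHom.finitePresentation_algebraMap.1
      (by rw [Ideal.Quotient.algebraMap_eq]; exact hfp)
    have := Algebra.FinitePresentation.ker_fG_of_surjective (Ideal.Quotient.mkₐ R I) (Ideal.Quotient.mkₐ_surjective R I)
    rwa [show RingHom.ker (Ideal.Quotient.mkₐ R I).toRingHom = I from Ideal.mk_ker] at this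
  obtain ⟨F, hF⟩ := hI
  let supp := F.biUnion fun f : R => f.coeff.support
  obtain ⟨N, hN0, hN⟩ := exists_nsmul_sep hM ((supp ×ˢ supp).image fun q => q.1.toAdd - q.2.toAdd)
  refine ⟨N, hN0, fun Y hY T q x => ?_⟩
  have hkill : I ≤ RingHom.ker (evPt A x) := by
    rw [← hF, Ideal.span_le]
    intro f hf
    show evPt A x f = 0
    refine eq_zero_of_flat_cover _ fun z => ?_
    obtain ⟨i, y, hy⟩ := T.left.affineCover.exists_eq z
    let B : CommRingCat.{u} := Γ(T.left.affineCover.X i, ⊤)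
    let g : Spec B ⟶ T.left := (T.left.affineCover.X i).isoSpec.inv ≫ T.left.affineCover.f i
    refine ⟨Spec B, g, inferInstance, ⟨(T.left.affineCover.X i).isoSpec.hom y, ?_⟩, ?_⟩
    · show (T.left.affineCover.f i) ((T.left.affineCover.X i).isoSpec.inv ((T.left.affineCover.X i).isoSpec.hom y)) = z
      rw [← Scheme.Hom.comp_apply _ (T.left.affineCover.X i).isoSpec.inv, Iso.hom_inv_id]
      exact hy
    let h : CommRingCat.of A ⟶ B := Spec.preimage (g ≫ T.hom)
    have hh : Spec.map h = g ≫ T.hom := Spec.map_preimage _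
    let Bq : CommRingCat.{u} := CommRingCat.of (MonoidAlgebra B (Multiplicative (M ⧸ mulN M N)))
    let cq : B ⟶ Bq := CommRingCat.ofHom (algebraMap B Bq)
    let T₀ : Over (Spec (CommRingCat.of A)) := Over.mk (Spec.map cq ≫ g ≫ T.hom)
    let c₀ : T₀ ⟶ T := Over.homMk (Spec.map cq ≫ g) (Category.assoc _ _ _)
    let χ₀ : Multiplicative M →* Γ(T₀.left, ⊤) :=
      ((Scheme.ΓSpecIso Bq).inv.hom.toMonoidHom.comp (MonoidAlgebra.of B _)).comp (redN M N)
    let x₀ : T₀ ⟶ Red.DS (Spec (CommRingCat.of A)) M := DSPts.pt χ₀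
    have hx₀ : x₀ ^ N = 1 := by
      refine DSPts.char_injective ?_
      rw [char_pow, DSPts.char_one, DSPts.char_pt]
      refine MonoidHom.ext fun m => ?_
      rw [MonoidHom.pow_apply, ← map_pow, MonoidHom.one_apply]
      have hm : redN M N (m ^ N) = 1 := (QuotientAddGroup.eq_zero_iff (N := mulN M N) _).2 ⟨m.toAdd, rfl⟩
      show (Scheme.ΓSpecIso Bq).inv (MonoidAlgebra.of B _ (redN M N (m ^ N))) = 1
      rw [hm, map_one, map_one]
    obtain ⟨w, hw⟩ := hY T₀ (c₀ ≫ q) x₀ hx₀
    have h1 : evPt A x₀ f = 0 := by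
      have hfI : f ∈ I := hF ▸ Ideal.subset_span hf
      show (x₀.left ≫ DiagIso.rhoL A M).appTop ((Scheme.ΓSpecIso (CommRingCat.of R)).inv f) = 0
      rw [← hw, Category.assoc, he, ← Category.assoc, GmPts.appTop_comp_apply]
      have h2 : (Spec.map (CommRingCat.ofHom (Ideal.Quotient.mk I))).appTop
          ((Scheme.ΓSpecIso (CommRingCat.of R)).inv f) = 0 := by
        refine (congr($(Scheme.ΓSpecIso_inv_naturality (CommRingCat.ofHom (Ideal.Quotient.mk I))) f)).symm.trans ?_
        show (Scheme.ΓSpecIso (CommRingCat.of (_ ⧸ I))).inv (Ideal.Quotient.mk I f) = 0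
        rw [Ideal.Quotient.eq_zero_iff_mem.2 hfI, map_zero]
      rw [h2, map_zero]
    have h3 : evPt A x₀ = (Scheme.ΓSpecIso Bq).inv.hom.comp
        ((MonoidAlgebra.mapDomainRingHom B (redN M N)).comp (MonoidAlgebra.mapRingHom _ h.hom)) := by
      refine DiagIso.ringHom_ext (fun r => ?_) fun m => ?_
      · rw [evPt_algebraMap]
        have h4 : T₀.hom = Spec.map (h ≫ cq) := by rw [Spec.map_comp, hh]; rfl
        rw [h4]
        refine (congr($(Scheme.ΓSpecIso_inv_naturality (h ≫ cq)) r)).symm.trans ?_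
        refine congrArg (Scheme.ΓSpecIso Bq).inv ?_
        show algebraMap B (MonoidAlgebra B (Multiplicative (M ⧸ mulN M N))) (h.hom r) =
          MonoidAlgebra.mapDomainRingHom B (redN M N) (MonoidAlgebra.mapRingHom _ h.hom (algebraMap A _ r))
        simp [MonoidAlgebra.coe_algebraMap]
      · rw [evPt_single, DSPts.char_pt]
        simp [χ₀]
        rfl
    have h5 : MonoidAlgebra.mapRingHom _ h.hom f = 0 := by
      refine map_eq_zero_of_red h.hom f N (fun a ha b hb hab => ?_) ?_
      · have hs : ∀ a ∈ f.coeff.support, a ∈ supp := fun a ha => Finset.mem_biUnion.2 ⟨f, hf, ha⟩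
        exact Multiplicative.toAdd.injective (sub_eq_zero.1 (hN _ (Finset.mem_image.2
          ⟨(a, b), Finset.mem_product.2 ⟨hs a ha, hs b hb⟩, rfl⟩) (mem_mulN.1 hab)))
      · rw [h3] at h1
        exact (ConcreteCategory.bijective_of_isIso (Scheme.ΓSpecIso Bq).inv).1 (h1.trans (map_zero _).symm)
    let T₁ : Over (Spec (CommRingCat.of A)) := Over.mk (g ≫ T.hom)
    let c₁ : T₁ ⟶ T := Over.homMk g rfl
    let Ψ : MonoidAlgebra B (Multiplicative M) →+* Γ(T₁.left, ⊤) :=
      MonoidAlgebra.liftNCRingHom (Scheme.ΓSpecIso B).inv.hom (DSPts.char (c₁ ≫ x)) fun _ _ => Commute.all _ _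
    have h6 : evPt A (c₁ ≫ x) = Ψ.comp (MonoidAlgebra.mapRingHom _ h.hom) := by
      refine DiagIso.ringHom_ext (fun r => ?_) fun m => ?_
      · rw [evPt_algebraMap, show T₁.hom = Spec.map h from hh.symm]
        refine (congr($(Scheme.ΓSpecIso_inv_naturality h) r)).symm.trans ?_
        show (Scheme.ΓSpecIso B).inv (h r) = Ψ (MonoidAlgebra.mapRingHom _ h.hom (algebraMap A _ r))
        rw [show MonoidAlgebra.mapRingHom (Multiplicative M) h.hom (algebraMap A _ r) = MonoidAlgebra.single 1 (h r) by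
          simp [MonoidAlgebra.coe_algebraMap]]
        rw [MonoidAlgebra.liftNCRingHom_single, map_one, mul_one]
      · rw [evPt_single]
        simp [Ψ]
    show c₁.left.appTop (evPt A x f) = 0
    rw [← evPt_comp, h6, RingHom.comp_apply, h5, map_zero]
  refine ⟨T.left.toSpecΓ ≫ Spec.map (CommRingCat.ofHom (Ideal.Quotient.lift I (evPt A x) hkill)) ≫ e.inv, ?_⟩
  rw [← cancel_mono (DiagIso.rhoL A M), ← toSpecΓ_evPt]
  simp only [Category.assoc, he, Iso.inv_hom_id_assoc, ← Spec.map_comp, ← CommRingCat.ofHom_comp,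
    Ideal.Quotient.lift_comp_mk]

end Affine

variable {S : Scheme.{u}} {G : Over S} [GrpObj G] [IsAffineHom G.hom] [Smooth G.hom]
variable {X : Over S} {υ : Red.DS S M ⊗ X ⟶ G}
variable {M' : Type} [AddCommGroup M'] {X' : Over S} {υ' : Red.DS S M' ⊗ X' ⟶ G}

/-- Over an affine parameter scheme containment may be checked on the torsion of one level. -/
theorem exists_level_img (hX : MPiece M X υ) (hX' : MPiece M' X' υ') (A : Type u) [CommRing A]
    (p : Spec (CommRingCat.of A) ⟶ S) (a : Over.mk p ⟶ X) (b : Over.mk p ⟶ X') :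
    ∃ N : ℕ, 0 < N ∧ ∀ (Y : Over S) (t : Y ⟶ Over.mk p),
      (∀ (T : Over S) (s : T ⟶ Y) (g : T ⟶ G), LImg N υ (s ≫ t ≫ a) g → Img υ' (s ≫ t ≫ b) g) →
      ∀ (T : Over S) (s : T ⟶ Y) (g : T ⟶ G), Img υ (s ≫ t ≫ a) g → Img υ' (s ≫ t ≫ b) g := by
  let P : Over S := Over.mk p
  let φa : Red.DS S M ⊗ P ⟶ G := (Red.DS S M ◁ a) ≫ υ
  let φb : Red.DS S M' ⊗ P ⟶ G := (Red.DS S M' ◁ b) ≫ υ'
  have hφb : AutFam.IsHomFamily (Red.DS S M') G φb := fun T z z' t => by
    rw [comp_whisker, comp_whisker, comp_whisker]; exact hX'.hom _ _ _ _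
  have hmb : MonoFam φb := fun T t z h => by rw [comp_whisker] at h; exact hX'.mono T _ z h
  haveI := isClosedImmersion_famHom hX'.fg hφb hmb
  haveI : LocallyOfFinitePresentation (Red.DS P.left M').hom :=
    Locus.lfp_of_multTypeFT (isMultTypeFT_DS P.left M' hX'.fg)
  haveI : LocallyOfFinitePresentation ((famHom φb).left ≫ (Red.bc P.hom G).hom) := by
    rw [Over.w (famHom φb)]; infer_instance
  haveI : LocallyOfFiniteType (Red.bc P.hom G).hom :=
    MorphismProperty.pullback_snd _ _ (inferInstanceAs (LocallyOfFiniteType G.hom))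
  haveI : LocallyOfFinitePresentation (famHom φb).left :=
    Groth.L20.locallyOfFinitePresentation_of_comp (famHom φb).left (Red.bc P.hom G).hom
  let jZ := pullback.fst (famHom φa).left (famHom φb).left
  haveI : IsClosedImmersion jZ := MorphismProperty.pullback_fst _ _ inferInstance
  haveI : LocallyOfFinitePresentation jZ := MorphismProperty.pullback_fst _ _ inferInstance
  obtain ⟨N, hN0, hN⟩ := exists_level (A := A) hX.fg jZ
  refine ⟨N, hN0, fun Y t h T s g hg => ?_⟩
  have key : ∀ {T' : Over P.left} (x : T' ⟶ Red.DS P.left M), (∃ w, w ≫ jZ = x.left) ↔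
      Img υ' ((Over.homMk T'.hom rfl : Over.mk (T'.hom ≫ P.hom) ⟶ P) ≫ b)
        (lift (downPt P.hom x) ((Over.homMk T'.hom rfl : Over.mk (T'.hom ≫ P.hom) ⟶ P) ≫ a) ≫ υ) := by
    intro T' x
    rw [← comp_whisker, ← toBase_famHom]
    refine Iff.trans ?_ (((mem_toBase_iff (M := P) (famHom φb) (x ≫ famHom φa)).trans
      (mem_famHom_iff φb _ _)).trans (exists_congr fun z => by rw [comp_whisker]))
    constructor
    · rintro ⟨w, hw⟩
      refine ⟨Over.homMk (w ≫ pullback.snd (famHom φa).left (famHom φb).left) ?_, Over.OverMorphism.ext ?_⟩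
      · rw [← Over.w (famHom φb), Category.assoc, ← pullback.condition_assoc, reassoc_of% hw, Over.w (famHom φa)]
        exact Over.w x
      · show (w ≫ pullback.snd (famHom φa).left (famHom φb).left) ≫ (famHom φb).left = x.left ≫ (famHom φa).left
        rw [Category.assoc, ← pullback.condition, reassoc_of% hw]
    · rintro ⟨w, hw⟩
      exact ⟨pullback.lift x.left w.left (congrArg (fun m => m.left) hw).symm, pullback.lift_fst _ _ _⟩
  let YP : Over P.left := Over.mk t.left
  have hYP : ∀ (T' : Over P.left) (q : T' ⟶ YP), ∃ s' : Over.mk (T'.hom ≫ P.hom) ⟶ Y,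
      (Over.homMk T'.hom rfl : Over.mk (T'.hom ≫ P.hom) ⟶ P) = s' ≫ t := fun T' q =>
    ⟨Over.homMk q.left (by
      show q.left ≫ Y.hom = T'.hom ≫ P.hom
      rw [← Over.w q, Category.assoc]
      exact congrArg (q.left ≫ ·) (Over.w t).symm), Over.OverMorphism.ext (Over.w q).symm⟩
  obtain ⟨z, rfl⟩ := hg
  obtain ⟨T', x, i, hi, hT'⟩ := exists_down (Y := P) (s ≫ t) z
  have hq : T'.hom = (i.hom ≫ s).left ≫ t.left := by
    have h1 : T'.hom = (i.hom ≫ s ≫ t).left := congrArg (fun m : _ ⟶ P => m.left) hT'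
    exact h1.trans (by simp only [Over.comp_left, Category.assoc])
  have hw := (key x).1 (hN YP (fun T'' q x' hx' => by
    obtain ⟨s', hs'⟩ := hYP T'' q
    rw [key, hs', Category.assoc, Category.assoc]
    refine h _ s' _ ⟨downPt P.hom x', ?_, rfl⟩
    refine DSPts.char_injective ?_
    rw [char_pow, DSPts.char_one, char_downPt, ← char_pow, hx', DSPts.char_one]) T' (Over.homMk (i.hom ≫ s).left hq.symm) x)
  rw [hi, hT'] at hw
  have := img_comp i.inv hw
  simpa only [Category.assoc, comp_lift_assoc, Iso.inv_hom_id_assoc] using this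

end Groth.L24.MSub
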