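import Groth.Agent.L24.MSub.Key
import Groth.Agent.L24.FinSub.Main

/-!
# The finite levels of a monomorphism of a diagonalisable group
-/

set_option autoImplicit false
universe u

open CategoryTheory CategoryTheory.Limits MonoidalCategory CartesianMonoidalCategory AlgebraicGeometry
open scoped MonObj

set_option backward.isDefEq.respectTransparency.types false
set_option linter.style.haveILetI false

noncomputable section

namespace Groth.L24.MSub

open Groth.L25 Groth.L25.SplitSub Groth.L24.FinSub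

variable {S : Scheme.{u}} {G : Over S} {M : Type} [AddCommGroup M] {X : Over S} {υ : Red.DS S M ⊗ X ⟶ G}

theorem finite_quot (hM : AddGroup.FG M) {N : ℕ} (hN : 0 < N) : Finite (M ⧸ mulN M N) := by
  haveI := hM
  haveI : AddGroup.FG (M ⧸ mulN M N) := QuotientAddGroup.fg _
  refine AddCommGroup.finite_of_fg_torsion _ fun x => ?_
  obtain ⟨m, rfl⟩ := QuotientAddGroup.mk_surjective x
  refine isOfFinAddOrder_iff_nsmul_eq_zero.2 ⟨N, hN, ?_⟩
  rw [← QuotientAddGroup.mk_nsmul]
  exact (QuotientAddGroup.eq_zero_iff _).2 ⟨m, rfl⟩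

/-- the family restricted to the torsion of level `N` -/
def famN (N : ℕ) (υ : Red.DS S M ⊗ X ⟶ G) : Red.DS S (M ⧸ mulN M N) ⊗ X ⟶ G :=
  (Red.DSmap S (QuotientAddGroup.mk' (mulN M N)) ▷ X) ≫ υ

theorem exists_factor_iff (N : ℕ) {T : Over S} (z : T ⟶ Red.DS S M) :
    z ^ N = 1 ↔ ∃ z' : T ⟶ Red.DS S (M ⧸ mulN M N), z' ≫ Red.DSmap S (QuotientAddGroup.mk' (mulN M N)) = z := by
  constructor
  · intro h
    have hk : ∀ m : M, DSPts.char z (Multiplicative.ofAdd (N • m)) = 1 := fun m => by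
      have := DFunLike.congr_fun (congrArg DSPts.char h) (Multiplicative.ofAdd m)
      rw [char_pow, DSPts.char_one, MonoidHom.pow_apply, MonoidHom.one_apply, ← map_pow] at this
      rwa [ofAdd_nsmul]
    let f : M →+ Additive Γ(T.left, ⊤) := MonoidHom.toAdditiveRight (DSPts.char z)
    let χ : Multiplicative (M ⧸ mulN M N) →* Γ(T.left, ⊤) :=
      AddMonoidHom.toMultiplicativeLeft (QuotientAddGroup.lift (mulN M N) f fun x hx => by
        obtain ⟨m, rfl⟩ := mem_mulN.1 hx
        exact congrArg Additive.ofMul (hk m))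
    refine ⟨DSPts.pt χ, DSPts.char_injective ?_⟩
    rw [char_DSmap, DSPts.char_pt]
    exact MonoidHom.ext fun m => rfl
  · rintro ⟨z', rfl⟩
    refine DSPts.char_injective (MonoidHom.ext fun m => ?_)
    rw [char_pow, DSPts.char_one, MonoidHom.pow_apply, ← map_pow, MonoidHom.one_apply, char_DSmap, MonoidHom.comp_apply]
    have hm : (AddMonoidHom.toMultiplicative (QuotientAddGroup.mk' (mulN M N))) (m ^ N) = 1 :=
      (QuotientAddGroup.eq_zero_iff (N := mulN M N) _).2 ⟨m.toAdd, rfl⟩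
    rw [hm, map_one]

theorem img_famN_iff (N : ℕ) {T : Over S} (a : T ⟶ X) (g : T ⟶ G) :
    Img (famN N υ) a g ↔ LImg N υ a g := by
  constructor
  · rintro ⟨z, rfl⟩
    exact ⟨_, (exists_factor_iff N _).2 ⟨z, rfl⟩, (lift_whiskerRight_assoc _ _ _ _).symm⟩
  · rintro ⟨z, hz, rfl⟩
    obtain ⟨z', rfl⟩ := (exists_factor_iff N z).1 hz
    exact ⟨z', lift_whiskerRight_assoc _ _ _ _⟩

variable [GrpObj G] [IsAffineHom G.hom] [Smooth G.hom]

omit [IsAffineHom G.hom] [Smooth G.hom] in
theorem isHomFamily_famN (hX : MPiece M X υ) (N : ℕ) :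
    AutFam.IsHomFamily (Red.DS S (M ⧸ mulN M N)) G (famN N υ) := fun T z z' a => by
  haveI : IsMonHom (Red.DSmap S (QuotientAddGroup.mk' (mulN M N))) := TorusTorsion.isMonHom_DSmap S _
  simp only [famN, lift_whiskerRight_assoc, MonObj.mul_comp]
  exact hX.hom _ _ _ _

omit [IsAffineHom G.hom] [Smooth G.hom] in
theorem monoFam_famN (hX : MPiece M X υ) (N : ℕ) : MonoFam (famN N υ) := fun T a z h => by
  rw [famN, lift_whiskerRight_assoc] at h
  have h1 := congrArg DSPts.char (hX.mono T a _ h)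
  rw [char_DSmap, DSPts.char_one] at h1
  refine DSPts.char_injective (MonoidHom.ext fun m => ?_)
  obtain ⟨k, hk⟩ := QuotientAddGroup.mk_surjective m.toAdd
  have := DFunLike.congr_fun h1 (Multiplicative.ofAdd k)
  rw [DSPts.char_one]
  rw [MonoidHom.comp_apply] at this
  rw [show m = AddMonoidHom.toMultiplicative (QuotientAddGroup.mk' (mulN M N)) (Multiplicative.ofAdd k) from
    (congrArg Multiplicative.ofAdd hk).symm]
  exact this

/-- the map to the scheme of finite subgroups given by the torsion of level `N` -/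
theorem exists_level_map (D : Data G) (hX : MPiece M X υ) {N : ℕ} (hN : 0 < N) :
    ∃ v : X ⟶ D.tot, ∀ (T : Over S) (a : T ⟶ X) (g : T ⟶ G), Mem D.totj (a ≫ v) g ↔ LImg N υ a g := by
  haveI := finite_quot hX.fg hN
  obtain ⟨hg, hj⟩ := D.exists_grp
  letI := hg
  haveI := hj
  have hh := isHomFamily_famN hX N
  haveI := isMonHom_famHom (famN N υ) hh
  haveI := isClosedImmersion_famHom (fg_of_finite _) hh (monoFam_famN hX N)
  haveI := isFinite_DS X.left (M ⧸ mulN M N)
  obtain ⟨v, hv⟩ := D.exists_map (f := X.hom) (famHom (famN N υ))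
    (isMultTypeFT_DS X.left (M ⧸ mulN M N) (fg_of_finite _))
  let c : X ⟶ Over.mk X.hom := Over.homMk (𝟙 X.left) (Category.id_comp _)
  refine ⟨c ≫ v, fun T a g => ?_⟩
  rw [← img_famN_iff, ← mem_famHom_iff, ← Category.assoc, ← hv]
  have hac : (a ≫ c).left = a.left := Category.comp_id _
  exact exists_congr fun z => ⟨fun h => ⟨h.1.trans hac.symm, h.2⟩, fun h => ⟨h.1.trans hac, h.2⟩⟩

omit [IsAffineHom G.hom] [Smooth G.hom] in
theorem limg_comp {N : ℕ} {T T' : Over S} (c : T' ⟶ T) {a : T ⟶ X} {g : T ⟶ G} (h : LImg N υ a g) :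
    LImg N υ (c ≫ a) (c ≫ g) := by
  rw [← img_famN_iff] at h ⊢
  exact img_comp c h

end Groth.L24.MSub
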