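import Groth.Agent.L24.MSub.Level
import Groth.Agent.L25.Cocycle.Subgroups
import Groth.Agent.L25.Cocycle.NilConj
import Groth.Agent.L25.Locus.Smooth
import Groth.Agent.L25.MultTypeBC
import Mathlib.AlgebraicGeometry.Morphisms.Etale

/-!
# The torsion of high level gives an etale map to the scheme of finite subgroups
-/

set_option autoImplicit false
universe u

open CategoryTheory CategoryTheory.Limits MonoidalCategory CartesianMonoidalCategory AlgebraicGeometry
open scoped MonObj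

set_option backward.isDefEq.respectTransparency.types false
set_option linter.style.haveILetI false

noncomputable section

namespace Groth.L24.MSub

open Groth.L25 Groth.L25.SplitSub Groth.L24.FinSub

variable {S : Scheme.{u}} {G : Over S} [GrpObj G] [IsAffineHom G.hom] [Smooth G.hom]
variable {M : Type} [AddCommGroup M] {X : Over S} {υ : Red.DS S M ⊗ X ⟶ G}
variable {M' : Type} [AddCommGroup M'] {X' : Over S} {υ' : Red.DS S M' ⊗ X' ⟶ G}

omit [IsAffineHom G.hom] [Smooth G.hom] [GrpObj G] in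
theorem limg_of_dvd {N N' : ℕ} (h : N ∣ N') {T : Over S} {a : T ⟶ X} {g : T ⟶ G} (hg : LImg N υ a g) :
    LImg N' υ a g := by
  obtain ⟨k, rfl⟩ := h
  obtain ⟨z, hz, rfl⟩ := hg
  exact ⟨z, by rw [pow_mul, hz, one_pow], rfl⟩

/-- On affine opens over an affine open of the base, equality of images may be checked at one level. -/
theorem exists_level_pair (hX : MPiece M X υ) (hX' : MPiece M' X' υ') {U : S.Opens} (hU : IsAffineOpen U)
    {W : X.left.Opens} (hW : IsAffineOpen W) (hWU : W ≤ X.hom ⁻¹ᵁ U)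
    {W' : X'.left.Opens} (hW' : IsAffineOpen W') (hWU' : W' ≤ X'.hom ⁻¹ᵁ U) :
    ∃ N : ℕ, 0 < N ∧ ∀ N' : ℕ, N ∣ N' → ∀ (Y : Over S) (a : Y ⟶ X) (b : Y ⟶ X'), (∀ y, a.left y ∈ W) →
      (∀ y, b.left y ∈ W') →
      (∀ (T : Over S) (s : T ⟶ Y) (g : T ⟶ G), LImg N' υ (s ≫ a) g ↔ LImg N' υ' (s ≫ b) g) →
      ∀ (T : Over S) (s : T ⟶ Y) (g : T ⟶ G), Img υ (s ≫ a) g ↔ Img υ' (s ≫ b) g := by
  haveI : IsAffine U.toScheme := hU
  haveI : IsAffine W.toScheme := hW
  haveI : IsAffine W'.toScheme := hW'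
  let π₁ := X.hom.resLE U W hWU
  let π₂ := X'.hom.resLE U W' hWU'
  let P : Scheme.{u} := pullback π₁ π₂
  haveI : IsAffine P := inferInstance
  let p : Spec (CommRingCat.of Γ(P, ⊤)) ⟶ S := P.isoSpec.inv ≫ pullback.fst π₁ π₂ ≫ W.ι ≫ X.hom
  let a₀ : Over.mk p ⟶ X := Over.homMk (P.isoSpec.inv ≫ pullback.fst π₁ π₂ ≫ W.ι) (by simp [p])
  let b₀ : Over.mk p ⟶ X' := Over.homMk (P.isoSpec.inv ≫ pullback.snd π₁ π₂ ≫ W'.ι) (by
    show (P.isoSpec.inv ≫ pullback.snd π₁ π₂ ≫ W'.ι) ≫ X'.hom = P.isoSpec.inv ≫ pullback.fst π₁ π₂ ≫ W.ι ≫ X.hom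
    simp only [Category.assoc]
    congr 1
    rw [← X'.hom.resLE_comp_ι hWU', ← X.hom.resLE_comp_ι hWU]
    exact (pullback.condition_assoc U.ι).symm)
  obtain ⟨N₁, hN₁, h₁⟩ := exists_level_img hX hX' Γ(P, ⊤) p a₀ b₀
  obtain ⟨N₂, hN₂, h₂⟩ := exists_level_img hX' hX Γ(P, ⊤) p b₀ a₀
  refine ⟨N₁ * N₂, Nat.mul_pos hN₁ hN₂, fun N' hN' Y a b ha hb h T s g => ?_⟩
  let α := IsOpenImmersion.lift W.ι a.left (by rintro _ ⟨y, rfl⟩; rw [Scheme.Opens.range_ι]; exact ha y)
  let β := IsOpenImmersion.lift W'.ι b.left (by rintro _ ⟨y, rfl⟩; rw [Scheme.Opens.range_ι]; exact hb y)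
  have hα : α ≫ W.ι = a.left := IsOpenImmersion.lift_fac _ _ _
  have hβ : β ≫ W'.ι = b.left := IsOpenImmersion.lift_fac _ _ _
  have hαβ : α ≫ π₁ = β ≫ π₂ := by
    rw [← cancel_mono U.ι]
    simp only [π₁, π₂, Category.assoc, Scheme.Hom.resLE_comp_ι, reassoc_of% hα, reassoc_of% hβ, Over.w a, Over.w b]
  let t : Y ⟶ Over.mk p := Over.homMk (pullback.lift α β hαβ ≫ P.isoSpec.hom) (by
    show (pullback.lift α β hαβ ≫ P.isoSpec.hom) ≫ P.isoSpec.inv ≫ pullback.fst π₁ π₂ ≫ W.ι ≫ X.hom = Y.hom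
    simp only [Category.assoc, Iso.hom_inv_id_assoc, pullback.lift_fst_assoc, reassoc_of% hα, Over.w a])
  have hta : t ≫ a₀ = a := Over.OverMorphism.ext (by
    show (pullback.lift α β hαβ ≫ P.isoSpec.hom) ≫ P.isoSpec.inv ≫ pullback.fst π₁ π₂ ≫ W.ι = a.left
    simp only [Category.assoc, Iso.hom_inv_id_assoc, pullback.lift_fst_assoc, hα])
  have htb : t ≫ b₀ = b := Over.OverMorphism.ext (by
    show (pullback.lift α β hαβ ≫ P.isoSpec.hom) ≫ P.isoSpec.inv ≫ pullback.snd π₁ π₂ ≫ W'.ι = b.left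
    simp only [Category.assoc, Iso.hom_inv_id_assoc, pullback.lift_snd_assoc, hβ])
  constructor
  · intro hg
    have := h₁ Y t (fun T s g hg => by
      rw [hta] at hg
      rw [htb]
      obtain ⟨z, -, hz⟩ := (h T s g).1 (limg_of_dvd ((Dvd.intro N₂ rfl).trans hN') hg)
      exact ⟨z, hz⟩) T s g (by rwa [hta])
    rwa [htb] at this
  · intro hg
    have := h₂ Y t (fun T s g hg => by
      rw [htb] at hg
      rw [hta]
      obtain ⟨z, -, hz⟩ := (h T s g).2 (limg_of_dvd ((Dvd.intro_left N₁ rfl).trans hN') hg)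
      exact ⟨z, hz⟩) T s g (by rwa [htb])
    rwa [hta] at this

omit [GrpObj G] [IsAffineHom G.hom] [Smooth G.hom] in
theorem locally_of_isMultTypeFT {B : Scheme.{u}} {H : Over B} [GrpObj H] (hH : SGA3x.IsMultTypeFT H) :
    TwC.Locally B TwC.Topology.fpqc (fun S' f => ∃ (N : Type) (_ : AddCommGroup N),
      Nonempty (Grp.mk (Red.bc f H) ≅ Grp.mk (Red.DS S' N))) := by
  obtain ⟨S', f, h1, h2, h3, h4⟩ := hH
  refine ⟨S', f, h1, h2, h3, fun s => ?_⟩
  obtain ⟨U, hU, N, i, -, e⟩ := h4 s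
  exact ⟨U, hU, N, i, e⟩

variable (D : Data G) {N : ℕ} (hN : 0 < N) {v : X ⟶ D.tot}

/-- lifts along the level map, up to conjugation -/
theorem exists_level_lift (hX : MPiece M X υ) (hN : 0 < N)
    (hv : ∀ (T : Over S) (a : T ⟶ X) (g : T ⟶ G), Mem D.totj (a ≫ v) g ↔ LImg N υ a g)
    {B : Type u} [CommRing B] (I : Ideal B) (hI : I ^ 2 = ⊥) (p : Spec (CommRingCat.of B) ⟶ S)
    (b : Over.mk p ⟶ D.tot) (a₀ : Over.mk ((Cocycle.Z I).hom ≫ p) ⟶ X)
    (hab : (Over.homMk (Cocycle.Z I).hom rfl : Over.mk ((Cocycle.Z I).hom ≫ p) ⟶ Over.mk p) ≫ b = a₀ ≫ v) :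
    ∃ u : Over.mk p ⟶ X, (Over.homMk (Cocycle.Z I).hom rfl : Over.mk ((Cocycle.Z I).hom ≫ p) ⟶ Over.mk p) ≫ u = a₀ ∧
      u ≫ v = b := by
  let Y : Over S := Over.mk p
  let Y₀ : Over S := Over.mk ((Cocycle.Z I).hom ≫ p)
  let π : Y₀ ⟶ Y := Over.homMk (Cocycle.Z I).hom rfl
  haveI := hX.smooth
  obtain ⟨u₁, hu₁, hu₁'⟩ := Cocycle.isFormallySmoothHom_of_smooth X.hom B I hI a₀.left p (Over.w a₀).symm
  let u : Y ⟶ X := Over.homMk u₁ hu₁'
  have hu : π ≫ u = a₀ := Over.OverMorphism.ext hu₁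
  obtain ⟨hg, hj⟩ := D.exists_grp
  letI := hg
  haveI := hj
  haveI := D.isClosedImmersion_totj
  haveI := finite_quot hX.fg hN
  let φN : Red.DS S (M ⧸ mulN M N) ⊗ Y ⟶ G := (Red.DS S (M ⧸ mulN M N) ◁ u) ≫ famN N υ
  have hφN : AutFam.IsHomFamily (Red.DS S (M ⧸ mulN M N)) G φN := fun T z z' t => by
    rw [comp_whisker, comp_whisker, comp_whisker]; exact isHomFamily_famN hX N _ _ _ _
  have hmN : MonoFam φN := fun T t z h => by rw [comp_whisker] at h; exact monoFam_famN hX N T _ z h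
  let i : Red.DS (Spec (CommRingCat.of B)) (M ⧸ mulN M N) ⟶ Red.bc p G := famHom φN
  haveI : IsMonHom i := isMonHom_famHom φN hφN
  haveI : Mono i := mono_famHom hφN hmN
  let ci := ActBC.bcCompIso b.left D.tot.hom G (Over.w b)
  let i' : Red.bc b.left D.totK ⟶ Red.bc p G := (Over.pullback b.left).map D.totj ≫ ci.hom
  haveI : IsMonHom ((Over.pullback b.left).map D.totj) := MonoClosed.isMonHom_pullbackMap _ _
  haveI : IsMonHom ci.hom := (Grp.mkIso' ci).hom.hom.isMonHom_hom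
  haveI : IsMonHom i' := inferInstanceAs (IsMonHom ((Over.pullback b.left).map D.totj ≫ ci.hom))
  haveI : Mono D.totj := Over.mono_of_mono_left _
  haveI : Mono i' := inferInstanceAs (Mono ((Over.pullback b.left).map D.totj ≫ ci.hom))
  have hi : ∀ {T : Over (Spec (CommRingCat.of B))} (x : T ⟶ Red.bc p G), (∃ w, w ≫ i = x) ↔
      LImg N υ ((Over.homMk T.hom rfl : Over.mk (T.hom ≫ p) ⟶ Y) ≫ u) (NilAction.toBase p x) := fun x => by
    rw [← img_famN_iff]
    refine ((mem_toBase_iff (M := Y) i x).trans (mem_famHom_iff φN _ _)).trans (exists_congr fun z => ?_)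
    rw [comp_whisker]
    exact Iff.rfl
  have hi' : ∀ {T : Over (Spec (CommRingCat.of B))} (x : T ⟶ Red.bc p G), (∃ w, w ≫ i' = x) ↔
      Mem D.totj ((Over.homMk T.hom rfl : Over.mk (T.hom ≫ p) ⟶ Y) ≫ b) (NilAction.toBase p x) := fun x =>
    (mem_toBase_iff (M := Y) i' x).trans (mem_bc_iff D.totj b _ _)
  have hagree : ∀ (T : Over (Spec (CommRingCat.of B))) (_ : T ⟶ Cocycle.Z I) (x : T ⟶ Red.bc p G),
      (∃ w, w ≫ i = x) ↔ ∃ w, w ≫ i' = x := by
    intro T q x
    let q₀ : Over.mk (T.hom ≫ p) ⟶ Y₀ := Over.homMk q.left (by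
      show q.left ≫ (Cocycle.Z I).hom ≫ p = T.hom ≫ p
      rw [← Category.assoc, Over.w q])
    have hq : (Over.homMk T.hom rfl : Over.mk (T.hom ≫ p) ⟶ Y) = q₀ ≫ π := Over.OverMorphism.ext (Over.w q).symm
    rw [hi, hi', hq, Category.assoc, Category.assoc, hu, hab, ← Category.assoc q₀ a₀ v]
    exact (hv _ _ _).symm
  obtain ⟨g, hg1, φ, hφ⟩ := Cocycle.exists_conjBy_squareZero (G := Red.bc p G)
    (locally_of_isMultTypeFT (isMultTypeFT_DS (Spec (CommRingCat.of B)) (M ⧸ mulN M N) (fg_of_finite _)))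
    (locally_of_isMultTypeFT (MultTypeBC.isMultTypeFT_bc D.isMultTypeFT_totK b.left)) hI i i'
    (fun T q h => (hagree T q _).1 ⟨h, rfl⟩) (fun T q h => (hagree T q _).2 ⟨h, rfl⟩)
  let e : Y ⟶ Over.mk ((𝟙_ (Over (Spec (CommRingCat.of B)))).hom ≫ p) := Over.homMk (𝟙 _) (by simp [Y])
  let g' : Y ⟶ G := e ≫ NilAction.toBase p g
  have hconst : ∀ (T : Over (Spec (CommRingCat.of B))),
      NilAction.toBase p (toUnit T ≫ g) = (Over.homMk T.hom rfl : Over.mk (T.hom ≫ p) ⟶ Y) ≫ g' := fun T => by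
    refine (toBase_comp (Y := Y) (toUnit T) g).trans
      ((congrArg (fun m => m ≫ NilAction.toBase p g) ?_).trans
        (Category.assoc (Over.homMk T.hom rfl : Over.mk (T.hom ≫ p) ⟶ Y) e _))
    refine Over.OverMorphism.ext ?_
    show (toUnit T).left = T.hom ≫ 𝟙 _
    rw [Category.comp_id]
    simpa using Over.w (toUnit T)
  let ψ : Red.DS S M ⊗ Y ⟶ G :=
    (snd (Red.DS S M) Y ≫ g') * ((Red.DS S M ◁ u) ≫ υ) * (snd (Red.DS S M) Y ≫ g')⁻¹
  have hψT : ∀ {T : Over S} (z : T ⟶ Red.DS S M) (t : T ⟶ Y),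
      lift z t ≫ ψ = (t ≫ g') * (lift z (t ≫ u) ≫ υ) * (t ≫ g')⁻¹ := fun z t => by
    simp only [ψ, MonObj.comp_mul, GrpObj.comp_inv, lift_snd_assoc, comp_whisker]
  have hψ : AutFam.IsHomFamily (Red.DS S M) G ψ := fun T z z' t => by
    rw [hψT, hψT, hψT, hX.hom]
    group
  have hψm : MonoFam ψ := fun T t z h => by
    rw [hψT] at h
    exact hX.mono T _ z (conj_eq_one_iff.1 h)
  obtain ⟨u', hu'⟩ := hX.exists_pt Y ψ hψ hψm
  have hu'T : ∀ {T : Over S} (z : T ⟶ Red.DS S M) (t : T ⟶ Y), lift z (t ≫ u') ≫ υ = lift z t ≫ ψ := fun z t => by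
    rw [← hu', comp_whisker]
  refine ⟨u', ?_, ?_⟩
  · rw [← hu]
    refine hX.eq_of_pts _ _ fun T t z => ?_
    rw [← Category.assoc, hu'T, hψT]
    have h1 : π ≫ g' = 1 := by
      have h2 : π ≫ g' = (Over.homMk (𝟙 _) (by simp [Y₀]) : Y₀ ⟶ Over.mk ((Cocycle.Z I).hom ≫ p)) ≫
          NilAction.toBase p (toUnit (Cocycle.Z I) ≫ g) := by
        rw [hconst]
        exact (Category.id_comp (π ≫ g')).symm
      rw [h2, hg1, NilAction.toBase_one, MonObj.comp_one]
    have h3 : (t ≫ π) ≫ g' = 1 := by rw [Category.assoc, h1, MonObj.comp_one]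
    rw [h3, one_mul, inv_one, mul_one, Category.assoc]
  · refine D.pt_ext _ _ fun T t x => ?_
    rw [← Category.assoc, hv]
    let T' : Over (Spec (CommRingCat.of B)) := Over.mk t.left
    let k : Over.mk (T'.hom ≫ p) ≅ T := Over.isoMk (Iso.refl _) ((Category.id_comp _).trans (Over.w t).symm)
    have hk : (Over.homMk T'.hom rfl : Over.mk (T'.hom ≫ p) ⟶ Y) = k.hom ≫ t :=
      Over.OverMorphism.ext (Category.id_comp _).symm
    have hk' : ∀ {Q : Over S} (m : T ⟶ Q), k.inv ≫ k.hom ≫ m = m := fun m => k.inv_hom_id_assoc m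
    let x' : T' ⟶ Red.bc p G := NilAction.ofBase p (k.hom ≫ x)
    have e1 : (∃ w, w ≫ i' = x') ↔ ∃ w, w ≫ i = (toUnit T' ≫ g)⁻¹ * x' * (toUnit T' ≫ g) := by
      have hc : ∀ w : T' ⟶ _, (w ≫ φ.hom) ≫ i' = (toUnit T' ≫ g) * (w ≫ i) * (toUnit T' ≫ g)⁻¹ := fun w => by
        rw [Category.assoc, ← hφ, MonObj.comp_mul, MonObj.comp_mul, GrpObj.comp_inv, ← Category.assoc,
          toUnit_unique (w ≫ toUnit _) (toUnit T')]
      constructor
      · rintro ⟨w, hw⟩
        refine ⟨w ≫ φ.inv, ?_⟩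
        have h4 := hc (w ≫ φ.inv)
        rw [Category.assoc w, φ.inv_hom_id, Category.comp_id, hw] at h4
        rw [h4]
        group
      · rintro ⟨w, hw⟩
        refine ⟨w ≫ φ.hom, ?_⟩
        rw [hc, hw]
        group
    have hinv : NilAction.toBase p ((toUnit T' ≫ g)⁻¹) = (NilAction.toBase p (toUnit T' ≫ g))⁻¹ :=
      map_inv (Locus.toBaseHom (G := G) p (Y := T')) _
    rw [hi, hi', NilAction.toBase_mul, NilAction.toBase_mul, hinv, hconst, NilAction.toBase_ofBase, hk] at e1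
    simp only [Category.assoc, ← GrpObj.comp_inv, ← MonObj.comp_mul] at e1
    constructor
    · intro hx
      obtain ⟨z, hz, hzx⟩ := hx
      rw [hu'T, hψT] at hzx
      have h5 : LImg N υ (t ≫ u) ((t ≫ g')⁻¹ * x * (t ≫ g')) := ⟨z, hz, by rw [← hzx]; group⟩
      have h6 := (e1.2 (limg_comp k.hom h5 |> fun h => by simpa only [GrpObj.comp_inv, MonObj.comp_mul, Category.assoc] using h))
      have h7 := h6.comp D.totj k.inv
      rwa [hk', hk'] at h7
    · intro hx
      obtain ⟨z, hz, hzx⟩ := limg_comp k.inv (e1.1 (hx.comp D.totj k.hom))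
      rw [hk'] at hzx
      refine ⟨z, hz, ?_⟩
      rw [hu'T, hψT]
      simp only [MonObj.comp_mul, GrpObj.comp_inv, Category.assoc] at hzx
      simp only [hk'] at hzx
      rw [hzx]
      group

/-- on a small affine open the level map is etale -/
theorem etale_level (hX : MPiece M X υ) (hN : 0 < N)
    (hv : ∀ (T : Over S) (a : T ⟶ X) (g : T ⟶ G), Mem D.totj (a ≫ v) g ↔ LImg N υ a g) (W : X.left.Opens)
    (hpair : ∀ (Y : Over S) (a b : Y ⟶ X), (∀ y, a.left y ∈ W) → (∀ y, b.left y ∈ W) →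
      (∀ (T : Over S) (s : T ⟶ Y) (g : T ⟶ G), LImg N υ (s ≫ a) g ↔ LImg N υ (s ≫ b) g) →
      ∀ (T : Over S) (s : T ⟶ Y) (g : T ⟶ G), Img υ (s ≫ a) g ↔ Img υ (s ≫ b) g) :
    Etale (W.ι ≫ v.left) := by
  let f := W.ι ≫ v.left
  haveI := hX.smooth
  haveI := D.locallyOfFinitePresentation_tot
  haveI : LocallyOfFinitePresentation (f ≫ D.tot.hom) := by
    rw [Category.assoc, Over.w v]; infer_instance
  haveI hlfp : LocallyOfFinitePresentation f := Groth.L20.locallyOfFinitePresentation_of_comp f D.tot.hom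
  haveI : Smooth f := by
    refine Locus.smooth_of_formallySmooth f fun B _ I hI a b h => ?_
    let p : Spec (CommRingCat.of B) ⟶ S := b ≫ D.tot.hom
    let bY : Over.mk p ⟶ D.tot := Over.homMk b rfl
    let a₀ : Over.mk ((Cocycle.Z I).hom ≫ p) ⟶ X := Over.homMk (a ≫ W.ι) (by
      show (a ≫ W.ι) ≫ X.hom = Spec.map (CommRingCat.ofHom (Ideal.Quotient.mk I)) ≫ b ≫ D.tot.hom
      rw [reassoc_of% h, Category.assoc, Category.assoc, Over.w v])
    obtain ⟨u, hu, hu'⟩ := exists_level_lift D hX hN hv I hI p bY a₀ (Over.OverMorphism.ext (by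
      show Spec.map _ ≫ b = (a ≫ W.ι) ≫ v.left
      rw [h, Category.assoc]))
    have hr : Set.range u.left ⊆ Set.range W.ι := by
      rintro _ ⟨y, rfl⟩
      have hle : I ≤ nilradical B := fun x hx => ⟨2, by
        have : x * x ∈ I ^ 2 := by rw [pow_two]; exact Ideal.mul_mem_mul hx hx
        rw [hI] at this
        rw [pow_two]; exact this⟩
      obtain ⟨y₀, rfl⟩ := (PrimeSpectrum.comap_quotientMk_bijective_of_le_nilradical hle).2 y
      exact ⟨a y₀, congrArg (fun m => m.left y₀) hu.symm⟩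
    refine ⟨IsOpenImmersion.lift W.ι u.left hr, ?_, ?_⟩
    · rw [← cancel_mono W.ι, Category.assoc, IsOpenImmersion.lift_fac]
      exact congrArg (fun m => m.left) hu
    · show _ ≫ W.ι ≫ v.left = b
      rw [IsOpenImmersion.lift_fac_assoc]
      exact congrArg (fun m => m.left) hu'
  haveI : IsOpenImmersion (pullback.diagonal f) := by
    let E : Over S := Over.mk (pullback.fst f f ≫ W.ι ≫ X.hom)
    let a : E ⟶ X := Over.homMk (pullback.fst f f ≫ W.ι) (Category.assoc _ _ _)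
    let b : E ⟶ X := Over.homMk (pullback.snd f f ≫ W.ι) (by
      show (pullback.snd f f ≫ W.ι) ≫ X.hom = pullback.fst f f ≫ W.ι ≫ X.hom
      rw [Category.assoc, ← Over.w v]
      exact congrArg (· ≫ D.tot.hom) (pullback.condition (f := f) (g := f)).symm)
    have hab : a ≫ v = b ≫ v := Over.OverMorphism.ext (by
      show (pullback.fst f f ≫ W.ι) ≫ v.left = (pullback.snd f f ≫ W.ι) ≫ v.left
      simp only [Category.assoc]
      exact pullback.condition)
    have himg := hpair E a b (fun y => (pullback.fst f f y).2) (fun y => (pullback.snd f f y).2) fun T s g => by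
      rw [← hv, ← hv, Category.assoc, Category.assoc, hab]
    let d := pullback.diagonal f
    have hloc : ∀ w : W.toScheme, ∃ U : E.left.Opens, d w ∈ U ∧ U.ι ≫ pullback.fst f f = U.ι ≫ pullback.snd f f := by
      intro w
      obtain ⟨U, hwU, e, he⟩ := exists_local_iso hX hX a b himg (d w)
      let V : W.toScheme.Opens := d ⁻¹ᵁ U
      let YV : Over S := Over.mk (V.ι ≫ W.ι ≫ X.hom)
      let c : YV ⟶ E := Over.homMk (V.ι ≫ d) (by
        show (V.ι ≫ d) ≫ pullback.fst f f ≫ W.ι ≫ X.hom = V.ι ≫ W.ι ≫ X.hom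
        simp [d])
      have hc : c ≫ a = c ≫ b := Over.OverMorphism.ext (by
        show (V.ι ≫ d) ≫ pullback.fst f f ≫ W.ι = (V.ι ≫ d) ≫ pullback.snd f f ≫ W.ι
        simp [d])
      have h1 : (e : M →+ M) = AddMonoidHom.id M := addHom_ext (⟨w, hwU⟩ : YV.left) _ _ fun T t z => by
        rw [TorusTorsion.DSmap_id, Category.comp_id]
        refine hX.mono.cancel hX.hom (a := (t ≫ c) ≫ b) ?_
        rw [he T (t ≫ c) (fun y => (t.left y).2) z, Category.assoc, Category.assoc, hc]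
      refine ⟨U, hwU, ?_⟩
      let YU : Over S := Over.mk (U.ι ≫ E.hom)
      let r : YU ⟶ E := Over.homMk U.ι rfl
      have h2 : r ≫ a = r ≫ b := hX.eq_of_pts _ _ fun T t z => by
        rw [← Category.assoc, ← Category.assoc t r b, ← he T (t ≫ r) (fun y => (t.left y).2) z, h1,
          TorusTorsion.DSmap_id, Category.comp_id]
      have h3 := congrArg (fun m : YU ⟶ X => m.left) h2
      rw [← cancel_mono W.ι]
      exact (Category.assoc _ _ _).trans (h3.trans (Category.assoc _ _ _).symm)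
    choose U hU hUeq using hloc
    let O : (pullback f f).Opens := ⨆ w, U w
    have hO : O.ι ≫ pullback.fst f f = O.ι ≫ pullback.snd f f := by
      let 𝒰 : O.toScheme.OpenCover := Scheme.Cover.mkOfCovers W.toScheme (fun w => (U w).toScheme)
        (fun w => (pullback f f).homOfLE (le_iSup U w : U w ≤ O)) (fun y => by
          obtain ⟨w, hw⟩ := TopologicalSpace.Opens.mem_iSup.1 y.2
          exact ⟨w, ⟨y.1, hw⟩, Subtype.ext (by simp)⟩) (fun _ => inferInstance)
      refine Scheme.Cover.hom_ext 𝒰 _ _ fun w => ?_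
      show (pullback f f).homOfLE (le_iSup U w : U w ≤ O) ≫ _ = (pullback f f).homOfLE (le_iSup U w : U w ≤ O) ≫ _
      erw [Scheme.homOfLE_ι_assoc, Scheme.homOfLE_ι_assoc]
      exact hUeq w
    have hd : Set.range d ⊆ Set.range O.ι := by
      rintro _ ⟨w, rfl⟩
      rw [Scheme.Opens.range_ι]
      exact TopologicalSpace.Opens.mem_iSup.2 ⟨w, hU w⟩
    let l := IsOpenImmersion.lift O.ι d hd
    have hl : l ≫ O.ι = d := IsOpenImmersion.lift_fac _ _ _
    haveI : IsIso l := ⟨O.ι ≫ pullback.fst f f, by rw [reassoc_of% hl]; exact pullback.diagonal_fst f, by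
      rw [← cancel_mono O.ι, Category.assoc, hl, Category.id_comp]
      apply pullback.hom_ext
      · rw [Category.assoc, pullback.diagonal_fst, Category.comp_id]
      · rw [Category.assoc, pullback.diagonal_snd, Category.comp_id]; exact hO⟩
    show IsOpenImmersion d
    rw [← hl]
    infer_instance
  haveI : FormallyUnramified f := inferInstance
  haveI : Flat f := inferInstance
  exact Etale.of_formallyUnramified_of_flat f

end Groth.L24.MSub
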