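import Groth.Agent.L24.MSub.ToriFibres
import Groth.Agent.L25.Actions
import Groth.Agent.L25.Locus.Conjugacy
import Groth.Agent.L25.Descent.EffEpi
import Groth.Agent.L08.Borel.CentKernel
import Groth.Agent.S5248

/-!
# The scheme of maximal tori as the quotient by the normaliser of a maximal torus
-/

set_option autoImplicit false
universe u

open CategoryTheory CategoryTheory.Limits MonoidalCategory CartesianMonoidalCategory AlgebraicGeometry
open scoped MonObj

set_option backward.isDefEq.respectTransparency.types false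
set_option linter.style.haveILetI false

noncomputable section

namespace Groth.L24.MSub

open Groth.L25 Groth.L25.SplitSub Groth.L24.FinSub

variable {S : Scheme.{u}} {G T N : Over S} [GrpObj G] [IsAffineHom G.hom] [Smooth G.hom] [GrpObj T] [GrpObj N]
  {i : T ⟶ G} {n : N ⟶ G}

/-- a maximal torus gives maximal tori etale locally -/
theorem hasMaxTorusEtaleLocally_of_maxTorus (hT : Red.IsMaximalTorus i) : SGA3x.HasMaxTorusEtaleLocally G :=
  ⟨S, 𝟙 S, inferInstance, inferInstance, Red.bc (𝟙 S) T, inferInstance, (Over.pullback (𝟙 S)).map i,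
    Groth.L08.Borel.isMaximalTorus_bc hT (𝟙 S)⟩

/-- the normaliser of a maximal torus is smooth -/
theorem smooth_normalizer (hT : Red.IsMaximalTorus i) (hN : Red.IsNormalizerOf i n) : Smooth N.hom := by
  haveI := hT.1; haveI := hT.2.1
  obtain ⟨N', _, n', hN', -, hsm⟩ :=
    Groth.Agent.S5248.result T G (Locus.isMultTypeFT_of_isTorus hT.2.2.1) inferInstance inferInstance i
  haveI := hN.2.1; haveI := hN'.2.1
  obtain ⟨z, hz⟩ := (hN.2.2 N' n').2 ((hN'.2.2 N' n').1 ⟨𝟙 _, Category.id_comp _⟩)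
  obtain ⟨z', hz'⟩ := (hN'.2.2 N n).2 ((hN.2.2 N n).1 ⟨𝟙 _, Category.id_comp _⟩)
  let e : N ≅ N' := ⟨z', z, by rw [← cancel_mono n, Category.assoc, hz, hz', Category.id_comp],
    by rw [← cancel_mono n', Category.assoc, hz', hz, Category.id_comp]⟩
  haveI := hsm
  haveI : IsIso e.hom.left := ((Over.forget S).mapIso e).isIso_hom
  rw [← Over.w e.hom]
  infer_instance

/-- the conjugate of a subgroup by the universal point, as a subgroup over `G` -/
def conjTorus (i : T ⟶ G) : Red.bc G.hom T ⟶ Red.bc G.hom G :=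
  (toUnit _ ≫ Locus.sectionOf G.hom (𝟙 G)) * (Over.pullback G.hom).map i *
    (toUnit _ ≫ Locus.sectionOf G.hom (𝟙 G))⁻¹

omit [IsAffineHom G.hom] [Smooth G.hom] [GrpObj T] in
theorem mem_conjTorus_iff (i : T ⟶ G) {Y : Over S} (t x : Y ⟶ G) :
    Mem (M := G) (conjTorus i) t x ↔ ∃ h : Y ⟶ T, t * (h ≫ i) * t⁻¹ = x := by
  rw [mem_iff_exists]
  let Y₀ : Over G.left := Over.mk t.left
  let c : Over.mk (Y₀.hom ≫ G.hom) ≅ Y := Over.isoMk (Iso.refl _) ((Category.id_comp _).trans (Over.w t).symm)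
  have hc : (Over.homMk Y₀.hom rfl : Over.mk (Y₀.hom ≫ G.hom) ⟶ Over.mk G.hom) ≫ 𝟙 G = c.hom ≫ t :=
    Over.OverMorphism.ext ((Category.comp_id _).trans (Category.id_comp _).symm)
  have key : ∀ w : Y₀ ⟶ Red.bc G.hom T, NilAction.toBase G.hom (w ≫ conjTorus i) =
      c.hom ≫ (t * (c.inv ≫ NilAction.toBase G.hom w ≫ i) * t⁻¹) := fun w => by
    rw [conjTorus, MonObj.comp_mul, MonObj.comp_mul, GrpObj.comp_inv, comp_toUnit_assoc, NilAction.toBase_mul,
      NilAction.toBase_mul,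
      show NilAction.toBase G.hom (toUnit Y₀ ≫ Locus.sectionOf G.hom (𝟙 G))⁻¹ =
        (NilAction.toBase G.hom (toUnit Y₀ ≫ Locus.sectionOf G.hom (𝟙 G)))⁻¹ from
      eq_inv_of_mul_eq_one_left (by rw [← NilAction.toBase_mul, inv_mul_cancel, NilAction.toBase_one]),
      Locus.toBase_sectionOf, Locus.toBase_map, hc]
    simp only [MonObj.comp_mul, GrpObj.comp_inv, Iso.hom_inv_id_assoc]
  constructor
  · rintro ⟨w, hw⟩
    refine ⟨c.inv ≫ NilAction.toBase G.hom w, ?_⟩
    have h : NilAction.toBase G.hom (w ≫ conjTorus i) = NilAction.toBase G.hom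
        (NilAction.ofBase (Y := Y₀) G.hom (c.hom ≫ x)) := congrArg (NilAction.toBase G.hom) hw
    rw [NilAction.toBase_ofBase, key, cancel_epi] at h
    rw [Category.assoc]
    exact h
  · rintro ⟨h, rfl⟩
    refine ⟨NilAction.ofBase G.hom (c.hom ≫ h), ?_⟩
    show _ = NilAction.ofBase (Y := Y₀) G.hom (c.hom ≫ _)
    rw [← NilAction.ofBase_toBase G.hom (NilAction.ofBase G.hom (c.hom ≫ h) ≫ conjTorus i), key,
      NilAction.toBase_ofBase]
    simp only [Category.assoc, Iso.inv_hom_id_assoc]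

omit [IsAffineHom G.hom] [Smooth G.hom] [GrpObj T] in
theorem mem_conjFamily_iff (i : T ⟶ G) {Y : Over S} (t x : Y ⟶ G) :
    Mem (M := G) (RedSub.conjFamily i) t x ↔ ∃ h : Y ⟶ T, t * (h ≫ i) * t⁻¹ = x := by
  have hf : (RedSub.conjFamily i).left ≫ pullback.fst G.hom G.hom = (RedSub.conjMap i).left := pullback.lift_fst _ _ _
  have hm : ∀ (p : Y ⟶ G ⊗ T), p ≫ RedSub.conjMap i =
      (p ≫ fst G T) * ((p ≫ snd G T) ≫ i) * (p ≫ fst G T)⁻¹ := fun p => by
    rw [RedSub.conjMap, MonObj.comp_mul, MonObj.comp_mul, GrpObj.comp_inv, Category.assoc, _root_.mul_assoc]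
  constructor
  · rintro ⟨z, h1, h2⟩
    change z ≫ (fst G T).left = t.left at h1
    rw [hf] at h2
    let p : Y ⟶ G ⊗ T := Over.homMk z (by rw [← Over.w (fst G T), ← Category.assoc, h1, Over.w t])
    have hp : p ≫ fst G T = t := Over.OverMorphism.ext h1
    refine ⟨p ≫ snd G T, ?_⟩
    rw [← hp, ← hm]
    exact Over.OverMorphism.ext h2
  · rintro ⟨h, rfl⟩
    refine ⟨(lift t h).left, ?_, ?_⟩
    · show (lift t h).left ≫ (fst G T).left = t.left
      rw [← Over.comp_left, lift_fst]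
    · rw [hf, ← Over.comp_left, hm, lift_fst, lift_snd]

/-- two subgroups with the conjugates of a torus as points normalise it -/
theorem normalizes_iff (hN : Red.IsNormalizerOf i n) {X : Over S} (a b : X ⟶ G) :
    (∀ (Y : Over S) (c : Y ⟶ X) (z : Y ⟶ G), (∃ h : Y ⟶ T, (c ≫ a) * (h ≫ i) * (c ≫ a)⁻¹ = z) ↔
        ∃ h : Y ⟶ T, (c ≫ b) * (h ≫ i) * (c ≫ b)⁻¹ = z) ↔
      ∃ z : X ⟶ N, z ≫ n = a⁻¹ * b := by
  rw [hN.2.2]
  constructor
  · intro h Y c k
    constructor
    · obtain ⟨h', e⟩ := (h Y c _).2 ⟨k, rfl⟩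
      refine ⟨h', ?_⟩
      rw [MonObj.comp_mul, GrpObj.comp_inv, ← mul_left_inj (c ≫ a)⁻¹, ← mul_right_inj (c ≫ a)]
      simp only [_root_.mul_assoc] at e ⊢
      rw [e]
      group
    · obtain ⟨h', e⟩ := (h Y c _).1 ⟨k, rfl⟩
      refine ⟨h', ?_⟩
      rw [MonObj.comp_mul, GrpObj.comp_inv, ← mul_left_inj (c ≫ b)⁻¹, ← mul_right_inj (c ≫ b)]
      simp only [_root_.mul_assoc] at e ⊢
      rw [e]
      group
  · intro h Y c z
    constructor
    · rintro ⟨k, rfl⟩
      obtain ⟨h', e⟩ := (h Y c k).2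
      refine ⟨h', ?_⟩
      rw [← e, MonObj.comp_mul, GrpObj.comp_inv]
      group
    · rintro ⟨k, rfl⟩
      obtain ⟨h', e⟩ := (h Y c k).1
      refine ⟨h', ?_⟩
      rw [← e, MonObj.comp_mul, GrpObj.comp_inv]
      group

namespace MRep

variable (R : MRep G)

/-- the scheme of maximal tori is the quotient by the normaliser of any of its points -/
theorem exists_quotient_map [GrpObj R.K] [IsMonHom R.j] (hT : Red.IsMaximalTorus i) (hN : Red.IsNormalizerOf i n) :
    ∃ q : G ⟶ R.torT, RedSub.IsQuotient n q ∧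
      ∀ (Y : Over S) (t x : Y ⟶ G), Mem (M := G) (RedSub.conjFamily i) t x ↔ Mem R.torJ (t ≫ q) x := by
  haveI := hT.1; haveI := hT.2.1
  haveI := hN.1; haveI := hN.2.1
  haveI : QuasiCompact G.hom := inferInstance
  haveI : IsAffineHom (Red.bc G.hom G).hom := MorphismProperty.pullback_snd _ _ ‹IsAffineHom G.hom›
  haveI : Smooth (Red.bc G.hom G).hom := MorphismProperty.pullback_snd _ _ ‹Smooth G.hom›
  haveI : QuasiCompact (Red.bc G.hom G).hom := inferInstance
  have hG := hasMaxTorusEtaleLocally_of_maxTorus hT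
  have hr := Groth.L08.Borel.redRankLocallyConstant_of_etale hG
  have hc : Red.IsMaximalTorus (conjTorus i) :=
    Groth.L08.Borel.isMaximalTorus_conj (Groth.L08.Borel.isMaximalTorus_bc hT G.hom) _
  obtain ⟨q, hq⟩ := R.exists_torus_map hr hc
  have hmem : ∀ (Y : Over S) (t x : Y ⟶ G),
      Mem R.torJ (t ≫ q) x ↔ ∃ h : Y ⟶ T, t * (h ≫ i) * t⁻¹ = x := fun Y t x =>
    (hq Y t x).symm.trans (mem_conjTorus_iff i t x)
  have heq : ∀ {X : Over S} (a b : X ⟶ G), a ≫ q = b ≫ q ↔ ∃ z : X ⟶ N, z ≫ n = a⁻¹ * b := fun {X} a b => by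
    rw [← normalizes_iff hN]
    constructor
    · intro h Y c z
      rw [← hmem, ← hmem, Category.assoc, Category.assoc, h]
    · intro h
      refine R.torT_ext _ _ fun Y c z => ?_
      rw [← Category.assoc, ← Category.assoc, hmem, hmem]
      exact h Y c z
  have hmul : ∀ {X : Over S} (p : X ⟶ G ⊗ N),
      p ≫ (G ◁ n) ≫ μ[G] = (p ≫ fst G N) * ((p ≫ snd G N) ≫ n) := fun p => by
    rw [Hom.mul_def, ← Category.assoc p]
    congr 1
    ext <;> simp
  have sq : IsPullback (fst G N) ((G ◁ n) ≫ μ[G]) q q := by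
    refine ⟨⟨(heq _ _).2 ⟨snd G N, ?_⟩⟩, ⟨PullbackCone.IsLimit.mk _
      (fun s => lift s.fst ((heq _ _).1 s.condition).choose) (fun s => lift_fst _ _) (fun s => ?_)
      (fun s m hm₁ hm₂ => ?_)⟩⟩
    · have h := hmul (𝟙 (G ⊗ N))
      simp only [Category.id_comp] at h
      rw [h, inv_mul_cancel_left]
    · rw [hmul, lift_fst, lift_snd, ((heq _ _).1 s.condition).choose_spec, mul_inv_cancel_left]
    · refine CartesianMonoidalCategory.hom_ext _ _ (hm₁.trans (lift_fst _ _).symm) ?_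
      rw [lift_snd, ← cancel_mono n, ((heq _ _).1 s.condition).choose_spec, ← hm₂, hmul, hm₁, inv_mul_cancel_left]
  -- an etale cover over which the classifying map lifts
  have hcov : ∃ (U : Over S) (g : U ⟶ G), Etale (g ≫ q).left ∧ Surjective (g ≫ q).left := by
    let B := R.torT
    haveI : IsAffineHom (Red.bc B.hom G).hom := MorphismProperty.pullback_snd _ _ ‹IsAffineHom G.hom›
    haveI : Smooth (Red.bc B.hom G).hom := MorphismProperty.pullback_snd _ _ ‹Smooth G.hom›
    haveI : QuasiCompact (Red.bc B.hom G).hom := inferInstance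
    have h₁ := Groth.L08.Borel.isMaximalTorus_bc hT B.hom
    have h₂ := R.isMaximalTorus_torJ
    haveI := h₁.1; haveI := h₂.1; haveI := h₁.2.1
    obtain ⟨V, F, hF, hFs, γ, φ, hφ⟩ := Groth.L08.Borel.maxTori_conj_etale h₁ h₂
    obtain ⟨x, hx₁, hx₂⟩ := Groth.L08.Borel.exists_transporter_point F γ φ hφ.symm
    let U : Over S := Over.mk (F ≫ B.hom)
    let g : U ⟶ G := NilAction.toBase B.hom x
    let F' : U ⟶ B := Over.homMk F rfl
    have hgq : g ≫ q = F' := R.torT_ext _ _ fun Y t z => by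
      rw [← Category.assoc, hmem, mem_iff_exists]
      let Y₀ : Over B.left := Over.mk (t ≫ F').left
      let t₀ : Y₀ ⟶ Over.mk F := Over.homMk t.left rfl
      let c : Over.mk (Y₀.hom ≫ B.hom) ≅ Y :=
        Over.isoMk (Iso.refl _) ((Category.id_comp _).trans (Over.w (t ≫ F')).symm)
      have hg : NilAction.toBase B.hom (t₀ ≫ x) = c.hom ≫ t ≫ g :=
        Over.OverMorphism.ext ((Category.assoc _ _ _).trans (Category.id_comp _).symm)
      have hinv : NilAction.toBase B.hom (t₀ ≫ x)⁻¹ = (c.hom ≫ t ≫ g)⁻¹ := by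
        rw [← hg]
        exact eq_inv_of_mul_eq_one_left (by rw [← NilAction.toBase_mul, inv_mul_cancel, NilAction.toBase_one])
      constructor
      · rintro ⟨h, rfl⟩
        obtain ⟨w, hw⟩ := hx₁ Y₀ t₀ (NilAction.ofBase B.hom (c.hom ≫ h))
        refine ⟨w, ?_⟩
        show _ = NilAction.ofBase (Y := Y₀) B.hom (c.hom ≫ _)
        rw [← hw, ← NilAction.ofBase_toBase B.hom ((t₀ ≫ x) * _ * (t₀ ≫ x)⁻¹), NilAction.toBase_mul,
          NilAction.toBase_mul, hinv, hg, Locus.toBase_map, NilAction.toBase_ofBase]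
        simp only [Category.assoc, MonObj.comp_mul, GrpObj.comp_inv]
      · rintro ⟨w, hw⟩
        obtain ⟨w', hw'⟩ := hx₂ Y₀ t₀ w
        refine ⟨c.inv ≫ NilAction.toBase B.hom w', ?_⟩
        have e := congrArg (NilAction.toBase B.hom) hw'
        rw [hw, Locus.toBase_map, NilAction.toBase_mul, NilAction.toBase_mul, hinv, hg] at e
        change _ * NilAction.toBase B.hom (NilAction.ofBase (Y := Y₀) B.hom (c.hom ≫ z)) * _ = _ at e
        rw [NilAction.toBase_ofBase, ← GrpObj.comp_inv, ← MonObj.comp_mul, ← MonObj.comp_mul] at e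
        rw [Category.assoc, ← e, Iso.inv_hom_id_assoc]
        group
    exact ⟨U, g, by rw [hgq]; exact hF, by rw [hgq]; exact hFs⟩
  obtain ⟨U, g, hgE, hgS⟩ := hcov
  haveI := hgE; haveI := hgS
  haveI : Surjective q.left := ⟨fun b => by
    obtain ⟨a, rfl⟩ := (g ≫ q).left.surjective b
    exact ⟨g.left a, rfl⟩⟩
  haveI : Smooth N.hom := smooth_normalizer hT hN
  haveI : QuasiCompact G.hom := inferInstance
  have hsm : Smooth q.left := by
    refine Groth.L25.FpqcLocal.of_fpqc (P := @Smooth) q.left (𝟙 _) (g ≫ q).left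
      (Groth.L08.Borel.cover_of_lfp _) fun a => ⟨⊤, trivial, ?_⟩
    refine Groth.L25.FpqcLocal.bc_comp q.left (pullback.snd (𝟙 _) ((⊤ : U.left.Opens).ι ≫ (g ≫ q).left))
      ((⊤ : U.left.Opens).ι ≫ (g ≫ q).left) _ (by rw [← pullback.condition, Category.comp_id]) ?_
    have hsq : IsPullback (fst G N).left ((G ◁ n) ≫ μ[G]).left q.left q.left :=
      sq.map (Over.forget S)
    have h1 : Smooth (pullback.snd q.left q.left) := by
      rw [← (hsq.flip).isoPullback_inv_snd]
      haveI : Smooth (fst G N).left := MorphismProperty.pullback_fst _ _ ‹Smooth N.hom›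
      infer_instance
    exact Groth.L25.FpqcLocal.bc_comp q.left ((⊤ : U.left.Opens).ι ≫ g.left) q.left _ (by simp) h1
  haveI := hsm
  refine ⟨q, ⟨inferInstance, inferInstance, inferInstance, sq⟩, fun Y t x => ?_⟩
  rw [mem_conjFamily_iff, hmem]

end MRep

/-- quotients by the same subgroup are isomorphic -/
theorem exists_iso_quotient {P Q : Over S} {p : G ⟶ P} {q : G ⟶ Q} (hp : RedSub.IsQuotient n p)
    (hq : RedSub.IsQuotient n q) : ∃ e : P ≅ Q, p ≫ e.hom = q := by
  have epi : ∀ {P : Over S} {p : G ⟶ P}, RedSub.IsQuotient n p → EffectiveEpi p.left := fun {P p} h => by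
    haveI := h.1; haveI := h.2.1; haveI := h.2.2.1
    exact Descent.effectiveEpi_of_cover p.left (Groth.L08.Borel.cover_of_lfp p.left)
  have ker : ∀ {P Q : Over S} {p : G ⟶ P} {q : G ⟶ Q}, RedSub.IsQuotient n p → RedSub.IsQuotient n q →
      ∀ (Z : Over S) (a b : Z ⟶ G), a ≫ p = b ≫ p → a ≫ q = b ≫ q := fun {P Q p q} hp hq Z a b h => by
    rw [← hp.2.2.2.lift_fst a b h]
    conv_rhs => rw [← hp.2.2.2.lift_snd a b h]
    simp only [Category.assoc]
    rw [hq.2.2.2.w, Category.assoc]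
  haveI := epi hp; haveI := epi hq
  obtain ⟨u, hu, huu⟩ := Actions.existsUnique_desc p q (ker hp hq)
  obtain ⟨v, hv, -⟩ := Actions.existsUnique_desc q p (ker hq hp)
  obtain ⟨d₁, -, hp'⟩ := Actions.existsUnique_desc p p fun _ _ _ h => h
  obtain ⟨d₂, -, hq'⟩ := Actions.existsUnique_desc q q fun _ _ _ h => h
  exact ⟨⟨u, v, (hp' _ (show p ≫ u ≫ v = p by rw [← Category.assoc, hu, hv])).trans (hp' (𝟙 _) (Category.comp_id _)).symm,
    (hq' _ (show q ≫ v ≫ u = q by rw [← Category.assoc, hv, hu])).trans (hq' (𝟙 _) (Category.comp_id _)).symm⟩, hu⟩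

end Groth.L24.MSub
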