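import Groth.Agent.L24.MSub.IndQA
import Groth.Agent.L24.MSub.ToriQuot
import Groth.Agent.L24.WeylQuot
import Groth.Agent.L25.SplitHom.Main
import Groth.Agent.L25.SplitHom.Smooth
import Groth.Agent.L25.Locus.Transporter
import Groth.Agent.L23.FppfSmooth
import Groth.Prelude.Def_RedSub
import Groth.Prelude.Def_Mor2

/-!
# Quotients by the centraliser and by the normaliser of a subgroup of multiplicative type
-/

set_option autoImplicit false
universe u

open CategoryTheory CategoryTheory.Limits MonoidalCategory CartesianMonoidalCategory AlgebraicGeometry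
open scoped MonObj

set_option backward.isDefEq.respectTransparency.types false
set_option linter.style.haveILetI false

noncomputable section

namespace Groth.L24.MSub

open Groth.L25 Groth.L24.FinSub

variable {S : Scheme.{u}}

/-- a map whose graph is smooth over the target is smooth -/
theorem smooth_of_graph {G B : Over S} (θ : G ⟶ B) {W : Over B.left} (w : W ⟶ Red.bc B.hom G) [Mono w.left]
    [Smooth W.hom]
    (h : ∀ (T : Over B.left) (x : T ⟶ Red.bc B.hom G), (∃ z, z ≫ w = x) ↔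
      NilAction.toBase B.hom x ≫ θ = Over.homMk T.hom rfl) : Smooth θ.left := by
  let T₀ : Over B.left := Over.mk θ.left
  let t₀ : Over.mk (T₀.hom ≫ B.hom) ⟶ G := Over.homMk (𝟙 G.left) (by
    show 𝟙 G.left ≫ G.hom = θ.left ≫ B.hom
    rw [Category.id_comp, Over.w θ])
  obtain ⟨z, hz⟩ := (h T₀ (NilAction.ofBase B.hom t₀)).2 (by
    rw [NilAction.toBase_ofBase]
    exact Over.OverMorphism.ext (Category.id_comp _))
  have hw : w.left ≫ pullback.snd G.hom B.hom = W.hom := Over.w w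
  have hu : (w.left ≫ pullback.fst G.hom B.hom) ≫ θ.left = W.hom :=
    congrArg (fun k => k.left) ((h W w).1 ⟨𝟙 W, Category.id_comp w⟩)
  have h1 : z.left ≫ W.hom = θ.left := Over.w z
  have h2 : z.left ≫ w.left ≫ pullback.fst G.hom B.hom = 𝟙 G.left := by
    have e := congrArg (fun k => k.left ≫ pullback.fst G.hom B.hom) hz
    rw [Over.comp_left, Category.assoc] at e
    exact e.trans (pullback.lift_fst _ _ _)
  haveI : IsIso z.left := ⟨w.left ≫ pullback.fst G.hom B.hom, h2,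
    FinSub.ext w _ _ (by rw [Category.assoc, h1, hu, Category.id_comp])
      (by rw [Category.assoc, h2, Category.id_comp]; exact Category.comp_id _)⟩
  rw [← h1]
  infer_instance

/-- the image of a smooth map with the cosets as fibres is the quotient -/
theorem exists_image_quotient {G B N : Over S} [GrpObj G] [QuasiCompact G.hom] [Smooth B.hom] (θ : G ⟶ B)
    [Smooth θ.left] (j : N ⟶ G) [Mono j]
    (heq : ∀ {X : Over S} (a b : X ⟶ G), a ≫ θ = b ≫ θ ↔ ∃ z : X ⟶ N, z ≫ j = a⁻¹ * b) :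
    ∃ (Q : Over S) (q : G ⟶ Q) (incl : Q ⟶ B), q ≫ incl = θ ∧ IsOpenImmersion incl.left ∧ Smooth q.left ∧
      RedSub.IsQuotient j q ∧ Smooth Q.hom ∧ QuasiCompact Q.hom := by
  let U : B.left.Opens := ⟨Set.range θ.left, θ.left.isOpenMap.isOpen_range⟩
  let Q : Over S := Over.mk (U.ι ≫ B.hom)
  let q₀ : G.left ⟶ U.toScheme := IsOpenImmersion.lift U.ι θ.left (by rw [Scheme.Opens.range_ι]; exact subset_rfl)
  have hq₀ : q₀ ≫ U.ι = θ.left := IsOpenImmersion.lift_fac _ _ _
  let q : G ⟶ Q := Over.homMk q₀ (by show q₀ ≫ U.ι ≫ B.hom = G.hom; rw [reassoc_of% hq₀, Over.w])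
  let incl : Q ⟶ B := Over.homMk U.ι rfl
  haveI : Mono U.ι := inferInstance
  haveI : Mono incl := Over.mono_of_mono_left incl
  have hqι : q ≫ incl = θ := Over.OverMorphism.ext hq₀
  haveI : Smooth (q₀ ≫ U.ι) := by rw [hq₀]; infer_instance
  haveI : Smooth q.left := Groth.Agent.NeronL.smooth_of_comp_etale q₀ U.ι
  haveI : Surjective q.left := ⟨fun y => by
    obtain ⟨a, ha⟩ := y.2
    refine ⟨a, Subtype.ext ?_⟩
    show (q₀ ≫ U.ι) a = y.1
    rw [hq₀]; exact ha⟩
  have hrel : ∀ {X : Over S} (a b : X ⟶ G), a ≫ q = b ≫ q ↔ ∃ z : X ⟶ N, z ≫ j = a⁻¹ * b := fun {X} a b => by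
    rw [← cancel_mono incl, Category.assoc, Category.assoc, hqι, heq]
  have hmul : ∀ {X : Over S} (p : X ⟶ G ⊗ N),
      p ≫ (G ◁ j) ≫ μ[G] = (p ≫ fst G N) * ((p ≫ snd G N) ≫ j) := fun p => by
    rw [Hom.mul_def, ← Category.assoc p]
    congr 1
    ext <;> simp
  have sq : IsPullback (fst G N) ((G ◁ j) ≫ μ[G]) q q := by
    refine ⟨⟨(hrel _ _).2 ⟨snd G N, ?_⟩⟩, ⟨PullbackCone.IsLimit.mk _
      (fun s => lift s.fst ((hrel _ _).1 s.condition).choose) (fun s => lift_fst _ _) (fun s => ?_)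
      (fun s m hm₁ hm₂ => ?_)⟩⟩
    · have h := hmul (𝟙 (G ⊗ N))
      simp only [Category.id_comp] at h
      rw [h, inv_mul_cancel_left]
    · rw [hmul, lift_fst, lift_snd, ((hrel _ _).1 s.condition).choose_spec, mul_inv_cancel_left]
    · refine CartesianMonoidalCategory.hom_ext _ _ (hm₁.trans (lift_fst _ _).symm) ?_
      rw [lift_snd, ← cancel_mono j, ((hrel _ _).1 s.condition).choose_spec, ← hm₂, hmul, hm₁, inv_mul_cancel_left]
  refine ⟨Q, q, incl, hqι, inferInstanceAs (IsOpenImmersion U.ι), inferInstance,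
    ⟨inferInstance, inferInstance, inferInstance, sq⟩, ?_, ?_⟩
  · show Smooth (U.ι ≫ B.hom); infer_instance
  · haveI : QuasiCompact (q.left ≫ Q.hom) := by rw [Over.w q]; infer_instance
    refine (quasiCompact_iff Q.hom).2 fun V hV hV' => ?_
    have := (QuasiCompact.isCompact_preimage (f := q.left ≫ Q.hom) V hV hV').image q.left.continuous
    rwa [show (q.left ≫ Q.hom).base ⁻¹' V = q.left.base ⁻¹' (Q.hom.base ⁻¹' V) from rfl,
      Set.image_preimage_eq _ q.left.surjective] at this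

/-- a quasi-compact ind-quasi-affine morphism is quasi-affine -/
theorem isQuasiAffine_of_indQA {X Y : Scheme.{u}} (f : X ⟶ Y) [QuasiCompact f]
    (h : MoreMor.IsIndQuasiAffineHom f) : Mor2.IsQuasiAffine f := by
  rw [Groth.L20.isIndQuasiAffineHom_iff] at h
  exact ⟨inferInstance, fun V hV => h V hV _ le_rfl (QuasiCompact.isCompact_preimage (f := f) _ V.2 hV.isCompact)⟩

variable {H G Z N : Over S} [GrpObj H] [GrpObj G] [GrpObj Z] [GrpObj N]

/-- the quotient by the normaliser -/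
theorem exists_quotient_normalizer (hH : SGA3x.IsMultTypeFT H) [Smooth G.hom] [IsAffineHom G.hom] (i : H ⟶ G)
    [IsMonHom i] [Mono i] (k : N ⟶ G) (hk : Red.IsNormalizerOf i k) :
    ∃ (Q : Over S) (q : G ⟶ Q), RedSub.IsQuotient k q ∧ Smooth q.left ∧ Smooth Q.hom ∧ QuasiCompact Q.hom ∧
      IsSeparated Q.hom ∧ MoreMor.IsIndQuasiAffineHom Q.hom ∧
      ∀ {X : Over S} (a b : X ⟶ G), a ≫ q = b ≫ q ↔ ∃ z : X ⟶ N, z ≫ k = a⁻¹ * b := by
  haveI := hk.1; haveI := hk.2.1
  obtain ⟨R⟩ := nonempty_mrep G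
  obtain ⟨_, hjm⟩ := R.exists_grp
  haveI := hjm
  haveI : IsMonHom ((Over.pullback G.hom).map i) := MonoClosed.isMonHom_pullbackMap _ _
  have hpt : ∀ {X : Over G.left} (a : X ⟶ Red.bc G.hom H), a ≫ conjTorus i =
      (toUnit X ≫ Locus.sectionOf G.hom (𝟙 G)) * (a ≫ (Over.pullback G.hom).map i) *
        (toUnit X ≫ Locus.sectionOf G.hom (𝟙 G))⁻¹ := fun a => by
    simp only [conjTorus, MonObj.comp_mul, GrpObj.comp_inv, comp_toUnit_assoc]
  haveI : IsMonHom (conjTorus i) := Bridge.isMonHom_of_mul (conjTorus i) fun X a b => by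
    rw [hpt, hpt, hpt, MonObj.mul_comp]; group
  haveI : Mono (conjTorus i) := ⟨fun {X} a b h => by
    rw [hpt, hpt] at h
    exact (cancel_mono ((Over.pullback G.hom).map i)).1 (mul_left_cancel (mul_right_cancel h))⟩
  haveI : Mono (conjTorus i).left := inferInstance
  obtain ⟨θ, hθ⟩ := R.exists_map (f := G.hom) (conjTorus i) (MultTypeBC.isMultTypeFT_bc hH G.hom)
  change G ⟶ R.A at θ
  have hmem : ∀ (Y : Over S) (t x : Y ⟶ G),
      Mem R.j (t ≫ θ) x ↔ ∃ h : Y ⟶ H, t * (h ≫ i) * t⁻¹ = x := fun Y t x =>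
    (hθ Y t x).symm.trans (mem_conjTorus_iff i t x)
  have heq : ∀ {X : Over S} (a b : X ⟶ G), a ≫ θ = b ≫ θ ↔ ∃ z : X ⟶ N, z ≫ k = a⁻¹ * b := fun {X} a b => by
    rw [← normalizes_iff hk]
    constructor
    · intro h Y c z
      rw [← hmem, ← hmem, Category.assoc, Category.assoc, h]
    · intro h
      refine R.pt_ext _ _ fun Y c z => ?_
      rw [← Category.assoc, ← Category.assoc, hmem, hmem]
      exact h Y c z
  haveI := R.smooth; haveI := R.separated
  let B := R.A
  haveI : IsAffineHom (Red.bc B.hom G).hom := MorphismProperty.pullback_snd _ _ ‹IsAffineHom G.hom›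
  haveI : Smooth (Red.bc B.hom G).hom := MorphismProperty.pullback_snd _ _ ‹Smooth G.hom›
  haveI : IsMonHom ((Over.pullback B.hom).map i) := MonoClosed.isMonHom_pullbackMap _ _
  haveI : Mono R.j := Over.mono_of_mono_left _
  obtain ⟨W, w, hwc, hWs, hW⟩ := Locus.exists_smooth_subgroupTransporter (G := Red.bc B.hom G)
    (MultTypeBC.isMultTypeFT_bc hH B.hom) R.isMultTypeFT_K ((Over.pullback B.hom).map i) R.j
  haveI := hwc; haveI := hWs
  have hinv : ∀ {Y : Over B.left} (a : Y ⟶ Red.bc B.hom G),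
      NilAction.toBase B.hom a⁻¹ = (NilAction.toBase B.hom a)⁻¹ := fun a =>
    map_inv (Locus.toBaseHom B.hom) a
  haveI : Smooth θ.left := by
    refine smooth_of_graph θ w fun T x => (hW T x).trans ?_
    let t' := NilAction.toBase B.hom x
    let sb : ∀ {T' : Over B.left} (_ : T' ⟶ T), Over.mk (T'.hom ≫ B.hom) ⟶ Over.mk (T.hom ≫ B.hom) :=
      fun {T'} σ => Over.homMk σ.left (by
        show σ.left ≫ T.hom ≫ B.hom = T'.hom ≫ B.hom
        rw [← Category.assoc, Over.w σ])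
    have hx : ∀ {T' : Over B.left} (σ : T' ⟶ T), NilAction.toBase B.hom (σ ≫ x) = sb σ ≫ t' := fun σ =>
      Over.OverMorphism.ext (Category.assoc _ _ _)
    have hv : ∀ {T' : Over B.left} (σ : T' ⟶ T),
        sb σ ≫ (Over.homMk T.hom rfl : Over.mk (T.hom ≫ B.hom) ⟶ B) = Over.homMk T'.hom rfl := fun σ =>
      Over.OverMorphism.ext (Over.w σ)
    constructor
    · rintro ⟨h1, h2⟩
      refine R.pt_ext _ _ fun Y s g => ?_
      let T' : Over B.left := Over.mk (s.left ≫ T.hom)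
      let σ : T' ⟶ T := Over.homMk s.left rfl
      let g₀ : Over.mk (T'.hom ≫ B.hom) ⟶ G := Over.homMk g.left (by
        show g.left ≫ G.hom = (s.left ≫ T.hom) ≫ B.hom
        rw [Over.w g, Category.assoc]
        exact (Over.w s).symm)
      suffices key : Mem R.j (sb σ ≫ t' ≫ θ) g₀ ↔
          Mem R.j (Over.homMk T'.hom rfl : Over.mk (T'.hom ≫ B.hom) ⟶ B) g₀ by exact key
      rw [← Category.assoc, hmem]
      constructor
      · rintro ⟨h, e⟩
        obtain ⟨h', e'⟩ := h1 T' σ (NilAction.ofBase B.hom h)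
        have := (mem_toBase_iff R.j _).1 ⟨h', e'.symm⟩
        rwa [NilAction.toBase_mul, NilAction.toBase_mul, hinv, hx, Locus.toBase_map,
          NilAction.toBase_ofBase, e] at this
      · intro hg
        have hg' : Mem R.j (Over.homMk T'.hom rfl : Over.mk (T'.hom ≫ B.hom) ⟶ B)
            (NilAction.toBase B.hom (NilAction.ofBase B.hom g₀)) := by
          rwa [NilAction.toBase_ofBase]
        obtain ⟨h', e'⟩ := (mem_toBase_iff R.j _).2 hg'
        obtain ⟨h, eh⟩ := h2 T' σ h'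
        refine ⟨NilAction.toBase B.hom h, ?_⟩
        have := congrArg (NilAction.toBase B.hom) eh
        rw [e', NilAction.toBase_mul, NilAction.toBase_mul, hinv, hx, Locus.toBase_map,
          NilAction.toBase_ofBase] at this
        rw [← this]; group
    · intro e
      refine ⟨fun X' s h => ?_, fun X' s h => ?_⟩
      · obtain ⟨h', eh'⟩ := (mem_toBase_iff R.j ((s ≫ x) * (h ≫ (Over.pullback B.hom).map i) * (s ≫ x)⁻¹)).2 (by
          rw [← hv s, ← e, ← Category.assoc, hmem]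
          refine ⟨NilAction.toBase B.hom h, ?_⟩
          rw [NilAction.toBase_mul, NilAction.toBase_mul, hinv, hx, Locus.toBase_map])
        exact ⟨h', eh'.symm⟩
      · have hm := (mem_toBase_iff R.j (h ≫ R.j)).1 ⟨h, rfl⟩
        rw [← hv s, ← e, ← Category.assoc, hmem] at hm
        obtain ⟨h₀, e₀⟩ := hm
        refine ⟨NilAction.ofBase B.hom h₀, ?_⟩
        rw [← NilAction.ofBase_toBase B.hom ((s ≫ x)⁻¹ * (h ≫ R.j) * (s ≫ x)),
          ← NilAction.ofBase_toBase B.hom (NilAction.ofBase B.hom h₀ ≫ (Over.pullback B.hom).map i)]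
        congr 1
        rw [NilAction.toBase_mul, NilAction.toBase_mul, hinv, hx, Locus.toBase_map, NilAction.toBase_ofBase, ← e₀]
        simp only [t', B]
        group
  obtain ⟨Q, q, incl, hqι, hi, hqs, hQ, hQs, hQc⟩ := exists_image_quotient θ k heq
  haveI := hi; haveI := hQc
  refine ⟨Q, q, hQ, hqs, hQs, hQc, ?_, ?_, fun a b => ?_⟩
  · rw [← Over.w incl]; infer_instance
  · rw [← Over.w incl]
    exact Groth.L20.isIndQuasiAffineHom_comp (Groth.L20.isIndQuasiAffineHom_of_isImmersion incl.left)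
      R.isIndQuasiAffineHom_A
  · haveI : Mono incl := Over.mono_of_mono_left incl
    rw [← cancel_mono incl, Category.assoc, Category.assoc, hqι, heq]

/-- the quotient by the centraliser -/
theorem exists_quotient_centralizer (hH : SGA3x.IsMultTypeFT H) [Smooth G.hom] [IsAffineHom G.hom] (i : H ⟶ G)
    [IsMonHom i] (j : Z ⟶ G) (hj : Red.IsCentralizerOf i j) :
    ∃ (Q : Over S) (q : G ⟶ Q), RedSub.IsQuotient j q ∧ Smooth q.left ∧ Smooth Q.hom ∧ QuasiCompact Q.hom ∧
      IsSeparated Q.hom ∧ ∀ {X : Over S} (a b : X ⟶ G), a ≫ q = b ≫ q ↔ ∃ z : X ⟶ Z, z ≫ j = a⁻¹ * b := by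
  haveI := hj.2.1
  have hl := Locus.locally_of_multTypeFT hH
  obtain ⟨E, υ, hE, hEsep, hElfp⟩ := SplitHom.exists_representsHom H G hl
  haveI := hEsep; haveI := hElfp
  haveI := SplitHom.smooth_of_representsHom hl hE
  let φ : H ⊗ G ⟶ G := snd H G * (fst H G ≫ i) * (snd H G)⁻¹
  have hc : ∀ (X : Over S) (h : X ⟶ H) (g : X ⟶ G), lift h g ≫ φ = g * (h ≫ i) * g⁻¹ := fun X h g => by
    simp only [φ, MonObj.comp_mul, GrpObj.comp_inv, lift_snd, lift_fst_assoc]
  have hφ : AutFam.IsHomFamily H G φ := fun X g₁ g₂ t => by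
    rw [hc, hc, hc, MonObj.mul_comp]; group
  obtain ⟨θ, hθ, -⟩ := hE.2 G φ hφ
  have hpt : ∀ {X X' : Over S} (a : X ⟶ G) (x : X' ⟶ X) (h : X' ⟶ H),
      lift h x ≫ (H ◁ (a ≫ θ)) ≫ υ = (x ≫ a) * (h ≫ i) * (x ≫ a)⁻¹ := by
    intro X X' a x h
    rw [MonoidalCategory.whiskerLeft_comp, Category.assoc, hθ, lift_whiskerLeft_assoc, hc]
  have hext : ∀ {X : Over S} (u v : X ⟶ E), (H ◁ u) ≫ υ = (H ◁ v) ≫ υ → u = v := fun {X} u v e =>
    (hE.2 X ((H ◁ v) ≫ υ) fun Y g₁ g₂ t => by
      simp only [lift_whiskerLeft_assoc]; exact hE.1 Y g₁ g₂ (t ≫ v)).unique e rfl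
  have heq : ∀ {X : Over S} (a b : X ⟶ G), a ≫ θ = b ≫ θ ↔ ∃ z : X ⟶ Z, z ≫ j = a⁻¹ * b := by
    intro X a b
    rw [hj.2.2]
    constructor
    · intro e X' x h
      have h1 := congrArg (fun m => lift h x ≫ (H ◁ m) ≫ υ) e
      simp only [hpt] at h1
      rw [MonObj.comp_mul, GrpObj.comp_inv]
      calc (x ≫ a)⁻¹ * (x ≫ b) * (h ≫ i)
          = (x ≫ a)⁻¹ * ((x ≫ b) * (h ≫ i) * (x ≫ b)⁻¹) * (x ≫ b) := by group
        _ = (h ≫ i) * ((x ≫ a)⁻¹ * (x ≫ b)) := by rw [← h1]; group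
    · intro e
      refine hext _ _ ?_
      have h1 := hpt a (snd H X) (fst H X)
      have h2 := hpt b (snd H X) (fst H X)
      rw [lift_fst_snd, Category.id_comp] at h1 h2
      rw [h1, h2]
      have h3 := e (H ⊗ X) (snd H X) (fst H X)
      rw [MonObj.comp_mul, GrpObj.comp_inv] at h3
      set A := snd H X ≫ a
      set B := snd H X ≫ b
      set C := fst H X ≫ i
      calc A * C * A⁻¹ = A * (C * (A⁻¹ * B)) * B⁻¹ := by group
        _ = B * C * B⁻¹ := by rw [← h3]; group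
  haveI : IsSeparated (Red.bc E.hom G).hom := MorphismProperty.pullback_snd _ _ (inferInstanceAs (IsSeparated G.hom))
  haveI : Smooth (Red.bc E.hom G).hom := MorphismProperty.pullback_snd _ _ ‹Smooth G.hom›
  haveI : IsMonHom ((Over.pullback E.hom).map i) := MonoClosed.isMonHom_pullbackMap _ _
  let HE := Red.bc E.hom H
  let p : Over.mk (HE.hom ≫ E.hom) ⟶ E := Over.homMk HE.hom rfl
  let u₂ : HE ⟶ Red.bc E.hom G := NilAction.ofBase E.hom (lift (NilAction.toBase E.hom (𝟙 HE)) p ≫ υ)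
  have hu₂ : ∀ {T : Over E.left} (a : T ⟶ HE), NilAction.toBase E.hom (a ≫ u₂) =
      lift (NilAction.toBase E.hom a) (Over.homMk T.hom rfl : Over.mk (T.hom ≫ E.hom) ⟶ E) ≫ υ := fun {T} a => by
    let ab : Over.mk (T.hom ≫ E.hom) ⟶ Over.mk (HE.hom ≫ E.hom) := Over.homMk a.left (by
      show a.left ≫ HE.hom ≫ E.hom = T.hom ≫ E.hom
      rw [← Category.assoc, Over.w a])
    have h1 : NilAction.toBase E.hom (a ≫ u₂) = ab ≫ NilAction.toBase E.hom u₂ :=
      Over.OverMorphism.ext (Category.assoc _ _ _)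
    have h2 : ab ≫ NilAction.toBase E.hom (𝟙 HE) = NilAction.toBase E.hom a :=
      Over.OverMorphism.ext (by
        show a.left ≫ 𝟙 _ ≫ pullback.fst H.hom E.hom = a.left ≫ pullback.fst H.hom E.hom
        rw [Category.id_comp])
    have h3 : ab ≫ p = Over.homMk T.hom rfl := Over.OverMorphism.ext (Over.w a)
    rw [h1, NilAction.toBase_ofBase, ← Category.assoc, comp_lift, h2, h3]
  haveI : IsMonHom u₂ := Bridge.isMonHom_of_mul u₂ fun T a b => by
    rw [← NilAction.ofBase_toBase E.hom ((a * b) ≫ u₂), ← NilAction.ofBase_toBase E.hom ((a ≫ u₂) * (b ≫ u₂))]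
    congr 1
    rw [NilAction.toBase_mul, hu₂, hu₂, hu₂, NilAction.toBase_mul]
    exact hE.1 _ _ _ _
  obtain ⟨W, w, hwc, hWs, hW⟩ := Locus.exists_smooth_transporter (G := Red.bc E.hom G)
    (Locus.locally_bc hl E.hom) ((Over.pullback E.hom).map i) u₂
  haveI := hwc; haveI := hWs
  have hinv : ∀ {Y : Over E.left} (a : Y ⟶ Red.bc E.hom G),
      NilAction.toBase E.hom a⁻¹ = (NilAction.toBase E.hom a)⁻¹ := fun a =>
    map_inv (Locus.toBaseHom E.hom) a
  haveI : Smooth θ.left := by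
    refine smooth_of_graph θ w fun T x => (hW T x).trans ?_
    let t' := NilAction.toBase E.hom x
    let Tb : Over S := Over.mk (T.hom ≫ E.hom)
    let v' : Tb ⟶ E := Over.homMk T.hom rfl
    let sb : ∀ {T' : Over E.left} (_ : T' ⟶ T), Over.mk (T'.hom ≫ E.hom) ⟶ Tb :=
      fun {T'} σ => Over.homMk σ.left (by
        show σ.left ≫ T.hom ≫ E.hom = T'.hom ≫ E.hom
        rw [← Category.assoc, Over.w σ])
    have hx : ∀ {T' : Over E.left} (σ : T' ⟶ T), NilAction.toBase E.hom (σ ≫ x) = sb σ ≫ t' := fun σ =>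
      Over.OverMorphism.ext (Category.assoc _ _ _)
    have hv : ∀ {T' : Over E.left} (σ : T' ⟶ T),
        sb σ ≫ v' = Over.homMk T'.hom rfl := fun σ => Over.OverMorphism.ext (Over.w σ)
    have hL : ∀ {T' : Over E.left} (σ : T' ⟶ T) (h : T' ⟶ Red.bc E.hom H),
        NilAction.toBase E.hom ((σ ≫ x) * (h ≫ (Over.pullback E.hom).map i) * (σ ≫ x)⁻¹) =
          lift (NilAction.toBase E.hom h) (sb σ) ≫ (H ◁ (t' ≫ θ)) ≫ υ := fun σ h => by
      rw [hpt, NilAction.toBase_mul, NilAction.toBase_mul, hinv, hx, Locus.toBase_map]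
    have hR : ∀ {T' : Over E.left} (σ : T' ⟶ T) (h : T' ⟶ Red.bc E.hom H),
        NilAction.toBase E.hom (h ≫ u₂) = lift (NilAction.toBase E.hom h) (sb σ) ≫ (H ◁ v') ≫ υ := fun σ h => by
      rw [hu₂, lift_whiskerLeft_assoc, hv]
    constructor
    · intro htr
      refine hext _ _ ?_
      let T' : Over E.left := Over.mk ((snd H Tb).left ≫ T.hom)
      let σ : T' ⟶ T := Over.homMk (snd H Tb).left rfl
      have hw' : (H ⊗ Tb).hom = T'.hom ≫ E.hom := (Over.w (snd H Tb)).symm.trans (Category.assoc _ _ _).symm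
      let c : Over.mk (T'.hom ≫ E.hom) ≅ H ⊗ Tb := Over.isoMk (Iso.refl _) ((Category.id_comp _).trans hw')
      let h : T' ⟶ Red.bc E.hom H := NilAction.ofBase E.hom (c.hom ≫ fst H Tb)
      have hl' : lift (NilAction.toBase E.hom h) (sb σ) = c.hom := by
        refine CartesianMonoidalCategory.hom_ext _ _ ?_ ?_
        · rw [lift_fst, NilAction.toBase_ofBase]
        · rw [lift_snd]; exact Over.OverMorphism.ext (Category.id_comp _).symm
      have e := congrArg (NilAction.toBase E.hom) (htr T' σ h)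
      rw [hL, hR σ, hl', cancel_epi] at e
      exact e
    · intro e X' s h
      rw [← NilAction.ofBase_toBase E.hom (_ * _ * _⁻¹), ← NilAction.ofBase_toBase E.hom (h ≫ u₂)]
      congr 1
      rw [hL, hR s]
      exact congrArg (fun m => lift (NilAction.toBase E.hom h) (sb s) ≫ (H ◁ m) ≫ υ) e
  obtain ⟨Q, q, incl, hqι, hi, hqs, hQ, hQs, hQc⟩ := exists_image_quotient θ j heq
  haveI := hi
  refine ⟨Q, q, hQ, hqs, hQs, hQc, ?_, fun a b => ?_⟩
  · rw [← Over.w incl]; infer_instance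
  · haveI : Mono incl := Over.mono_of_mono_left incl
    rw [← cancel_mono incl, Category.assoc, Category.assoc, hqι, heq]

/-- the two quotients are quasi-affine -/
theorem exists_quasiAffine_quotients (hH : SGA3x.IsMultTypeFT H) (hG : Smooth G.hom) (hGa : IsAffineHom G.hom)
    (i : H ⟶ G) [IsMonHom i] [Mono i] (j : Z ⟶ G) (k : N ⟶ G) (hj : Red.IsCentralizerOf i j)
    (hk : Red.IsNormalizerOf i k) :
    (∃ (Q : Over S) (q : G ⟶ Q), RedSub.IsQuotient j q ∧ Smooth Q.hom ∧ Mor2.IsQuasiAffine Q.hom) ∧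
    (∃ (Q : Over S) (q : G ⟶ Q), RedSub.IsQuotient k q ∧ Smooth Q.hom ∧ Mor2.IsQuasiAffine Q.hom) := by
  haveI := hj.1; haveI := hj.2.1; haveI := hk.1; haveI := hk.2.1
  obtain ⟨QN, qN, hQN, hqNs, hQNs, hQNc, hQNsep, hQNi, hrelN⟩ := exists_quotient_normalizer hH i k hk
  obtain ⟨QZ, qZ, hQZ, hqZs, hQZs, hQZc, hQZsep, hrelZ⟩ := exists_quotient_centralizer hH i j hj
  haveI := hqNs; haveI := hqZs; haveI := hQZ.1; haveI := hQNc; haveI := hQZc; haveI := hQNsep; haveI := hQZsep
  haveI := hQNs; haveI := hQZs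
  refine ⟨⟨QZ, qZ, hQZ, hQZs, isQuasiAffine_of_indQA _ ?_⟩, ⟨QN, qN, hQN, hQNs, isQuasiAffine_of_indQA _ hQNi⟩⟩
  obtain ⟨f, hf, -, -⟩ := Locus.exists_clopen_centralizer hH i j k hj hk
  haveI : IsMonHom f := Bridge.isMonHom_of_mul f fun X a b => by
    rw [← cancel_mono k, Category.assoc, hf, MonObj.mul_comp, MonObj.mul_comp, Category.assoc, Category.assoc, hf]
  obtain ⟨W, _, qW, _, hqW, -, hWet, hWc⟩ := WeylQuot.exists_quotient hH hG hGa i j k hj hk f hf
  haveI := hWet; haveI := hWc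
  haveI := hqW.1; haveI := hqW.2.1; haveI := hqW.2.2.1
  haveI : EffectiveEpi qZ.left := Descent.effectiveEpi_of_cover qZ.left (Groth.L08.Borel.cover_of_lfp qZ.left)
  obtain ⟨r, hr, -⟩ := Actions.existsUnique_desc qZ qN fun X a b e => by
    obtain ⟨z, hz⟩ := (hrelZ a b).1 e
    exact (hrelN a b).2 ⟨z ≫ f, by rw [Category.assoc, hf, hz]⟩
  have hcov : (Surjective (G ◁ qW).left ∧ Flat (G ◁ qW).left ∧ LocallyOfFinitePresentation (G ◁ qW).left) :=
    ⟨Actions.of_whiskerLeft @Surjective G qW inferInstance, Actions.of_whiskerLeft @Flat G qW inferInstance,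
      Actions.of_whiskerLeft @LocallyOfFinitePresentation G qW inferInstance⟩
  obtain ⟨_, _, _⟩ := hcov
  haveI : EffectiveEpi (G ◁ qW).left :=
    Descent.effectiveEpi_of_cover (G ◁ qW).left (Groth.L08.Borel.cover_of_lfp (G ◁ qW).left)
  obtain ⟨ψ, hψ, -⟩ := Actions.existsUnique_desc (G ◁ qW) ((fst G N * (snd G N ≫ k)) ≫ qZ) fun X a b e => by
    have e1 := congrArg (· ≫ fst G W) e
    have e2 := congrArg (· ≫ snd G W) e
    simp only [Category.assoc, whiskerLeft_fst, whiskerLeft_snd] at e1 e2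
    rw [← Category.assoc, ← Category.assoc, hrelZ]
    obtain ⟨r', h1, h2⟩ := hqW.2.2.2.exists_lift (a ≫ snd G N) (b ≫ snd G N) (by simpa using e2)
    refine ⟨r' ≫ snd N Z, ?_⟩
    have h3 : r' ≫ (N ◁ f) ≫ μ[N] = (r' ≫ fst N Z) * ((r' ≫ snd N Z) ≫ f) := by
      rw [Hom.mul_def, ← Category.assoc r']
      congr 1
      ext <;> simp
    rw [h3, h1] at h2
    rw [MonObj.comp_mul, MonObj.comp_mul, ← e1, ← Category.assoc a, ← Category.assoc b, ← h2, MonObj.mul_comp,
      Category.assoc _ f, hf]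
    group
  -- the map between the quotients is quasi-finite
  haveI : Smooth (qZ.left ≫ r.left) := by rw [← Over.comp_left, hr]; infer_instance
  haveI : Smooth r.left := Groth.L23.FppfSmooth.smooth_of_fppf_comp qZ.left r.left inferInstance
  haveI : IsSeparated (r.left ≫ QN.hom) := by rw [Over.w r]; infer_instance
  haveI : IsSeparated r.left := IsSeparated.of_comp r.left QN.hom
  haveI : QuasiCompact (r.left ≫ QN.hom) := by rw [Over.w r]; infer_instance
  haveI : QuasiCompact r.left := QuasiCompact.of_comp r.left QN.hom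
  haveI : Etale (fst G W).left := MorphismProperty.pullback_fst _ _ hWet
  haveI : QuasiCompact (fst G W).left := MorphismProperty.pullback_fst _ _ hWc
  haveI : LocallyQuasiFinite r.left := LocallyQuasiFinite.of_finite_preimage_singleton _ fun y => by
    by_cases hy : ∃ x, r.left x = y
    swap
    · rw [Set.eq_empty_of_forall_notMem (fun x hx => hy ⟨x, hx⟩ : ∀ x, x ∉ r.left ⁻¹' {y})]
      exact Set.finite_empty
    obtain ⟨x₀, hx₀⟩ := hy
    obtain ⟨g₀, rfl⟩ := qZ.left.surjective x₀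
    refine ((Scheme.Hom.finite_preimage_singleton (fst G W).left g₀).image ψ.left).subset fun x hx => ?_
    obtain ⟨g, rfl⟩ := qZ.left.surjective x
    have hqq : qN.left g₀ = qN.left g := by
      rw [← hr, Over.comp_left, Scheme.Hom.comp_apply, Scheme.Hom.comp_apply, hx₀]
      exact hx.symm
    obtain ⟨z, hz1, hz2⟩ := Scheme.Pullback.exists_preimage_pullback (f := qN.left) (g := qN.left) g₀ g hqq
    have sq : IsPullback (fst G N).left ((G ◁ k) ≫ μ[G]).left qN.left qN.left := hQN.2.2.2.map (Over.forget S)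
    let z' := sq.isoPullback.inv z
    have hz1' : (fst G N).left z' = g₀ := by
      rw [← hz1, ← Scheme.Hom.comp_apply, sq.isoPullback_inv_fst]
    have hz2' : ((G ◁ k) ≫ μ[G]).left z' = g := by
      rw [← hz2, ← Scheme.Hom.comp_apply, sq.isoPullback_inv_snd]
    refine ⟨(G ◁ qW).left z', ?_, ?_⟩
    · show (fst G W).left ((G ◁ qW).left z') = g₀
      rw [← Scheme.Hom.comp_apply, ← Over.comp_left, whiskerLeft_fst, hz1']
    · rw [← Scheme.Hom.comp_apply, ← Over.comp_left, hψ, Over.comp_left, Scheme.Hom.comp_apply]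
      congr 1
  rw [← Over.w r]
  exact Groth.L20.isIndQuasiAffineHom_comp (Groth.Agent.S1402.result r.left) hQNi

end Groth.L24.MSub
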