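import Groth.Agent.L24.MSub.LevelEtale
import Groth.Agent.L02.Hilb.OpenCharts
import Groth.Agent.L25.Descent.EffEpi

/-!
# The scheme of subgroups of multiplicative type, through its finite levels
-/

set_option autoImplicit false
universe u

open CategoryTheory CategoryTheory.Limits MonoidalCategory CartesianMonoidalCategory AlgebraicGeometry
open scoped MonObj

set_option backward.isDefEq.respectTransparency.types false
set_option linter.style.haveILetI false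

noncomputable section

namespace Groth.L24.MSub

open Groth.L25 Groth.L25.SplitSub Groth.L24.FinSub

section Idx

/-- presentations of finitely generated abelian groups -/
abbrev Idx : Type u := ULift.{u} (Σ n : ℕ, AddSubgroup (Fin n → ℤ))

/-- the presented group -/
abbrev grpI (i : Idx.{u}) : Type := (Fin i.down.1 → ℤ) ⧸ i.down.2

theorem fg_grpI (i : Idx.{u}) : AddGroup.FG (grpI i) := by
  haveI : AddGroup.FG (Fin i.down.1 → ℤ) := Module.Finite.iff_addGroup_fg.1 inferInstance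
  exact QuotientAddGroup.fg _

theorem exists_idx (M : Type) [AddCommGroup M] (hM : AddGroup.FG M) : ∃ i : Idx.{u}, Nonempty (grpI i ≃+ M) := by
  haveI : Module.Finite ℤ M := Module.Finite.iff_addGroup_fg.2 hM
  obtain ⟨n, f, hf⟩ := Module.Finite.exists_fin' ℤ M
  exact ⟨ULift.up ⟨n, f.toAddMonoidHom.ker⟩, ⟨QuotientAddGroup.quotientKerEquivOfSurjective f.toAddMonoidHom hf⟩⟩

end Idx

variable {S : Scheme.{u}} (G : Over S) [GrpObj G] [IsAffineHom G.hom] [Smooth G.hom]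

/-- monomorphisms of split groups of every type, with their finite levels -/
structure MData where
  /-- finite subgroups -/
  D : FinSub.Data G
  /-- monomorphisms -/
  X : Idx.{u} → Over S
  /-- the universal family -/
  υ : ∀ i, Red.DS S (grpI i) ⊗ X i ⟶ G
  piece : ∀ i, MPiece (grpI i) (X i) (υ i)
  /-- the levels -/
  lev : ∀ i : Idx.{u}, ℕ → (X i ⟶ D.tot)
  mem_lev : ∀ (i : Idx.{u}) (n : ℕ) (T : Over S) (a : T ⟶ X i) (g : T ⟶ G),
    Mem D.totj (a ≫ lev i n) g ↔ LImg (n + 1) (υ i) a g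

theorem nonempty_mdata : Nonempty (MData G) := by
  obtain ⟨D⟩ := FinSub.nonempty_data G
  choose X υ hX using fun i : Idx.{u} => exists_mpiece (S := S) (G := G) (grpI i) (fg_grpI i)
  choose v hv using fun i (n : ℕ) => exists_level_map D (hX i) n.succ_pos
  exact ⟨⟨D, X, υ, hX, v, hv⟩⟩

omit [GrpObj G] [IsAffineHom G.hom] [Smooth G.hom] in
theorem exists_fibre {S : Scheme.{u}} {A B T : Over S} (c : A ⟶ T) (d : B ⟶ T) (a : A.left) (b : B.left)
    (h : c.left a = d.left b) :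
    ∃ (P : Over S) (p : P ⟶ A) (q : P ⟶ B) (z : P.left), p ≫ c = q ≫ d ∧ p.left z = a ∧ q.left z = b ∧
      (Etale d.left → Etale p.left) := by
  obtain ⟨z, hz₁, hz₂⟩ := Scheme.Pullback.exists_preimage_pullback (f := c.left) (g := d.left) a b h
  refine ⟨Over.mk (pullback.fst c.left d.left ≫ A.hom), Over.homMk (pullback.fst c.left d.left) rfl,
    Over.homMk (pullback.snd c.left d.left) ?_, z, Over.OverMorphism.ext pullback.condition, hz₁, hz₂,
    fun hd => MorphismProperty.pullback_fst _ _ hd⟩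
  show pullback.snd c.left d.left ≫ B.hom = pullback.fst c.left d.left ≫ A.hom
  rw [← Over.w d, ← pullback.condition_assoc, Over.w c]

omit [GrpObj G] [IsAffineHom G.hom] [Smooth G.hom] in
theorem effectiveEpi_of_etale {X Y : Scheme.{u}} (f : X ⟶ Y) [Etale f] [Surjective f] : EffectiveEpi f :=
  Descent.effectiveEpi_of_cover f (Groth.L08.Borel.cover_of_lfp f)

namespace MData

variable {G} (Δ : MData G)

theorem lev_eq_iff {i k : Idx.{u}} {Y : Over S} (a : Y ⟶ Δ.X i) (b : Y ⟶ Δ.X k) (n : ℕ) :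
    a ≫ Δ.lev i n = b ≫ Δ.lev k n ↔
      ∀ (T : Over S) (s : T ⟶ Y) (g : T ⟶ G), LImg (n + 1) (Δ.υ i) (s ≫ a) g ↔ LImg (n + 1) (Δ.υ k) (s ≫ b) g := by
  constructor
  · intro h T s g
    rw [← Δ.mem_lev, ← Δ.mem_lev, Category.assoc, Category.assoc, h]
  · intro h
    refine Δ.D.pt_ext _ _ fun T s g => ?_
    rw [← Category.assoc, ← Category.assoc, Δ.mem_lev, Δ.mem_lev]
    exact h T s g

/-- equal images have equal levels -/
theorem lev_eq_of_img {i k : Idx.{u}} {Y : Over S} (a : Y ⟶ Δ.X i) (b : Y ⟶ Δ.X k)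
    (h : ∀ (T : Over S) (s : T ⟶ Y) (g : T ⟶ G), Img (Δ.υ i) (s ≫ a) g ↔ Img (Δ.υ k) (s ≫ b) g) (n : ℕ) :
    a ≫ Δ.lev i n = b ≫ Δ.lev k n :=
  (Δ.lev_eq_iff a b n).2 fun T s g => by rw [limg_iff (Δ.piece i), limg_iff (Δ.piece k), h]

/-- a point lying locally in the image lies in it -/
theorem img_of_openCover {i : Idx.{u}} {T : Over S} {J : Type u} (U : J → T.left.Opens) (hU : ∀ t, ∃ j, t ∈ U j)
    {a : T ⟶ Δ.X i} {g : T ⟶ G}
    (h : ∀ j, Img (Δ.υ i) ((Over.homMk (U j).ι rfl : Over.mk ((U j).ι ≫ T.hom) ⟶ T) ≫ a)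
      ((Over.homMk (U j).ι rfl : Over.mk ((U j).ι ≫ T.hom) ⟶ T) ≫ g)) : Img (Δ.υ i) a g := by
  haveI := isClosedImmersion_famHom (fg_grpI i) (Δ.piece i).hom (Δ.piece i).mono
  exact (mem_famHom_iff _ a g).1 (Mem.of_openCover (famHom (Δ.υ i)) U hU fun j => (mem_famHom_iff _ _ _).2 (h j))

/-- equal levels give equal images -/
theorem img_of_lev {i k : Idx.{u}} {Y : Over S} (a : Y ⟶ Δ.X i) (b : Y ⟶ Δ.X k)
    (h : ∀ n, a ≫ Δ.lev i n = b ≫ Δ.lev k n) :
    ∀ (T : Over S) (s : T ⟶ Y) (g : T ⟶ G), Img (Δ.υ i) (s ≫ a) g ↔ Img (Δ.υ k) (s ≫ b) g := by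
  have key : ∀ y : Y.left, ∃ O : Y.left.Opens, y ∈ O ∧ ∀ (T : Over S) (s : T ⟶ Y), (∀ w, s.left w ∈ O) →
      ∀ g : T ⟶ G, Img (Δ.υ i) (s ≫ a) g ↔ Img (Δ.υ k) (s ≫ b) g := by
    intro y
    obtain ⟨U, hU, hyU, -⟩ := exists_isAffineOpen_mem_and_subset (X := S) (x := Y.hom y) (U := ⊤) trivial
    have haU : a.left y ∈ (Δ.X i).hom ⁻¹ᵁ U := by
      show (Δ.X i).hom (a.left y) ∈ U
      rw [← Scheme.Hom.comp_apply, Over.w a]; exact hyU
    have hbU : b.left y ∈ (Δ.X k).hom ⁻¹ᵁ U := by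
      show (Δ.X k).hom (b.left y) ∈ U
      rw [← Scheme.Hom.comp_apply, Over.w b]; exact hyU
    obtain ⟨W, hW, hyW, hWU⟩ := exists_isAffineOpen_mem_and_subset haU
    obtain ⟨W', hW', hyW', hWU'⟩ := exists_isAffineOpen_mem_and_subset hbU
    obtain ⟨N, hN, hpair⟩ := exists_level_pair (Δ.piece i) (Δ.piece k) hU hW hWU hW' hWU'
    let O := a.left ⁻¹ᵁ W ⊓ b.left ⁻¹ᵁ W'
    refine ⟨O, ⟨hyW, hyW'⟩, fun T s hs g => ?_⟩
    have hN1 : N - 1 + 1 = N := Nat.sub_add_cancel hN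
    have := hpair N dvd_rfl T (s ≫ a) (s ≫ b) (fun w => (hs w).1) (fun w => (hs w).2) (fun T' s' g' => by
      have h1 := ((Δ.lev_eq_iff a b (N - 1)).1 (h _) T' (s' ≫ s) g')
      rw [hN1] at h1
      simpa only [Category.assoc] using h1) T (𝟙 T) g
    simpa only [Category.id_comp] using this
  choose O hyO hO using key
  intro T s g
  constructor
  · intro hg
    refine Δ.img_of_openCover (fun y => s.left ⁻¹ᵁ O y) (fun t => ⟨s.left t, hyO _⟩) fun y => ?_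
    rw [← Category.assoc, ← hO y (Over.mk ((s.left ⁻¹ᵁ O y).ι ≫ T.hom))
      ((Over.homMk (s.left ⁻¹ᵁ O y).ι rfl : Over.mk ((s.left ⁻¹ᵁ O y).ι ≫ T.hom) ⟶ T) ≫ s) (fun w => w.2), Category.assoc]
    exact img_comp _ hg
  · intro hg
    refine Δ.img_of_openCover (fun y => s.left ⁻¹ᵁ O y) (fun t => ⟨s.left t, hyO _⟩) fun y => ?_
    rw [← Category.assoc, hO y (Over.mk ((s.left ⁻¹ᵁ O y).ι ≫ T.hom))
      ((Over.homMk (s.left ⁻¹ᵁ O y).ι rfl : Over.mk ((s.left ⁻¹ᵁ O y).ι ≫ T.hom) ⟶ T) ≫ s) (fun w => w.2), Category.assoc]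
    exact img_comp _ hg

/-- compatible levels which locally come from a monomorphism of a split group -/
def Lifts {T : Over S} (v : ℕ → (T ⟶ Δ.D.tot)) : Prop :=
  ∀ t : T.left, ∃ (T' : Over S) (c : T' ⟶ T) (i : Idx.{u}) (a : T' ⟶ Δ.X i),
    Etale c.left ∧ t ∈ Set.range c.left ∧ ∀ n, c ≫ v n = a ≫ Δ.lev i n

theorem Lifts.comp {T T' : Over S} {v : ℕ → (T ⟶ Δ.D.tot)} (h : Δ.Lifts v) (f : T' ⟶ T) :
    Δ.Lifts fun n => f ≫ v n := by
  intro t
  obtain ⟨T₁, c, i, a, hc, ⟨t₁, ht₁⟩, ha⟩ := h (f.left t)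
  obtain ⟨P, p, q, z, hpq, hp, -, het⟩ := exists_fibre f c t t₁ ht₁.symm
  refine ⟨P, p, i, q ≫ a, het hc, ⟨z, hp⟩, fun n => ?_⟩
  rw [← Category.assoc, hpq, Category.assoc, ha, Category.assoc]

/-- the functor -/
def fam : HomScheme.Fam.{u, u} S where
  obj T := {v : ℕ → (T ⟶ Δ.D.tot) // Δ.Lifts v}
  res f x := ⟨fun n => f ≫ x.1 n, x.2.comp Δ f⟩
  res_id x := Subtype.ext (funext fun n => Category.id_comp _)
  res_comp f g x := Subtype.ext (funext fun n => Category.assoc _ _ _)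

theorem fam_zarSep : Δ.fam.ZarSep := fun _ _ _ _ h _ _ e =>
  Subtype.ext (funext fun n => h.hom_ext fun j => congrFun (congrArg Subtype.val (e j)) n)

theorem fam_zarGlue : Δ.fam.ZarGlue := by
  intro T J U j h x hc
  choose b hb using fun n => h.exists_glue (fun i => (x i).1 n) fun i k Z p q e =>
    congrFun (congrArg Subtype.val (hc i k Z p q e)) n
  refine ⟨⟨b, fun t => ?_⟩, fun i => Subtype.ext (funext fun n => hb n i)⟩
  obtain ⟨i, t₀, ht₀⟩ := h.covers t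
  obtain ⟨T', c, k, a, hce, ⟨t', ht'⟩, ha⟩ := (x i).2 t₀
  haveI := hce
  haveI := h.isOpenImmersion i
  refine ⟨T', c ≫ j i, k, a, inferInstanceAs (Etale (c.left ≫ (j i).left)), ⟨t', ?_⟩, fun n => ?_⟩
  · rw [Over.comp_left, Scheme.Hom.comp_apply, ht', ht₀]
  · rw [Category.assoc, hb n i, ha]

/-- an affine open of a piece on which one level is etale and separates images -/
structure Chart where
  /-- the type -/
  i : Idx.{u}
  /-- the open -/
  W : (Δ.X i).left.Opens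
  /-- the level -/
  n : ℕ
  affine : IsAffineOpen W
  etale : Etale (W.ι ≫ (Δ.lev i n).left)
  pair : ∀ (Y : Over S) (a b : Y ⟶ Δ.X i), (∀ y, a.left y ∈ W) → (∀ y, b.left y ∈ W) →
    a ≫ Δ.lev i n = b ≫ Δ.lev i n →
    ∀ (T : Over S) (s : T ⟶ Y) (g : T ⟶ G), Img (Δ.υ i) (s ≫ a) g ↔ Img (Δ.υ i) (s ≫ b) g

theorem exists_chart (i : Idx.{u}) (x : (Δ.X i).left) : ∃ C : Δ.Chart, ∃ h : i = C.i, (h ▸ x : (Δ.X C.i).left) ∈ C.W := by
  obtain ⟨U, hU, hxU, -⟩ := exists_isAffineOpen_mem_and_subset (X := S) (x := (Δ.X i).hom x) (U := ⊤) trivial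
  obtain ⟨W, hW, hxW, hWU⟩ := exists_isAffineOpen_mem_and_subset (X := (Δ.X i).left) (x := x)
    (U := (Δ.X i).hom ⁻¹ᵁ U) hxU
  obtain ⟨N, hN, hpair⟩ := exists_level_pair (Δ.piece i) (Δ.piece i) hU hW hWU hW hWU
  have hN1 : N - 1 + 1 = N := Nat.sub_add_cancel hN
  refine ⟨⟨i, W, N - 1, hW, ?_, fun Y a b ha hb e => hpair N dvd_rfl Y a b ha hb fun T s g => ?_⟩, rfl, hxW⟩
  · refine etale_level Δ.D (Δ.piece i) hN (fun T a g => ?_) W fun Y a b ha hb h => hpair N dvd_rfl Y a b ha hb h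
    have := Δ.mem_lev i (N - 1) T a g
    rwa [hN1] at this
  · have h1 := (Δ.lev_eq_iff a b (N - 1)).1 e T s g
    rwa [hN1] at h1

namespace Chart

variable {Δ} (C : Δ.Chart)

/-- the open as a scheme over the base -/
abbrev src : Over S := Over.mk (C.W.ι ≫ (Δ.X C.i).hom)

/-- its inclusion -/
abbrev inc : C.src ⟶ Δ.X C.i := Over.homMk C.W.ι rfl

theorem exists_open : ∃ V : Δ.D.tot.left.Opens,
    (V : Set Δ.D.tot.left) = Set.range (C.inc ≫ Δ.lev C.i C.n).left := by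
  haveI := C.etale
  exact ⟨⟨_, (C.W.ι ≫ (Δ.lev C.i C.n).left).isOpenMap.isOpen_range⟩, rfl⟩

/-- the chart -/
def img : Δ.D.tot.left.Opens := C.exists_open.choose

theorem coe_img : (C.img : Set Δ.D.tot.left) = Set.range (C.inc ≫ Δ.lev C.i C.n).left :=
  C.exists_open.choose_spec

/-- the chart over the base -/
abbrev tgt : Over S := Over.mk (C.img.ι ≫ Δ.D.tot.hom)

/-- the level map onto the chart -/
def proj : C.src ⟶ C.tgt :=
  Over.homMk (IsOpenImmersion.lift C.img.ι (C.inc ≫ Δ.lev C.i C.n).left (by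
    rw [Scheme.Opens.range_ι, C.coe_img])) (by
    show _ ≫ C.img.ι ≫ Δ.D.tot.hom = _
    rw [IsOpenImmersion.lift_fac_assoc]
    exact Over.w (C.inc ≫ Δ.lev C.i C.n))

theorem proj_ι : C.proj ≫ (Over.homMk C.img.ι rfl : C.tgt ⟶ Δ.D.tot) = C.inc ≫ Δ.lev C.i C.n :=
  Over.OverMorphism.ext (IsOpenImmersion.lift_fac _ _ _)

instance : Etale C.proj.left := by
  haveI := C.etale
  haveI : Etale (C.proj.left ≫ C.img.ι) := by
    rw [show C.proj.left ≫ C.img.ι = C.W.ι ≫ (Δ.lev C.i C.n).left from IsOpenImmersion.lift_fac _ _ _]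
    infer_instance
  exact Etale.of_comp C.proj.left C.img.ι

instance : Surjective C.proj.left := ⟨fun v => by
  have hv : C.img.ι v ∈ Set.range (C.inc ≫ Δ.lev C.i C.n).left := by rw [← C.coe_img]; exact v.2
  obtain ⟨w, hw⟩ := hv
  refine ⟨w, C.img.ι.isOpenEmbedding.injective ?_⟩
  rw [← Scheme.Hom.comp_apply]
  exact (congr($(IsOpenImmersion.lift_fac C.img.ι (C.inc ≫ Δ.lev C.i C.n).left _) w)).trans hw⟩

theorem lev_eq {Y : Over S} (a b : Y ⟶ Δ.X C.i) (ha : ∀ y, a.left y ∈ C.W) (hb : ∀ y, b.left y ∈ C.W)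
    (e : a ≫ Δ.lev C.i C.n = b ≫ Δ.lev C.i C.n) (m : ℕ) : a ≫ Δ.lev C.i m = b ≫ Δ.lev C.i m :=
  Δ.lev_eq_of_img a b (C.pair Y a b ha hb e) m

theorem exists_section : ∃ ξ : Δ.fam.obj C.tgt, ∀ m, C.proj ≫ ξ.1 m = C.inc ≫ Δ.lev C.i m := by
  haveI := effectiveEpi_of_etale C.proj.left
  let w : ∀ _ : ℕ, (C.tgt.left ⟶ Δ.D.tot.left) := fun m =>
    EffectiveEpi.desc C.proj.left (C.inc ≫ Δ.lev C.i m).left fun {Z} g₁ g₂ e => by
      let Y : Over S := Over.mk (g₁ ≫ C.src.hom)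
      let a : Y ⟶ C.src := Over.homMk g₁ rfl
      let b : Y ⟶ C.src := Over.homMk g₂ (by
        show g₂ ≫ C.src.hom = g₁ ≫ C.src.hom
        rw [← Over.w C.proj, reassoc_of% e])
      have hab : a ≫ C.proj = b ≫ C.proj := Over.OverMorphism.ext e
      have := C.lev_eq (a ≫ C.inc) (b ≫ C.inc) (fun y => (g₁ y).2) (fun y => (g₂ y).2) (by
        simp only [Category.assoc, ← C.proj_ι, reassoc_of% hab]) m
      simp only [Category.assoc] at this
      exact congrArg (fun k => k.left) this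
  have hw : ∀ m, C.proj.left ≫ w m = (C.inc ≫ Δ.lev C.i m).left := fun m => EffectiveEpi.fac _ _ _
  let wv : ℕ → (C.tgt ⟶ Δ.D.tot) := fun m => Over.homMk (w m) (by
    haveI : Epi C.proj.left := inferInstance
    rw [← cancel_epi C.proj.left, reassoc_of% (hw m), Over.w C.proj]
    exact Over.w (C.inc ≫ Δ.lev C.i m))
  refine ⟨⟨wv, fun v => ?_⟩, fun m => Over.OverMorphism.ext (hw m)⟩
  obtain ⟨s, hs⟩ := C.proj.left.surjective v
  exact ⟨C.src, C.proj, C.i, C.inc, inferInstance, ⟨s, hs⟩, fun m => Over.OverMorphism.ext (hw m)⟩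

/-- the universal element on the chart -/
def ξ : Δ.fam.obj C.tgt := C.exists_section.choose

theorem proj_ξ (m : ℕ) : C.proj ≫ C.ξ.1 m = C.inc ≫ Δ.lev C.i m := C.exists_section.choose_spec m

theorem ξ_n : C.ξ.1 C.n = (Over.homMk C.img.ι rfl : C.tgt ⟶ Δ.D.tot) := by
  refine Over.OverMorphism.ext ((cancel_epi C.proj.left).1 ?_)
  exact congrArg (fun k => k.left) ((C.proj_ξ C.n).trans C.proj_ι.symm)

/-- the points at which a section comes from the chart -/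
def locus {T : Over S} (x : Δ.fam.obj T) : T.left.Opens :=
  ⟨{t | ∃ (T' : Over S) (c : T' ⟶ T) (a : T' ⟶ Δ.X C.i), Etale c.left ∧ t ∈ Set.range c.left ∧
      (∀ y, a.left y ∈ C.W) ∧ ∀ m, c ≫ x.1 m = a ≫ Δ.lev C.i m}, by
    rw [isOpen_iff_forall_mem_open]
    rintro t ⟨T', c, a, hc, ht, ha, he⟩
    haveI := hc
    exact ⟨Set.range c.left, fun t' ht' => ⟨T', c, a, hc, ht', ha, he⟩, c.left.isOpenMap.isOpen_range, ht⟩⟩

theorem locus_spec {T : Over S} (x : Δ.fam.obj T) (T' : Over S) (g : T' ⟶ T) :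
    (∃ h : T' ⟶ C.tgt, Δ.fam.res h C.ξ = Δ.fam.res g x) ↔
      Set.range g.left ⊆ (C.locus x : Set T.left) := by
  constructor
  · rintro ⟨h, hh⟩ _ ⟨t', rfl⟩
    obtain ⟨T₁, c, k, a₁, hc, ⟨t₁, ht₁⟩, ha₁⟩ := x.2 (g.left t')
    obtain ⟨P₁, p₁, q₁, z₁, hpq₁, hp₁, hq₁, -⟩ := exists_fibre g c t' t₁ ht₁.symm
    obtain ⟨s, hs⟩ := C.proj.left.surjective ((p₁ ≫ h).left z₁)
    obtain ⟨P, p, q, z, hpq, hp, -, -⟩ := exists_fibre (p₁ ≫ h) C.proj z₁ s hs.symm
    have hlev : ∀ m, (p ≫ q₁ ≫ a₁) ≫ Δ.lev k m = (q ≫ C.inc) ≫ Δ.lev C.i m := fun m => by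
      have hm : h ≫ C.ξ.1 m = g ≫ x.1 m := congrFun (congrArg Subtype.val hh) m
      simp only [Category.assoc, ← ha₁, ← C.proj_ξ]
      rw [← reassoc_of% hpq₁, ← reassoc_of% hpq, hm]
    obtain ⟨U, hzU, e, he⟩ := exists_local_iso (Δ.piece k) (Δ.piece C.i) (p ≫ q₁ ≫ a₁) (q ≫ C.inc)
      (Δ.img_of_lev _ _ hlev) z
    obtain ⟨a', ha'⟩ := (Δ.piece C.i).exists_twisted (Δ.piece k) e a₁
    let YU : Over S := Over.mk (U.ι ≫ P.hom)
    let r : YU ⟶ P := Over.homMk U.ι rfl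
    have h1 : (r ≫ p ≫ q₁) ≫ a' = r ≫ q ≫ C.inc := (Δ.piece C.i).eq_of_pts _ _ fun Q t w => by
      have h2 := he Q (t ≫ r) (fun y => (t.left y).2) (w ≫ Red.DSmap S (e.symm : grpI k →+ grpI C.i))
      rw [Category.assoc w, TorusTorsion.DSmap_comp, show (e.symm : grpI k →+ grpI C.i).comp (e : grpI C.i →+ grpI k) =
        AddMonoidHom.id _ from AddMonoidHom.ext fun y => e.symm_apply_apply y, TorusTorsion.DSmap_id,
        Category.comp_id] at h2
      simp only [Category.assoc] at h2 ⊢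
      rw [show t ≫ r ≫ p ≫ q₁ ≫ a' = (t ≫ r ≫ p ≫ q₁) ≫ a' by simp, ha', h2]
      simp only [Category.assoc]
    have h1' : a'.left t₁ ∈ C.W := by
      have h3 := congrArg (fun m : YU ⟶ Δ.X C.i => m.left ⟨z, hzU⟩) h1
      have e3 : a'.left (q₁.left (p.left z)) = C.W.ι (q.left z) := h3
      rw [hp, hq₁] at e3
      rw [e3]
      exact (q.left z).2
    let O : T₁.left.Opens := a'.left ⁻¹ᵁ C.W
    let TO : Over S := Over.mk (O.ι ≫ T₁.hom)
    let ιO : TO ⟶ T₁ := Over.homMk O.ι rfl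
    haveI := hc
    refine ⟨TO, ιO ≫ c, ιO ≫ a', inferInstanceAs (Etale (O.ι ≫ c.left)), ⟨⟨t₁, h1'⟩, ?_⟩, fun y => y.2, fun m => ?_⟩
    · rw [Over.comp_left, Scheme.Hom.comp_apply]; exact ht₁
    · rw [Category.assoc, Category.assoc, ha₁]
      refine congrArg (ιO ≫ ·) (Δ.lev_eq_of_img a₁ a' (fun Q t w => ?_) m)
      constructor
      · rintro ⟨v, rfl⟩
        refine ⟨v ≫ Red.DSmap S (e : grpI C.i →+ grpI k), ?_⟩
        rw [ha', Category.assoc, TorusTorsion.DSmap_comp, show (e : grpI C.i →+ grpI k).comp (e.symm : grpI k →+ grpI C.i) =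
          AddMonoidHom.id _ from AddMonoidHom.ext fun y => e.apply_symm_apply y, TorusTorsion.DSmap_id, Category.comp_id]
      · rintro ⟨v, rfl⟩
        exact ⟨_, (ha' Q t v).symm⟩
  · intro hr
    have hrange : Set.range (g ≫ x.1 C.n).left ⊆ Set.range C.img.ι := by
      rintro _ ⟨t', rfl⟩
      obtain ⟨T₂, c, a, -, ⟨t₂, ht₂⟩, ha, he⟩ := hr ⟨t', rfl⟩
      rw [Scheme.Opens.range_ι, C.coe_img]
      refine ⟨⟨a.left t₂, ha t₂⟩, ?_⟩
      show (Δ.lev C.i C.n).left (a.left t₂) = (x.1 C.n).left (g.left t')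
      rw [← ht₂]
      exact (congrArg (fun m : T₂ ⟶ Δ.D.tot => m.left t₂) (he C.n)).symm
    let h : T' ⟶ C.tgt := Over.homMk (IsOpenImmersion.lift C.img.ι (g ≫ x.1 C.n).left hrange) (by
      show _ ≫ C.img.ι ≫ Δ.D.tot.hom = T'.hom
      rw [IsOpenImmersion.lift_fac_assoc]
      exact Over.w (g ≫ x.1 C.n))
    have hn : h ≫ C.ξ.1 C.n = g ≫ x.1 C.n := by
      rw [C.ξ_n]
      exact Over.OverMorphism.ext (IsOpenImmersion.lift_fac _ _ _)
    have hloc : ∀ t' : T'.left, ∃ (P : Over S) (r : P ⟶ T') (z : P.left), Etale r.left ∧ r.left z = t' ∧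
        ∀ m, r ≫ h ≫ C.ξ.1 m = r ≫ g ≫ x.1 m := by
      intro t'
      obtain ⟨T₂, c, a, hc, ⟨t₂, ht₂⟩, ha, he⟩ := hr ⟨t', rfl⟩
      obtain ⟨P₁, p₁, q₁, z₁, hpq₁, hp₁, hq₁, het₁⟩ := exists_fibre g c t' t₂ ht₂.symm
      obtain ⟨s, hs⟩ := C.proj.left.surjective ((p₁ ≫ h).left z₁)
      obtain ⟨P, p, q, z, hpq, hp, -, het⟩ := exists_fibre (p₁ ≫ h) C.proj z₁ s hs.symm
      haveI := het₁ hc
      haveI := het inferInstance
      refine ⟨P, p ≫ p₁, z, inferInstanceAs (Etale (p.left ≫ p₁.left)),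
        by rw [Over.comp_left, Scheme.Hom.comp_apply, hp, hp₁], fun m => ?_⟩
      have e : (p ≫ q₁ ≫ a) ≫ Δ.lev C.i C.n = (q ≫ C.inc) ≫ Δ.lev C.i C.n := by
        simp only [Category.assoc, ← he, ← C.proj_ξ]
        rw [← reassoc_of% hpq₁, ← reassoc_of% hpq, hn]
      have hm := C.lev_eq _ _ (fun y => ha ((p ≫ q₁).left y)) (fun y => (q.left y).2) e m
      simp only [Category.assoc, ← he, ← C.proj_ξ] at hm
      rw [← reassoc_of% hpq₁, ← reassoc_of% hpq] at hm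
      simp only [Category.assoc]
      exact hm.symm
    choose P r z hr' hrz hm using hloc
    haveI : ∀ t', Flat (r t').left := fun t' => by haveI := hr' t'; infer_instance
    exact ⟨h, Subtype.ext (funext fun m => eq_of_cover r (fun t' => ⟨t', z t', hrz t'⟩) fun t' => hm t' m)⟩

end Chart

theorem exists_rep : ∃ (A : Over S) (ηU : Δ.fam.obj A), Δ.fam.IsRep A ηU := by
  refine Groth.L02.Hilb.exists_rep_openCharts Δ.fam Δ.fam_zarSep Δ.fam_zarGlue (fun C : Δ.Chart => C.tgt)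
    (fun C => C.ξ) (fun C T a b e => ?_) (fun C T x => ⟨C.locus x, C.locus_spec x⟩) fun T x t => ?_
  · have h1 : a ≫ C.ξ.1 C.n = b ≫ C.ξ.1 C.n := congrFun (congrArg Subtype.val e) C.n
    rw [C.ξ_n] at h1
    refine Over.OverMorphism.ext ((cancel_mono C.img.ι).1 ?_)
    exact congrArg (fun k => k.left) h1
  · obtain ⟨T', c, i, a, hc, ⟨t', ht'⟩, ha⟩ := x.2 t
    obtain ⟨C, hi, hW⟩ := Δ.exists_chart i (a.left t')
    subst hi
    let O : T'.left.Opens := a.left ⁻¹ᵁ C.W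
    let TO : Over S := Over.mk (O.ι ≫ T'.hom)
    let ιO : TO ⟶ T' := Over.homMk O.ι rfl
    haveI := hc
    have htl : t ∈ C.locus x := ⟨TO, ιO ≫ c, ιO ≫ a, inferInstanceAs (Etale (O.ι ≫ c.left)),
      ⟨⟨t', hW⟩, by rw [Over.comp_left, Scheme.Hom.comp_apply]; exact ht'⟩, fun y => y.2,
      fun m => by rw [Category.assoc, ha, Category.assoc]⟩
    let W₀ := C.locus x
    exact ⟨C, Over.mk (W₀.ι ≫ T.hom), Over.homMk W₀.ι rfl, inferInstanceAs (IsOpenImmersion W₀.ι),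
      ⟨⟨t, htl⟩, rfl⟩, (C.locus_spec x _ _).2 (Scheme.Opens.range_ι W₀).subset⟩

end MData

end Groth.L24.MSub
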