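import Groth.Agent.S0413
import Mathlib.AlgebraicGeometry.Morphisms.Separated

/-!
# Etale slices through rational points of smooth separated schemes
-/

set_option autoImplicit false
universe u

open CategoryTheory CategoryTheory.Limits AlgebraicGeometry

set_option backward.isDefEq.respectTransparency.types false
set_option linter.style.haveILetI false

noncomputable section

namespace Groth.L24.MSub

/-- through a rational point of a smooth separated scheme passes an etale slice -/
theorem exists_etale_slice {X S : Scheme.{u}} (f : X ⟶ S) [Smooth f] [IsSeparated f] (s : S)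
    (σ₀ : Spec (S.residueField s) ⟶ X) (h : σ₀ ≫ f = S.fromSpecResidueField s) :
    ∃ (Z : Scheme.{u}) (i : Z ⟶ X) (σ : Spec (S.residueField s) ⟶ Z), Etale (i ≫ f) ∧ σ ≫ i = σ₀ := by
  obtain ⟨⟨x, d⟩, hd⟩ := (Scheme.SpecToEquivOfField (S.residueField s) X).symm.surjective σ₀
  change Spec.map d ≫ X.fromSpecResidueField x = σ₀ at hd
  have hx : ∀ p, σ₀ p = x := fun p => by
    rw [← hd, Scheme.Hom.comp_apply]
    exact Scheme.fromSpecResidueField_apply _ _
  have hs : s = f x := by
    rw [← hx (IsLocalRing.closedPoint (S.residueField s)), ← Scheme.Hom.comp_apply, h,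
      Scheme.fromSpecResidueField_apply]
  subst hs
  have hd' : f.residueFieldMap x ≫ d = 𝟙 _ := by
    apply Spec.map_injective
    rw [← cancel_mono (S.fromSpecResidueField (f x)), Spec.map_comp, Category.assoc,
      Scheme.Hom.SpecMap_residueFieldMap_fromSpecResidueField, ← Category.assoc, hd, h, Spec.map_id]
    exact (Category.id_comp _).symm
  have hsurj : Function.Surjective (f.residueFieldMap x).hom := fun y => ⟨d y, d.hom.injective (by
    exact congr($hd' (d y)))⟩
  have hsep : @Algebra.IsSeparable (S.residueField (f x)) (X.residueField x) _ _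
      (f.residueFieldMap x).hom.toAlgebra := by
    letI := (f.residueFieldMap x).hom.toAlgebra
    refine ⟨fun y => ?_⟩
    obtain ⟨a, ha⟩ := hsurj y
    rw [← ha]
    exact isSeparable_algebraMap (F := S.residueField (f x)) a
  let τ : Spec (S.residueField (f x)) ⟶ f.fiber (f x) :=
    pullback.lift σ₀ (𝟙 _) (by rw [h, Category.id_comp])
  have hτ : τ ≫ f.fiberToSpecResidueField (f x) = 𝟙 _ := pullback.lift_snd _ _ _
  have hcl : IsClosed ({f.asFiber x} : Set ↑(f.fiber (f x))) := by
    haveI : IsSeparated (f.fiberToSpecResidueField (f x)) := MorphismProperty.pullback_snd _ _ ‹IsSeparated f›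
    haveI : IsClosedImmersion τ := by
      haveI : IsClosedImmersion (τ ≫ f.fiberToSpecResidueField (f x)) := by rw [hτ]; infer_instance
      exact IsClosedImmersion.of_comp τ (f.fiberToSpecResidueField (f x))
    suffices hrange : Set.range τ = {f.asFiber x} by
      rw [← hrange]; exact τ.isClosedEmbedding.isClosed_range
    have hpt : ∀ p, τ p = f.asFiber x := fun p => by
      refine (f.fiberι (f x)).isEmbedding.injective ?_
      rw [Scheme.Hom.fiberι_asFiber, ← Scheme.Hom.comp_apply,
        show τ ≫ f.fiberι (f x) = σ₀ from pullback.lift_fst _ _ _, hx]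
    ext q
    constructor
    · rintro ⟨p, rfl⟩; exact hpt p
    · rintro rfl; exact ⟨_, hpt (IsLocalRing.closedPoint _)⟩
  obtain ⟨Z, i, z, hi, he, hiz, -⟩ := Groth.Agent.S0413.result f x hcl hsep
  haveI := hi
  let q := pullback.snd i σ₀
  haveI : IsImmersion q := MorphismProperty.pullback_snd _ _ hi
  haveI : Surjective q := ⟨fun p => by
    obtain ⟨w, -, hw⟩ := Scheme.Pullback.exists_preimage_pullback (f := i) (g := σ₀) z p (by
      rw [hiz, hx])
    exact ⟨w, hw⟩⟩
  haveI : IsClosedImmersion q := IsClosedImmersion.of_isPreimmersion q (by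
    rw [Set.range_eq_univ.2 q.surjective]; exact isClosed_univ)
  haveI : IsIso q := isIso_of_isClosedImmersion_of_surjective q
  refine ⟨Z, i, inv q ≫ pullback.fst i σ₀, he, ?_⟩
  rw [Category.assoc, pullback.condition, IsIso.inv_hom_id_assoc]

end Groth.L24.MSub
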