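import Groth.Agent.L24.MSub.TorusPts
import Groth.Agent.L24.MSub.ImageAffine
import Groth.Agent.L24.FinSub.Twist
import Groth.Agent.L08.Borel.MaxTorusDesc

/-!
# The scheme of maximal tori

Inside the scheme of subgroups of multiplicative type, the points carrying a split torus whose rank is the
reductive rank of the fibre form an open subscheme; it parametrises maximal tori and is affine over the base
when the group has maximal tori etale locally.
-/

set_option autoImplicit false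
universe u

open CategoryTheory CategoryTheory.Limits MonoidalCategory CartesianMonoidalCategory AlgebraicGeometry
open scoped MonObj

set_option backward.isDefEq.respectTransparency.types false
set_option linter.style.haveILetI false

noncomputable section

namespace Groth.L24.MSub

open Groth.L25 Groth.L25.SplitSub Groth.L24.FinSub

variable {S : Scheme.{u}} {G : Over S} [GrpObj G] [IsAffineHom G.hom] [Smooth G.hom]

theorem exists_rank_nhd (hr : SGA3x.RedRankLocallyConstant G) (s : S) :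
    ∃ (r : ℕ) (V : S.Opens), s ∈ V ∧ ∀ t ∈ V, SGA3x.HasRedRank G t r := by
  obtain ⟨V, hs, r, hV⟩ := hr s
  obtain ⟨m, hm⟩ := Groth.L08.Borel.exists_redRank (G := G) s
  obtain rfl := Groth.L08.Borel.hasRedRank_unique (hV s hs) hm
  exact ⟨m, V, hs, hV⟩

theorem rank_unique {s : S} {r r' : ℕ} (h : SGA3x.HasRedRank G s r) (h' : SGA3x.HasRedRank G s r') : r = r' := by
  exact_mod_cast Groth.L08.Borel.hasRedRank_unique h h'

namespace MRep

variable (R : MRep G)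

/-- the open set of maximal tori -/
def torusLocus : R.A.left.Opens :=
  ⟨{a | ∃ r : ℕ, a ∈ Set.range (R.pti (torusIdx r)).left ∧
    ∃ V : S.Opens, R.A.hom a ∈ V ∧ ∀ t ∈ V, SGA3x.HasRedRank G t r}, by
    rw [isOpen_iff_forall_mem_open]
    rintro a ⟨r, ha, V, haV, hV⟩
    exact ⟨Set.range (R.pti (torusIdx r)).left ∩ R.A.hom ⁻¹' V, fun b hb => ⟨r, hb.1, V, hb.2, hV⟩,
      (R.pti (torusIdx r)).left.isOpenMap.isOpen_range.inter (V.2.preimage R.A.hom.continuous), ha, haV⟩⟩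

/-- the scheme of maximal tori -/
abbrev torT : Over S := Over.mk (R.torusLocus.ι ≫ R.A.hom)

/-- its inclusion -/
abbrev torIncl : R.torT ⟶ R.A := Over.homMk R.torusLocus.ι rfl

/-- the universal maximal torus -/
abbrev torK : Over R.torT.left := Red.bc R.torIncl.left R.K

/-- its inclusion -/
def torJ : R.torK ⟶ Red.bc R.torT.hom G :=
  (Over.pullback R.torIncl.left).map R.j ≫ (ActBC.bcCompIso R.torIncl.left R.A.hom G (Over.w R.torIncl)).hom

theorem mem_torJ_iff {T : Over S} (t : T ⟶ R.torT) (g : T ⟶ G) :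
    Mem R.torJ t g ↔ Mem R.j (t ≫ R.torIncl) g :=
  mem_bc_iff R.j R.torIncl t g

instance mono_torJ : Mono R.torJ := by
  haveI : Mono R.j := Over.mono_of_mono_left _
  exact inferInstanceAs (Mono (_ ≫ _))

/-- the universal torus is split on charts -/
theorem exists_split_chart [GrpObj R.K] [IsMonHom R.j] (p : R.torT.left) :
    ∃ (r : ℕ) (U : Scheme.{u}) (c : U ⟶ R.torT.left), Etale c ∧ p ∈ Set.range c ∧
      Red.IsSplitTorusWith (Fin r → ℤ) (Red.bc c R.torK) ∧ SGA3x.HasRedRank G (R.torT.hom p) r := by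
  obtain ⟨r, ⟨x, hx⟩, V, hpV, hV⟩ := p.2
  let U : (R.Δ.X (torusIdx r)).left.Opens := (R.pti (torusIdx r)).left ⁻¹ᵁ R.torusLocus
  have hr : Set.range (U.ι ≫ (R.pti (torusIdx r)).left) ⊆ Set.range R.torusLocus.ι := by
    rw [Scheme.Opens.range_ι]
    rintro _ ⟨u, rfl⟩
    exact u.2
  let c : U.toScheme ⟶ R.torT.left := IsOpenImmersion.lift R.torusLocus.ι _ hr
  have hc : c ≫ R.torusLocus.ι = U.ι ≫ (R.pti (torusIdx r)).left := IsOpenImmersion.lift_fac _ _ _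
  haveI : Etale c := by
    haveI : Etale (c ≫ R.torusLocus.ι) := by rw [hc]; infer_instance
    exact Etale.of_comp c R.torusLocus.ι
  have hxU : x ∈ U := show (R.pti (torusIdx r)).left x ∈ R.torusLocus from hx.symm ▸ p.2
  obtain ⟨eK⟩ := R.nonempty_K_iso (torusIdx r)
  let e : Grp.mk (Red.bc c R.torK) ≅ Grp.mk (Red.DS U.toScheme (grpI (torusIdx.{u} r))) :=
    Grp.mkIso' (ActBC.bcCompIso c R.torusLocus.ι R.K hc) ≪≫ bcSplit eK U.ι rfl
  refine ⟨r, U, c, inferInstance, ⟨⟨x, hxU⟩, R.torusLocus.ι.isOpenEmbedding.injective ?_⟩,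
    ⟨e ≪≫ TorLift.dsCongr _ (torusEquiv.{u} r)⟩, hV _ hpV⟩
  rw [← Scheme.Hom.comp_apply, hc]
  exact hx

theorem isMaximalTorus_torJ [GrpObj R.K] [IsMonHom R.j] : Red.IsMaximalTorus R.torJ := by
  haveI : IsMonHom R.torJ := by
    haveI : IsMonHom ((Over.pullback R.torIncl.left).map R.j) := MonoClosed.isMonHom_pullbackMap _ _
    haveI : IsMonHom (ActBC.bcCompIso R.torIncl.left R.A.hom G (Over.w R.torIncl)).hom :=
      (Grp.mkIso' (ActBC.bcCompIso R.torIncl.left R.A.hom G (Over.w R.torIncl))).hom.hom.isMonHom_hom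
    exact inferInstanceAs (IsMonHom (_ ≫ _))
  choose r U c hce hp hs hrk using R.exists_split_chart
  refine Groth.L08.Borel.isMaximalTorus_of_ranks R.torT.hom R.torJ ?_
    fun p => ⟨r p, @Groth.L08.Borel.isSplit_geomFibre _ _ (c p) (hce p) _ _ _ (hs p) p (hp p), hrk p⟩
  let σ : (∐ U) ⟶ R.torT.left := Sigma.desc c
  haveI : Etale σ := IsZariskiLocalAtSource.sigmaDesc (P := @Etale) hce
  haveI : Surjective σ := ⟨fun p => by
    obtain ⟨u, hu⟩ := hp p
    exact ⟨Sigma.ι U p u, by rw [← Scheme.Hom.comp_apply, Sigma.ι_desc]; exact hu⟩⟩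
  refine Groth.L08.Borel.isTorus_descend σ (Groth.L08.Borel.cover_of_lfp σ)
    (Groth.L08.Borel.isTorus_of_openCover fun q => ?_)
  obtain ⟨p, u, rfl⟩ := (sigmaOpenCover U).exists_eq q
  haveI : IsMonHom (ActBC.bcCompIso (Sigma.ι U p) σ R.torK (Sigma.ι_desc c p)).symm.hom :=
    (Grp.mkIso' (ActBC.bcCompIso (Sigma.ι U p) σ R.torK (Sigma.ι_desc c p))).inv.hom.isMonHom_hom
  exact ⟨U p, Sigma.ι U p, inferInstance, ⟨u, rfl⟩, r p,
    Groth.L08.Borel.isSplit_iso (ActBC.bcCompIso (Sigma.ι U p) σ R.torK (Sigma.ι_desc c p)).symm (hs p)⟩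

section Universal

variable {S' : Scheme.{u}} {f : S' ⟶ S} {T' : Over S'} [GrpObj T'] {i' : T' ⟶ Red.bc f G}

/-- a maximal torus is split of the rank of the fibre on etale charts -/
theorem exists_chart_of_maxTorus (hi : Red.IsMaximalTorus i') (y : S') {r : ℕ} (hr : SGA3x.HasRedRank G (f y) r) :
    ∃ (S₂ : Scheme.{u}) (π : S₂ ⟶ S'), Etale π ∧ y ∈ Set.range π ∧
      Red.IsSplitTorusWith (Fin r → ℤ) (Red.bc π T') := by
  haveI := hi.1; haveI := hi.2.1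
  obtain ⟨S₂, π, hπ, ⟨y₂, hy₂⟩, M, _, -, ⟨e⟩⟩ :=
    Extend.exists_etale_split (Locus.isMultTypeFT_of_isTorus hi.2.2.1) y
  haveI := hπ
  obtain ⟨σ, hσ⟩ := Groth.L08.Borel.exists_geomPt_lift π ⟨y₂, hy₂⟩
  obtain ⟨n, ⟨er⟩⟩ := Groth.L08.Borel.exists_split_rank (Locus.isTorus_bc hi.2.2.1 (Red.geomPt y))
  obtain ⟨φ⟩ := TorLift.addEquiv_of_ds ((TrivLocus.restrictIso π σ e hσ).symm ≪≫ er)
  have hmax : AGF.IsMaxTorus ((Over.pullback (Red.geomPt y)).map i') :=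
    ⟨MonoClosed.isMonHom_pullbackMap _ _, Functor.map_mono _ _, Locus.isTorus_bc hi.2.2.1 _,
      fun T₁ _ b _ _ a h₁ ha => hi.2.2.2 y T₁ b a h₁ ha⟩
  obtain rfl := Groth.L08.Borel.rank_eq_of_maxTorus f y hr hmax ⟨er⟩
  exact ⟨S₂, π, hπ, ⟨y₂, hy₂⟩, ⟨e ≪≫ TorLift.dsCongr _ φ⟩⟩

theorem exists_torus_map (hr : SGA3x.RedRankLocallyConstant G) [GrpObj R.K] [IsMonHom R.j]
    (hi : Red.IsMaximalTorus i') :
    ∃ v : Over.mk f ⟶ R.torT, ∀ (Y : Over S) (t : Y ⟶ Over.mk f) (g : Y ⟶ G),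
      Mem (M := Over.mk f) i' t g ↔ Mem R.torJ (t ≫ v) g := by
  haveI := hi.1; haveI := hi.2.1
  haveI : Mono i'.left := inferInstance
  obtain ⟨v, hv⟩ := R.exists_map i' (Locus.isMultTypeFT_of_isTorus hi.2.2.1)
  have hmem : Set.range v.left ⊆ Set.range R.torusLocus.ι := by
    rw [Scheme.Opens.range_ι]
    rintro _ ⟨y, rfl⟩
    obtain ⟨r, V, hyV, hV⟩ := exists_rank_nhd hr (f y)
    obtain ⟨S₂, π, -, ⟨y₂, hy₂⟩, ⟨e⟩⟩ := exists_chart_of_maxTorus hi y (hV _ hyV)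
    obtain ⟨a, ha⟩ := R.exists_pt_of_split i' π e (torusIdx r) (torusEquiv.{u} r)
    let c : Over.mk (π ≫ f) ⟶ Over.mk f := Over.homMk π rfl
    have h : a ≫ R.pti (torusIdx r) = c ≫ v := R.pt_ext _ _ fun T t g => by
      rw [← ha T t g, hv, Category.assoc]
    have h' := congrArg (fun k : Over.mk (π ≫ f) ⟶ R.A => k.left y₂) h
    refine ⟨r, ⟨a.left y₂, ?_⟩, V, ?_, hV⟩
    · refine h'.trans ?_
      show v.left (π y₂) = _
      rw [hy₂]
    · rw [← Scheme.Hom.comp_apply, Over.w v]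
      exact hyV
  let w : Over.mk f ⟶ R.torT := Over.homMk (IsOpenImmersion.lift R.torusLocus.ι v.left hmem) (by
    show _ ≫ R.torusLocus.ι ≫ R.A.hom = f
    rw [IsOpenImmersion.lift_fac_assoc]
    exact Over.w v)
  have hw : w ≫ R.torIncl = v := Over.OverMorphism.ext (IsOpenImmersion.lift_fac _ _ _)
  refine ⟨w, fun Y t g => ?_⟩
  rw [hv, mem_torJ_iff, Category.assoc, hw]

theorem torT_ext {Y : Over S} (a b : Y ⟶ R.torT)
    (h : ∀ (T : Over S) (t : T ⟶ Y) (g : T ⟶ G), Mem R.torJ (t ≫ a) g ↔ Mem R.torJ (t ≫ b) g) : a = b := by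
  have e : a ≫ R.torIncl = b ≫ R.torIncl := R.pt_ext _ _ fun T t g => by
    rw [← Category.assoc, ← Category.assoc, ← mem_torJ_iff, ← mem_torJ_iff, h]
  haveI : Mono R.torIncl.left := inferInstanceAs (Mono R.torusLocus.ι)
  haveI : Mono R.torIncl := Over.mono_of_mono_left _
  exact (cancel_mono R.torIncl).1 e

theorem representsMaxTori (hr : SGA3x.RedRankLocallyConstant G) [GrpObj R.K] [IsMonHom R.j] :
    SGA3x.RepresentsMaxTori G R.torT R.torK R.torJ := by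
  refine ⟨R.isMaximalTorus_torJ, fun S' f T' _ i' hi => ?_⟩
  haveI := hi.1; haveI := hi.2.1
  haveI : Mono i'.left := inferInstance
  haveI : Mono R.torJ.left := inferInstance
  obtain ⟨v, hv⟩ := R.exists_torus_map hr hi
  refine ⟨v.left, ⟨Over.w v, exists_iso_pullback R.torJ i' v.left (Over.w v) hv⟩, ?_⟩
  rintro v' ⟨hv', φ, h1, h2⟩
  have h := R.torT_ext (Over.homMk v' hv' : Over.mk f ⟶ R.torT) v fun Y t g =>
    (mem_iff_of_iso R.torJ i' v' hv' φ h1 h2 t g).symm.trans (hv Y t g)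
  exact congrArg (fun k => k.left) h

end Universal

theorem torusLocus_inter {V : S.Opens} {r : ℕ} (hV : ∀ t ∈ V, SGA3x.HasRedRank G t r) :
    ((R.torusLocus ⊓ R.A.hom ⁻¹ᵁ V : R.A.left.Opens) : Set R.A.left) =
      Set.range (R.pti (torusIdx r)).left ∩ R.A.hom ⁻¹' V := by
  ext a
  constructor
  · rintro ⟨⟨r', ha, V', haV', hV'⟩, haV⟩
    obtain rfl := rank_unique (hV _ haV) (hV' _ haV')
    exact ⟨ha, haV⟩
  · rintro ⟨ha, haV⟩
    exact ⟨⟨r, ha, V, haV, hV⟩, haV⟩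

end MRep

/-- the conjugates of a split torus -/
theorem exists_conj_family {M : Type} [AddCommGroup M] {X B : Over S} {υ : Red.DS S M ⊗ X ⟶ G}
    (hX : MPiece M X υ) (a₀ : B ⟶ X) :
    ∃ a : G ⊗ B ⟶ X, ∀ (T : Over S) (p : T ⟶ G ⊗ B) (z : T ⟶ Red.DS S M),
      lift z (p ≫ a) ≫ υ = (p ≫ fst G B) * (lift z (p ≫ snd G B ≫ a₀) ≫ υ) * (p ≫ fst G B)⁻¹ := by
  let ψ : Red.DS S M ⊗ (G ⊗ B) ⟶ G := (snd _ _ ≫ fst G B) *
    (lift (fst _ _) (snd _ _ ≫ snd G B ≫ a₀) ≫ υ) * (snd _ _ ≫ fst G B)⁻¹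
  have hψ : ∀ (T : Over S) (z : T ⟶ Red.DS S M) (p : T ⟶ G ⊗ B),
      lift z p ≫ ψ = (p ≫ fst G B) * (lift z (p ≫ snd G B ≫ a₀) ≫ υ) * (p ≫ fst G B)⁻¹ := fun T z p => by
    simp only [ψ, MonObj.comp_mul, GrpObj.comp_inv, comp_lift_assoc, lift_fst, lift_snd_assoc]
  obtain ⟨a, ha⟩ := hX.exists_pt (G ⊗ B) ψ (fun T z z' p => by
    rw [hψ, hψ, hψ, hX.hom]
    group) (fun T p z hz => by
    rw [hψ, mul_inv_eq_one, mul_eq_left] at hz
    exact hX.mono T _ z hz)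
  refine ⟨a, fun T p z => ?_⟩
  rw [← comp_whisker υ a p z, ha, hψ]

namespace MRep

variable (R : MRep G)

theorem isCompact_torusLocus_inter [GrpObj R.K] [IsMonHom R.j] {V : S.Opens} (hV : IsCompact (V : Set S)) {r : ℕ}
    (hrk : ∀ t ∈ V, SGA3x.HasRedRank G t r) (hG : SGA3x.HasMaxTorusEtaleLocally G) :
    IsCompact ((R.torusLocus ⊓ R.A.hom ⁻¹ᵁ V : R.A.left.Opens) : Set R.A.left) := by
  obtain ⟨S₁, f, hf, hfs, T₀, _, i₀, hi₀⟩ := hG
  haveI := hf
  haveI := hi₀.1; haveI := hi₀.2.1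
  haveI : Mono i₀.left := inferInstance
  have hB : ∀ s : V, ∃ (B : Over S) (_ : IsAffine B.left) (_ : B ⟶ R.Δ.X (torusIdx r)),
      s.1 ∈ Set.range B.hom ∧ Set.range B.hom ⊆ (V : Set S) ∧ IsOpen (Set.range B.hom) := fun s => by
    obtain ⟨y, hy⟩ := hfs.surj s.1
    obtain ⟨S₂, π, hπ, ⟨y₂, hy₂⟩, ⟨e⟩⟩ :=
      exists_chart_of_maxTorus hi₀ y (hrk (f y) (show f y ∈ V from hy.symm ▸ s.2))
    haveI := hπ
    have hy₂V : (π ≫ f) y₂ ∈ V := by
      rw [Scheme.Hom.comp_apply, hy₂]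
      exact hy.symm ▸ s.2
    obtain ⟨a, -⟩ := R.exists_pt_of_split i₀ π e (torusIdx r) (torusEquiv.{u} r)
    obtain ⟨W, hW, hyW, hWV⟩ := exists_isAffineOpen_mem_and_subset (X := S₂) (x := y₂) (U := (π ≫ f) ⁻¹ᵁ V) hy₂V
    refine ⟨Over.mk (W.ι ≫ π ≫ f), hW, (Over.homMk W.ι rfl : Over.mk (W.ι ≫ π ≫ f) ⟶ Over.mk (π ≫ f)) ≫ a,
      ⟨⟨y₂, hyW⟩, ?_⟩, ?_, (W.ι ≫ π ≫ f).isOpenMap.isOpen_range⟩
    · show f (π y₂) = s.1
      rw [hy₂, hy]
    · rintro _ ⟨w, rfl⟩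
      exact hWV w.2
  choose B hBa a₀ hsB hBV hBo using hB
  obtain ⟨t, ht⟩ := hV.elim_finite_subcover (fun s => Set.range (B s).hom) hBo
    fun s hs => Set.mem_iUnion.2 ⟨⟨s, hs⟩, hsB ⟨s, hs⟩⟩
  choose a ha using fun s : V => exists_conj_family (R.Δ.piece (torusIdx r)) (a₀ s)
  have hcpt : IsCompact (⋃ s ∈ t, Set.range (a s ≫ R.pti (torusIdx r)).left) :=
    t.finite_toSet.isCompact_biUnion fun s _ => by
      haveI := hBa s
      haveI : IsAffineHom (pullback.snd G.hom (B s).hom) := MorphismProperty.pullback_snd _ _ ‹IsAffineHom G.hom›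
      haveI : IsAffine (G ⊗ B s).left := isAffine_of_isAffineHom (pullback.snd G.hom (B s).hom)
      exact isCompact_range (a s ≫ R.pti (torusIdx r)).left.continuous
  rw [R.torusLocus_inter hrk]
  convert hcpt using 1
  refine Set.Subset.antisymm ?_ ?_
  · rintro _ ⟨⟨x, rfl⟩, hxV⟩
    rw [Set.mem_preimage, ← Scheme.Hom.comp_apply, Over.w] at hxV
    obtain ⟨s, hs, b, hb⟩ := Set.mem_iUnion₂.1 (ht hxV)
    obtain ⟨z, hz₁, hz₂⟩ := Scheme.Pullback.exists_preimage_pullback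
      (f := (R.Δ.X (torusIdx r)).hom) (g := (B s).hom) x b hb.symm
    let k := Red.geomPt z
    let ξ := k ≫ pullback.fst (R.Δ.X (torusIdx r)).hom (B s).hom ≫ (R.Δ.X (torusIdx r)).hom
    let b₁ : Over.mk ξ ⟶ R.Δ.X (torusIdx r) :=
      Over.homMk (k ≫ pullback.fst (R.Δ.X (torusIdx r)).hom (B s).hom) (Category.assoc _ _ _)
    let b₂ : Over.mk ξ ⟶ B s := Over.homMk (k ≫ pullback.snd (R.Δ.X (torusIdx r)).hom (B s).hom) (by
      show (k ≫ pullback.snd _ _) ≫ (B s).hom = k ≫ pullback.fst _ _ ≫ (R.Δ.X (torusIdx r)).hom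
      rw [Category.assoc, pullback.condition])
    have hξ : ∀ p, SGA3x.HasRedRank G (ξ p) r := fun p => hrk _ (by
      show (pullback.fst (R.Δ.X (torusIdx r)).hom (B s).hom ≫ (R.Δ.X (torusIdx r)).hom) (k p) ∈ V
      rw [Groth.L08.Borel.geomPt_apply, Scheme.Hom.comp_apply, hz₁]
      exact hxV)
    have hX := R.Δ.piece (torusIdx r)
    have hfam : ∀ {Z : Over S} (c : Z ⟶ R.Δ.X (torusIdx r)),
        AutFam.IsHomFamily (Red.DS S (grpI (torusIdx.{u} r))) G ((Red.DS S _ ◁ c) ≫ R.Δ.υ (torusIdx r)) ∧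
          MonoFam ((Red.DS S _ ◁ c) ≫ R.Δ.υ (torusIdx r)) := fun c => by
      refine ⟨fun T w w' q => ?_, fun T q w hw => ?_⟩
      · rw [comp_whisker, comp_whisker, comp_whisker]
        exact hX.hom _ _ _ _
      · rw [comp_whisker] at hw
        exact hX.mono T _ w hw
    obtain ⟨γ, hγ⟩ := exists_conj_of_rank ξ (hfam (b₂ ≫ a₀ s)).1 (hfam (b₂ ≫ a₀ s)).2 (hfam b₁).1 (hfam b₁).2
      (torusEquiv.{u} r) hξ
    let q : Over.mk ξ ⟶ G ⊗ B s := lift γ b₂
    have hq : (q ≫ a s) ≫ R.pti (torusIdx r) = b₁ ≫ R.pti (torusIdx r) := (R.pti_eq_iff _ _ _).2 fun T t g => by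
      have e1 : ∀ (c : Over.mk ξ ⟶ R.Δ.X (torusIdx r)) (y : T ⟶ G),
          Img (R.Δ.υ (torusIdx r)) (t ≫ c) y ↔ Img ((Red.DS S _ ◁ c) ≫ R.Δ.υ (torusIdx r)) t y := fun c y => exists_congr fun w => by
        rw [comp_whisker]
      rw [e1 b₁, hγ, ← e1]
      refine exists_congr fun w => ?_
      rw [← Category.assoc t q, ha, Category.assoc t q, lift_fst, ← Category.assoc (t ≫ q) (snd _ _),
        Category.assoc t q, lift_snd, Category.assoc t b₂]
      constructor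
      · rintro rfl
        group
      · intro h
        rw [h]
        group
    refine Set.mem_iUnion₂.2 ⟨s, hs, q.left (IsLocalRing.closedPoint _), ?_⟩
    have h := congrArg (fun m : Over.mk ξ ⟶ R.A => m.left (IsLocalRing.closedPoint _)) hq
    refine h.trans ?_
    show (R.pti (torusIdx r)).left (pullback.fst (R.Δ.X (torusIdx r)).hom (B s).hom (k _)) = _
    rw [Groth.L08.Borel.geomPt_apply, hz₁]
  · rintro _ hw
    obtain ⟨s, -, p, rfl⟩ := Set.mem_iUnion₂.1 hw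
    refine ⟨⟨(a s).left p, rfl⟩, ?_⟩
    rw [Set.mem_preimage, ← Scheme.Hom.comp_apply, Over.w, ← Over.w (snd G (B s)), Scheme.Hom.comp_apply]
    exact hBV s ⟨_, rfl⟩

theorem isAffine_torusLocus_inter [GrpObj R.K] [IsMonHom R.j] {V : S.Opens} (hV : IsAffineOpen V) {r : ℕ}
    (hrk : ∀ t ∈ V, SGA3x.HasRedRank G t r) (hG : SGA3x.HasMaxTorusEtaleLocally G) :
    IsAffineOpen (R.torusLocus ⊓ R.A.hom ⁻¹ᵁ V) := by
  haveI := R.separated
  refine isAffine_image (j := hV.fromSpec) (R.Δ.piece (torusIdx r)) (R.pti (torusIdx r))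
    (fun Y a b => R.pti_eq_iff _ a b) _ ?_ (R.isCompact_torusLocus_inter hV.isCompact hrk hG)
  rw [hV.range_fromSpec]
  exact R.torusLocus_inter hrk

theorem isAffineHom_torT [GrpObj R.K] [IsMonHom R.j] (hG : SGA3x.HasMaxTorusEtaleLocally G) :
    IsAffineHom R.torT.hom := by
  refine isAffineHom_of_forall_exists_isAffineOpen R.torT.hom fun s => ?_
  obtain ⟨r, V, hsV, hV⟩ := exists_rank_nhd (Groth.L08.Borel.redRankLocallyConstant_of_etale hG) s
  obtain ⟨U, hU, hsU, hUV⟩ := exists_isAffineOpen_mem_and_subset hsV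
  refine ⟨U, hsU, hU, ?_⟩
  have h := (R.isAffine_torusLocus_inter hU (fun t ht => hV t (hUV ht)) hG).preimage_of_isOpenImmersion
    R.torusLocus.ι (by rw [Scheme.Opens.opensRange_ι]; exact inf_le_left)
  have e : R.torT.hom ⁻¹ᵁ U = R.torusLocus.ι ⁻¹ᵁ (R.torusLocus ⊓ R.A.hom ⁻¹ᵁ U) :=
    TopologicalSpace.Opens.ext (Set.ext fun p => ⟨fun hp => ⟨p.2, hp⟩, fun hp => hp.2⟩)
  rw [e]
  exact h

theorem smooth_torT : Smooth R.torT.hom := by
  haveI := R.smooth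
  exact inferInstanceAs (Smooth (R.torusLocus.ι ≫ R.A.hom))

end MRep

end Groth.L24.MSub
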