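import Groth.Agent.L24.MSub.Tori
import Groth.Agent.L25.ConnIrred
import Groth.Agent.L25.GenWords.Fibre
import Groth.Prelude.Def_RedSub

/-!
# Geometric fibres and point description of the scheme of maximal tori
-/

set_option autoImplicit false
universe u

open CategoryTheory CategoryTheory.Limits MonoidalCategory CartesianMonoidalCategory AlgebraicGeometry
open scoped MonObj

set_option backward.isDefEq.respectTransparency.types false
set_option linter.style.haveILetI false

noncomputable section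

namespace Groth.L24.MSub

open Groth.L25 Groth.L25.SplitSub Groth.L24.FinSub

variable {S : Scheme.{u}} {G : Over S}

/-- equality of points in the two languages -/
theorem samePoints_iff {S' : Scheme.{u}} (f : S' ⟶ S) {H' : Over S'} (h' : H' ⟶ Red.bc f G) {M : Over S}
    {H : Over M.left} (h : H ⟶ Red.bc M.hom G) (g : Over.mk f ⟶ M) :
    RedSub.SamePoints G f h' M h g.left ↔ ∀ (Y : Over S) (t : Y ⟶ Over.mk f) (x : Y ⟶ G),
      Mem (M := Over.mk f) h' t x ↔ Mem h (t ≫ g) x := by
  constructor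
  · exact fun hs Y t x => hs Y.left t.left x.left
  · intro hm X y γ
    have key : γ ≫ G.hom = y ≫ f →
        ((∃ p : X ⟶ H'.left, p ≫ H'.hom = y ∧ p ≫ h'.left ≫ pullback.fst G.hom f = γ) ↔
          ∃ p : X ⟶ H.left, p ≫ H.hom = y ≫ g.left ∧ p ≫ h.left ≫ pullback.fst G.hom M.hom = γ) := fun e =>
      hm (Over.mk (y ≫ f)) (Over.homMk y rfl) (Over.homMk γ e)
    have hw' : h'.left ≫ pullback.snd G.hom f = H'.hom := Over.w h'
    have hw : h.left ≫ pullback.snd G.hom M.hom = H.hom := Over.w h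
    constructor
    · rintro ⟨p, h1, h2⟩
      refine (key ?_).1 ⟨p, h1, h2⟩
      rw [← h2, ← h1, Category.assoc, Category.assoc, pullback.condition, ← hw']
      simp only [Category.assoc]
    · rintro ⟨p, h1, h2⟩
      refine (key ?_).2 ⟨p, h1, h2⟩
      rw [← h2, Category.assoc, Category.assoc, pullback.condition, reassoc_of% hw, reassoc_of% h1]
      exact congrArg (y ≫ ·) (Over.w g)

variable [GrpObj G] [IsAffineHom G.hom] [Smooth G.hom]

namespace MRep

variable (R : MRep G)

theorem representsTor (hr : SGA3x.RedRankLocallyConstant G) [GrpObj R.K] [IsMonHom R.j] :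
    RedSub.RepresentsTor G R.torT R.torK R.torJ := by
  refine ⟨R.isMaximalTorus_torJ, fun S' f T' _ i' hi => ?_⟩
  obtain ⟨v, hv⟩ := R.exists_torus_map hr hi
  refine ⟨v.left, ⟨Over.w v, (samePoints_iff f i' R.torJ v).2 hv⟩, ?_⟩
  rintro v' ⟨hv', hs⟩
  have h := R.torT_ext (Over.homMk v' hv' : Over.mk f ⟶ R.torT) v fun Y t g =>
    ((samePoints_iff f i' R.torJ (Over.homMk v' hv')).1 hs Y t g).symm.trans (hv Y t g)
  exact congrArg (fun k => k.left) h

/-- geometric fibres of the scheme of maximal tori of a group with connected fibres -/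
theorem isIntegral_fibre [GrpObj R.K] [IsMonHom R.j] (hr : SGA3x.RedRankLocallyConstant G) (s : S)
    [ConnectedSpace (Red.geomFibre s G).left] : IsIntegral (Red.geomFibre s R.torT).left := by
  haveI := R.smooth_torT
  haveI : IsReduced (Red.geomFibre s R.torT).left := by
    haveI : Smooth (Red.geomFibre s R.torT).hom := MorphismProperty.pullback_snd _ _ ‹Smooth R.torT.hom›
    exact GenWords.isReduced_of_smooth_field (Red.geomFibre s R.torT).hom
  obtain ⟨r, V, hsV, hV⟩ := exists_rank_nhd hr s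
  obtain ⟨T, gT, i, hi, m, hm, hrm⟩ := Groth.L08.Borel.hasRedRank_iff.1 (hV s hsV)
  obtain rfl : r = m := by exact_mod_cast hrm
  haveI := hi.1; haveI := hi.2.1
  haveI : Mono i.left := inferInstance
  obtain ⟨e⟩ := Groth.L08.Borel.isSplit_bc (𝟙 _) hm
  obtain ⟨a₀, -⟩ := R.exists_pt_of_split i (𝟙 _) e (torusIdx r) (torusEquiv.{u} r)
  let B : Over S := Over.mk (𝟙 _ ≫ Red.geomPt s)
  have hB : ∀ b : B.left, B.hom b = s := fun b => by
    show (𝟙 _ ≫ Red.geomPt s) b = s
    rw [Category.id_comp]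
    exact Groth.L08.Borel.geomPt_apply s b
  obtain ⟨a, ha⟩ := exists_conj_family (R.Δ.piece (torusIdx r)) a₀
  have hr' : Set.range (a ≫ R.pti (torusIdx r)).left ⊆ Set.range R.torusLocus.ι := by
    rw [Scheme.Opens.range_ι]
    rintro _ ⟨p, rfl⟩
    refine ⟨r, ⟨a.left p, rfl⟩, V, ?_, hV⟩
    rw [← Scheme.Hom.comp_apply, Over.w, ← Over.w (snd G B), Scheme.Hom.comp_apply, hB]
    exact hsV
  let Φ : G ⊗ B ⟶ R.torT := Over.homMk (IsOpenImmersion.lift R.torusLocus.ι _ hr') (by
    show _ ≫ R.torusLocus.ι ≫ R.A.hom = _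
    rw [IsOpenImmersion.lift_fac_assoc]
    exact Over.w (a ≫ R.pti (torusIdx r)))
  have hΦ : Φ ≫ R.torIncl = a ≫ R.pti (torusIdx r) := Over.OverMorphism.ext (IsOpenImmersion.lift_fac _ _ _)
  let Ψ : (G ⊗ B).left ⟶ (Red.geomFibre s R.torT).left := pullback.lift Φ.left (snd G B).left (by
    rw [Over.w Φ, ← Over.w (snd G B)]
    exact congrArg ((snd G B).left ≫ ·) (Category.id_comp _))
  haveI : Surjective Ψ := ⟨fun y => by
    let Q := (Red.geomFibre s R.torT).left
    let p₁ : Q ⟶ R.torT.left := pullback.fst _ _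
    let p₂ : Q ⟶ B.left := pullback.snd _ _
    have hpq : p₁ ≫ R.torT.hom = p₂ ≫ B.hom := by
      show _ = p₂ ≫ 𝟙 _ ≫ Red.geomPt s
      rw [Category.id_comp]
      exact pullback.condition
    have hy : R.A.hom (R.torusLocus.ι (p₁ y)) = s :=
      (congrArg (fun k : Q ⟶ S => k y) hpq).trans (hB (p₂ y))
    obtain ⟨r', ⟨x, hx⟩, V', hxV', hV'⟩ := (p₁ y).2
    obtain rfl : r = r' := rank_unique (hV s hsV) (hy ▸ hV' _ hxV')
    obtain ⟨z, hz₁, hz₂⟩ := Scheme.Pullback.exists_preimage_pullback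
      (f := p₁ ≫ R.torusLocus.ι) (g := (R.pti (torusIdx r)).left) y x hx.symm
    let k := Red.geomPt z
    let ξ := k ≫ pullback.fst (p₁ ≫ R.torusLocus.ι) (R.pti (torusIdx r)).left ≫ p₂ ≫ B.hom
    let b₂ : Over.mk ξ ⟶ B := Over.homMk (k ≫ pullback.fst (p₁ ≫ R.torusLocus.ι) (R.pti (torusIdx r)).left ≫ p₂) (by
      simp only [ξ, Over.mk_hom, Category.assoc])
    let b₁ : Over.mk ξ ⟶ R.Δ.X (torusIdx r) :=
      Over.homMk (k ≫ pullback.snd (p₁ ≫ R.torusLocus.ι) (R.pti (torusIdx r)).left) (by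
        show (k ≫ pullback.snd _ _) ≫ _ = k ≫ pullback.fst _ _ ≫ p₂ ≫ B.hom
        rw [Category.assoc, ← Over.w (R.pti (torusIdx r)), ← pullback.condition_assoc, ← hpq]
        simp only [Category.assoc]
        rfl)
    have hX := R.Δ.piece (torusIdx r)
    have hfam : ∀ {Z : Over S} (c : Z ⟶ R.Δ.X (torusIdx r)),
        AutFam.IsHomFamily (Red.DS S (grpI (torusIdx.{u} r))) G ((Red.DS S _ ◁ c) ≫ R.Δ.υ (torusIdx r)) ∧
          MonoFam ((Red.DS S _ ◁ c) ≫ R.Δ.υ (torusIdx r)) := fun c => by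
      refine ⟨fun T w w' q => ?_, fun T q w hw => ?_⟩
      · rw [comp_whisker, comp_whisker, comp_whisker]
        exact hX.hom _ _ _ _
      · rw [comp_whisker] at hw
        exact hX.mono T _ w hw
    obtain ⟨γ, hγ⟩ := exists_conj_of_rank ξ (hfam (b₂ ≫ a₀)).1 (hfam (b₂ ≫ a₀)).2 (hfam b₁).1 (hfam b₁).2
      (torusEquiv.{u} r) fun w => by
        show SGA3x.HasRedRank G (B.hom ((k ≫ pullback.fst _ _ ≫ p₂) w)) r
        rw [hB]
        exact hV s hsV
    let q : Over.mk ξ ⟶ G ⊗ B := lift γ b₂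
    have hq : (q ≫ a) ≫ R.pti (torusIdx r) = b₁ ≫ R.pti (torusIdx r) := (R.pti_eq_iff _ _ _).2 fun T t g => by
      have e1 : ∀ (c : Over.mk ξ ⟶ R.Δ.X (torusIdx r)) (y : T ⟶ G), Img (R.Δ.υ (torusIdx r)) (t ≫ c) y ↔
          Img ((Red.DS S _ ◁ c) ≫ R.Δ.υ (torusIdx r)) t y := fun c y => exists_congr fun w => by
        rw [comp_whisker]
      rw [e1 b₁, hγ, ← e1]
      refine exists_congr fun w => ?_
      rw [← Category.assoc t q, ha, Category.assoc t q, lift_fst, ← Category.assoc (t ≫ q) (snd _ _),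
        Category.assoc t q, lift_snd, Category.assoc t b₂]
      constructor
      · rintro rfl
        group
      · intro h
        rw [h]
        group
    refine ⟨q.left (IsLocalRing.closedPoint _), ?_⟩
    have hfac : q.left ≫ Ψ = k ≫ pullback.fst (p₁ ≫ R.torusLocus.ι) (R.pti (torusIdx r)).left := by
      apply pullback.hom_ext
      · rw [← cancel_mono R.torusLocus.ι]
        simp only [Category.assoc]
        rw [pullback.lift_fst_assoc]
        refine Eq.trans ?_ (congrArg (k ≫ ·) pullback.condition).symm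
        have := congrArg (fun m : Over.mk ξ ⟶ R.A => m.left) hq
        rw [Category.assoc, ← hΦ] at this
        exact this
      · rw [Category.assoc, pullback.lift_snd, ← Over.comp_left, lift_snd, Category.assoc]
        rfl
    rw [← Scheme.Hom.comp_apply, hfac, Scheme.Hom.comp_apply, Groth.L08.Borel.geomPt_apply, hz₁]⟩
  haveI : ConnectedSpace (Red.bc B.hom G).left := by
    show ConnectedSpace ↥(pullback G.hom (𝟙 _ ≫ Red.geomPt s))
    rw [Category.id_comp]
    assumption
  haveI : IrreducibleSpace (G ⊗ B).left :=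
    ConnIrred.irreducibleSpace (Red.bc B.hom G : Over (Spec (CommRingCat.of (AlgebraicClosure (S.residueField s)))))
  haveI : IrreducibleSpace (Red.geomFibre s R.torT).left :=
    { toPreirreducibleSpace := ⟨by
        rw [← Ψ.surjective.range_eq, ← Set.image_univ]
        exact ((IrreducibleSpace.isIrreducible_univ _).image _ Ψ.continuous.continuousOn).isPreirreducible⟩
      toNonempty := ⟨Ψ (Classical.arbitrary _)⟩ }
  exact isIntegral_of_irreducibleSpace_of_isReduced _

end MRep

end Groth.L24.MSub
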