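import Groth.Agent.L24.MSub.Rep
import Groth.Agent.L24.MSub.Glue
import Groth.Agent.L23.SourceDescent
import Groth.Agent.L25.Extend.EtaleSplit
import Groth.Agent.L08.TorusWeights.Global

/-!
# The universal subgroup of multiplicative type
-/

set_option autoImplicit false
universe u

open CategoryTheory CategoryTheory.Limits MonoidalCategory CartesianMonoidalCategory AlgebraicGeometry
open scoped MonObj

set_option backward.isDefEq.respectTransparency.types false
set_option linter.style.haveILetI false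

noncomputable section

namespace Groth.L24.MSub

open Groth.L25 Groth.L25.SplitSub Groth.L24.FinSub

variable {S : Scheme.{u}}

/-- membership is etale local -/
theorem mem_of_etale_family {G M : Over S} {K : Over M.left} (j : K ⟶ Red.bc M.hom G) [Mono j.left] {Y : Over S}
    {J : Type u} {Y' : J → Over S} (c : ∀ x, Y' x ⟶ Y) (hc : ∀ x, Etale (c x).left)
    (hcov : ∀ y : Y.left, ∃ x, y ∈ Set.range (c x).left) {v : Y ⟶ M} {g : Y ⟶ G}
    (h : ∀ x, Mem j (c x ≫ v) (c x ≫ g)) : Mem j v g := by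
  let σ : sum Y' ⟶ Y := Over.homMk (Sigma.desc fun x => (c x).left) (Sigma.hom_ext _ _ fun x => by simp)
  haveI : Etale σ.left := IsZariskiLocalAtSource.sigmaDesc (P := @Etale) hc
  haveI : Surjective σ.left := ⟨fun y => by
    obtain ⟨x, z, hz⟩ := hcov y
    refine ⟨Sigma.ι (fun x => (Y' x).left) x z, ?_⟩
    rw [← Scheme.Hom.comp_apply]
    exact (congr($(Sigma.ι_desc (fun x => (c x).left) x) z)).trans hz⟩
  haveI := effectiveEpi_of_etale σ.left
  refine Mem.of_epi j σ ?_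
  choose x U u hy hu using exists_fac_sum Y' (𝟙 (sum Y'))
  refine Mem.of_openCover j U (fun y => ⟨y, hy y⟩) fun y => ?_
  have e : (Over.homMk (U y).ι rfl : Over.mk ((U y).ι ≫ (sum Y').hom) ⟶ sum Y') ≫ σ = u y ≫ c (x y) := by
    have h1 := hu y
    rw [Category.comp_id] at h1
    have h2 : sumInc Y' (x y) ≫ σ = c (x y) := Over.OverMorphism.ext (Sigma.ι_desc _ _)
    rw [h1, Category.assoc, h2]
  rw [← Category.assoc, ← Category.assoc, e, Category.assoc, Category.assoc]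
  exact (h _).comp j _

variable (G : Over S) [GrpObj G] [IsAffineHom G.hom] [Smooth G.hom]

/-- a representing object of the levels -/
structure MRep where
  /-- the data -/
  Δ : MData G
  /-- the scheme -/
  A : Over S
  /-- its levels -/
  sec : Δ.fam.obj A
  rep : Δ.fam.IsRep A sec

theorem nonempty_mrep : Nonempty (MRep G) := by
  obtain ⟨Δ⟩ := nonempty_mdata G
  obtain ⟨A, s, h⟩ := Δ.exists_rep
  exact ⟨⟨Δ, A, s, h⟩⟩

variable {G}

namespace MRep

variable (R : MRep G)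

theorem ext {T : Over S} (a b : T ⟶ R.A) (h : ∀ n, a ≫ R.sec.1 n = b ≫ R.sec.1 n) : a = b := by
  obtain ⟨c, -, hu⟩ := R.rep T (R.Δ.fam.res b R.sec)
  exact (hu a (Subtype.ext (funext h))).trans (hu b rfl).symm

theorem exists_pti (i : Idx.{u}) : ∃ p : R.Δ.X i ⟶ R.A, ∀ n, p ≫ R.sec.1 n = R.Δ.lev i n := by
  obtain ⟨p, hp, -⟩ := R.rep (R.Δ.X i) ⟨R.Δ.lev i, fun t =>
    ⟨R.Δ.X i, 𝟙 _, i, 𝟙 _, inferInstanceAs (Etale (𝟙 (R.Δ.X i).left)), ⟨t, rfl⟩, fun n => rfl⟩⟩
  exact ⟨p, fun n => congrFun (congrArg Subtype.val hp) n⟩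

/-- the point given by a monomorphism of a split group -/
def pti (i : Idx.{u}) : R.Δ.X i ⟶ R.A := (R.exists_pti i).choose

theorem pti_sec (i : Idx.{u}) (n : ℕ) : R.pti i ≫ R.sec.1 n = R.Δ.lev i n := (R.exists_pti i).choose_spec n

theorem exists_open_etale (i : Idx.{u}) (x : (R.Δ.X i).left) :
    ∃ W : (R.Δ.X i).left.Opens, x ∈ W ∧ Etale (W.ι ≫ (R.pti i).left) := by
  obtain ⟨C, hi, hx⟩ := R.Δ.exists_chart i x
  subst hi
  refine ⟨C.W, hx, ?_⟩
  let O := C.locus R.sec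
  let OA : Over S := Over.mk (O.ι ≫ R.A.hom)
  let ιO : OA ⟶ R.A := Over.homMk O.ι rfl
  obtain ⟨h, hh⟩ := (C.locus_spec R.sec OA ιO).2 (Scheme.Opens.range_ι O).subset
  obtain ⟨g, hg, -⟩ := R.rep C.tgt C.ξ
  have hg' : ∀ n, g ≫ R.sec.1 n = C.ξ.1 n := fun n => congrFun (congrArg Subtype.val hg) n
  have hh' : ∀ n, h ≫ C.ξ.1 n = ιO ≫ R.sec.1 n := fun n => congrFun (congrArg Subtype.val hh) n
  have hr := (C.locus_spec R.sec C.tgt g).1 ⟨𝟙 _, by rw [R.Δ.fam.res_id, hg]⟩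
  let g' : C.tgt ⟶ OA := Over.homMk (IsOpenImmersion.lift O.ι g.left (hr.trans (Scheme.Opens.range_ι O).superset)) (by
    show _ ≫ O.ι ≫ R.A.hom = C.tgt.hom
    rw [IsOpenImmersion.lift_fac_assoc, Over.w g])
  have hgg : g' ≫ ιO = g := Over.OverMorphism.ext (IsOpenImmersion.lift_fac _ _ _)
  have e1 : g' ≫ h = 𝟙 _ := by
    have h1 : (g' ≫ h) ≫ C.ξ.1 C.n = 𝟙 _ ≫ C.ξ.1 C.n := by
      rw [Category.assoc, hh', reassoc_of% hgg, hg', Category.id_comp]
    rw [C.ξ_n] at h1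
    exact Over.OverMorphism.ext ((cancel_mono C.img.ι).1 (congrArg (fun k => k.left) h1))
  have e2 : h ≫ g' = 𝟙 _ := by
    haveI : Mono ιO.left := inferInstanceAs (Mono O.ι)
    haveI : Mono ιO := Over.mono_of_mono_left _
    rw [← cancel_mono ιO, Category.id_comp, Category.assoc, hgg]
    exact R.ext _ _ fun n => by rw [Category.assoc, hg', hh']
  haveI : IsIso g' := ⟨h, e1, e2⟩
  haveI : IsIso g'.left := inferInstanceAs (IsIso ((Over.forget _).map g'))
  have hC : C.inc ≫ R.pti C.i = C.proj ≫ g := R.ext _ _ fun n => by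
    rw [Category.assoc, pti_sec, Category.assoc, hg', C.proj_ξ]
  have hl : C.W.ι ≫ (R.pti C.i).left = C.proj.left ≫ g'.left ≫ O.ι := by
    refine (congrArg (fun k => k.left) hC).trans ?_
    rw [Over.comp_left, ← hgg]
    rfl
  rw [hl]
  infer_instance

instance etale_pti (i : Idx.{u}) : Etale (R.pti i).left := by
  choose W hW het using R.exists_open_etale i
  exact IsZariskiLocalAtSource.of_openCover (P := @Etale)
    (Scheme.Cover.mkOfCovers (R.Δ.X i).left (fun x => (W x).toScheme) (fun x => (W x).ι)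
      (fun x => ⟨x, ⟨x, hW x⟩, rfl⟩) (fun _ => inferInstance)) het

theorem exists_lift {Y : Over S} (v : Y ⟶ R.A) (y : Y.left) :
    ∃ (Y' : Over S) (c : Y' ⟶ Y) (i : Idx.{u}) (a : Y' ⟶ R.Δ.X i),
      Etale c.left ∧ y ∈ Set.range c.left ∧ c ≫ v = a ≫ R.pti i := by
  obtain ⟨Y', c, i, a, hc, hy, ha⟩ := (R.Δ.fam.res v R.sec).2 y
  refine ⟨Y', c, i, a, hc, hy, R.ext _ _ fun n => ?_⟩
  rw [Category.assoc, Category.assoc, pti_sec]
  exact ha n

/-- all monomorphisms of split groups onto the scheme -/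
def proj : sum R.Δ.X ⟶ R.A :=
  Over.homMk (Sigma.desc fun i => (R.pti i).left) (Sigma.hom_ext _ _ fun i => by simp)

theorem inc_proj (i : Idx.{u}) : sumInc R.Δ.X i ≫ R.proj = R.pti i := Over.OverMorphism.ext (Sigma.ι_desc _ _)

instance : Etale R.proj.left :=
  IsZariskiLocalAtSource.sigmaDesc (P := @Etale) fun i => R.etale_pti i

instance : Surjective R.proj.left := ⟨fun y => by
  obtain ⟨Y', c, i, a, -, ⟨y', hy'⟩, h⟩ := R.exists_lift (𝟙 R.A) y
  refine ⟨(sumInc R.Δ.X i).left (a.left y'), ?_⟩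
  rw [Category.comp_id] at h
  rw [← Scheme.Hom.comp_apply, ← Scheme.Hom.comp_apply, ← Over.comp_left, ← Over.comp_left, inc_proj, ← h]
  exact hy'⟩

theorem smooth : Smooth R.A.hom := by
  refine Groth.L23.smooth_of_etale_comp' (χ := R.proj.left) (g := R.A.hom) ?_
  rw [Over.w R.proj]
  exact IsZariskiLocalAtSource.sigmaDesc (P := @Smooth) fun i => (R.Δ.piece i).smooth

theorem separated : IsSeparated R.A.hom := by
  haveI htot : IsSeparated R.Δ.D.tot.hom := isSeparated_sigmaDesc _ fun i => by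
    haveI := (R.Δ.D.quot i).affine
    infer_instance
  refine ⟨IsClosedImmersion.of_isPreimmersion (pullback.diagonal R.A.hom) ?_⟩
  let E : Over S := Over.mk (pullback.fst R.A.hom R.A.hom ≫ R.A.hom)
  let u₁ : E ⟶ R.A := Over.homMk (pullback.fst R.A.hom R.A.hom) rfl
  let u₂ : E ⟶ R.A := Over.homMk (pullback.snd R.A.hom R.A.hom) pullback.condition.symm
  let m : ∀ _ : ℕ, pullback R.A.hom R.A.hom ⟶ pullback R.Δ.D.tot.hom R.Δ.D.tot.hom := fun n =>
    pullback.lift (u₁ ≫ R.sec.1 n).left (u₂ ≫ R.sec.1 n).left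
      ((Over.w (u₁ ≫ R.sec.1 n)).trans (Over.w (u₂ ≫ R.sec.1 n)).symm)
  have key : Set.range (pullback.diagonal R.A.hom) =
      ⋂ n, (m n) ⁻¹' Set.range (pullback.diagonal R.Δ.D.tot.hom) := by
    apply Set.Subset.antisymm
    · rintro _ ⟨a, rfl⟩
      refine Set.mem_iInter.2 fun n => ⟨(R.sec.1 n).left a, ?_⟩
      rw [← Scheme.Hom.comp_apply]
      refine (congr($(show (R.sec.1 n).left ≫ pullback.diagonal R.Δ.D.tot.hom =
        pullback.diagonal R.A.hom ≫ m n by
          apply pullback.hom_ext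
          · rw [Category.assoc, pullback.diagonal_fst, Category.comp_id, Category.assoc, pullback.lift_fst,
              Over.comp_left, ← Category.assoc]
            exact (Category.id_comp _).symm.trans (congrArg (· ≫ (R.sec.1 n).left) (pullback.diagonal_fst R.A.hom).symm)
          · rw [Category.assoc, pullback.diagonal_snd, Category.comp_id, Category.assoc, pullback.lift_snd,
              Over.comp_left, ← Category.assoc]
            exact (Category.id_comp _).symm.trans (congrArg (· ≫ (R.sec.1 n).left) (pullback.diagonal_snd R.A.hom).symm)) a)).trans ?_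
      rfl
    · intro x hx
      let k : Spec ((pullback R.A.hom R.A.hom).residueField x) ⟶ pullback R.A.hom R.A.hom :=
        (pullback R.A.hom R.A.hom).fromSpecResidueField x
      let Q : Over S := Over.mk (k ≫ E.hom)
      let q : Q ⟶ E := Over.homMk k rfl
      have hq : q ≫ u₁ = q ≫ u₂ := R.ext _ _ fun n => by
        obtain ⟨t, ht⟩ := Set.mem_iInter.1 hx n
        let z := pullback.snd (pullback.diagonal R.Δ.D.tot.hom) (k ≫ m n)
        haveI : IsClosedImmersion z := MorphismProperty.pullback_snd _ _ inferInstance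
        haveI : Surjective z := ⟨fun p => by
          obtain ⟨w, -, hw⟩ := Scheme.Pullback.exists_preimage_pullback
            (f := pullback.diagonal R.Δ.D.tot.hom) (g := k ≫ m n) t p (by
              rw [ht, Scheme.Hom.comp_apply]
              exact congrArg (m n) (Scheme.fromSpecResidueField_apply x p).symm)
          exact ⟨w, hw⟩⟩
        haveI : IsIso z := isIso_of_isClosedImmersion_of_surjective z
        have h1 : (inv z ≫ pullback.fst _ _) ≫ pullback.diagonal R.Δ.D.tot.hom = k ≫ m n := by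
          rw [Category.assoc, pullback.condition, IsIso.inv_hom_id_assoc]
        have h2 := congrArg (· ≫ pullback.fst _ _) h1
        have h3 := congrArg (· ≫ pullback.snd _ _) h1
        simp only [Category.assoc, pullback.diagonal_fst, pullback.diagonal_snd, Category.comp_id, m,
          pullback.lift_fst, pullback.lift_snd] at h2 h3
        exact Over.OverMorphism.ext (by
          show (k ≫ u₁.left) ≫ (R.sec.1 n).left = (k ≫ u₂.left) ≫ (R.sec.1 n).left
          rw [Category.assoc, Category.assoc]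
          exact h2.symm.trans h3)
      have e : (k ≫ u₁.left) ≫ pullback.diagonal R.A.hom = k := by
        have h := congrArg (fun w => w.left) hq
        apply pullback.hom_ext
        · rw [Category.assoc, pullback.diagonal_fst, Category.comp_id]; rfl
        · rw [Category.assoc, pullback.diagonal_snd, Category.comp_id]; exact h
      obtain ⟨p⟩ : Nonempty (Spec ((pullback R.A.hom R.A.hom).residueField x)) := inferInstance
      refine ⟨(k ≫ u₁.left) p, ?_⟩
      rw [← Scheme.Hom.comp_apply, e]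
      exact Scheme.fromSpecResidueField_apply x p
  rw [key]
  exact isClosed_iInter fun n =>
    ((pullback.diagonal R.Δ.D.tot.hom).isClosedEmbedding.isClosed_range).preimage (m n).continuous

theorem exists_sub : ∃ (K : Over R.A.left) (j : K ⟶ Red.bc R.A.hom G), IsClosedImmersion j.left ∧
    ∀ (i : Idx.{u}) (T : Over S) (a : T ⟶ R.Δ.X i) (g : T ⟶ G),
      Mem j (a ≫ R.pti i) g ↔ Img (R.Δ.υ i) a g := by
  obtain ⟨K₀, j₀, hc₀, h₀⟩ := exists_sum_sub (G := G) R.Δ.X (fun i => Red.DS (R.Δ.X i).left (grpI i))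
    (fun i => famHom (R.Δ.υ i)) fun i => isClosedImmersion_famHom (fg_grpI i) (R.Δ.piece i).hom (R.Δ.piece i).mono
  haveI := hc₀
  obtain ⟨K, j, hc, h⟩ := exists_desc_sub (G := G) R.proj j₀ hc₀ fun Y a b e g hg => by
    choose i U a' hyU ha using exists_fac_sum R.Δ.X a
    choose k V b' hyV hb using exists_fac_sum R.Δ.X b
    refine Mem.of_openCover j₀ (fun y => U y ⊓ V y) (fun y => ⟨y, hyU y, hyV y⟩) fun y => ?_
    let r : Over.mk ((U y ⊓ V y).ι ≫ Y.hom) ⟶ Y := Over.homMk (U y ⊓ V y).ι rfl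
    let r₁ : Over.mk ((U y ⊓ V y).ι ≫ Y.hom) ⟶ Over.mk ((U y).ι ≫ Y.hom) :=
      Over.homMk (Y.left.homOfLE inf_le_left) (by simp)
    let r₂ : Over.mk ((U y ⊓ V y).ι ≫ Y.hom) ⟶ Over.mk ((V y).ι ≫ Y.hom) :=
      Over.homMk (Y.left.homOfLE inf_le_right) (by simp)
    have ea : r ≫ a = (r₁ ≫ a' y) ≫ sumInc R.Δ.X (i y) := by
      rw [Category.assoc, ← ha y, ← Category.assoc]
      exact congrArg (· ≫ a) (Over.OverMorphism.ext (Scheme.homOfLE_ι _ inf_le_left).symm)
    have eb : r ≫ b = (r₂ ≫ b' y) ≫ sumInc R.Δ.X (k y) := by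
      rw [Category.assoc, ← hb y, ← Category.assoc]
      exact congrArg (· ≫ b) (Over.OverMorphism.ext (Scheme.homOfLE_ι _ inf_le_right).symm)
    have hl : ∀ n, (r₁ ≫ a' y) ≫ R.Δ.lev (i y) n = (r₂ ≫ b' y) ≫ R.Δ.lev (k y) n := fun n => by
      have h1 : r ≫ a ≫ R.proj = r ≫ b ≫ R.proj := by rw [e]
      rw [← Category.assoc, ea, ← Category.assoc r b, eb, Category.assoc (r₁ ≫ a' y), inc_proj,
        Category.assoc (r₂ ≫ b' y), inc_proj] at h1
      have h2 := congrArg (· ≫ R.sec.1 n) h1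
      simpa only [Category.assoc, pti_sec] using h2
    have hg' := hg.comp j₀ r
    show Mem j₀ (r ≫ b) (r ≫ g)
    rw [ea, h₀, mem_famHom_iff] at hg'
    rw [eb, h₀, mem_famHom_iff]
    have h3 := R.Δ.img_of_lev _ _ hl _ (𝟙 _) (r ≫ g)
    rw [Category.id_comp, Category.id_comp] at h3
    exact h3.1 hg'
  refine ⟨K, j, hc, fun i T a g => ?_⟩
  rw [← inc_proj, ← Category.assoc, h, h₀, mem_famHom_iff]

/-- the universal subgroup -/
def K : Over R.A.left := R.exists_sub.choose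

/-- its inclusion -/
def j : R.K ⟶ Red.bc R.A.hom G := R.exists_sub.choose_spec.choose

instance isClosedImmersion_j : IsClosedImmersion R.j.left := R.exists_sub.choose_spec.choose_spec.1

theorem mem_lift_iff (i : Idx.{u}) {T : Over S} (a : T ⟶ R.Δ.X i) (g : T ⟶ G) :
    Mem R.j (a ≫ R.pti i) g ↔ Img (R.Δ.υ i) a g := R.exists_sub.choose_spec.choose_spec.2 i T a g

theorem mem_of_lift {Y : Over S} (v : Y ⟶ R.A) (g : Y ⟶ G)
    (h : ∀ (Y' : Over S) (c : Y' ⟶ Y) (i : Idx.{u}) (a : Y' ⟶ R.Δ.X i), c ≫ v = a ≫ R.pti i →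
      Img (R.Δ.υ i) a (c ≫ g)) : Mem R.j v g := by
  choose Y' c i a hc hy hca using fun y => R.exists_lift v y
  refine mem_of_etale_family R.j c hc (fun y => ⟨y, hy y⟩) fun y => ?_
  rw [hca y, mem_lift_iff]
  exact h _ _ _ _ (hca y)

theorem mem_level_iff (n : ℕ) {Y : Over S} (v : Y ⟶ R.A) (g : Y ⟶ G) :
    Mem R.Δ.D.totj (v ≫ R.sec.1 n) g ↔ Mem R.j v g ∧ g ^ (n + 1) = 1 := by
  haveI := R.Δ.D.isClosedImmersion_totj
  choose Y' c i a hc hy hca using fun y => R.exists_lift v y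
  have e : ∀ y, c y ≫ v ≫ R.sec.1 n = a y ≫ R.Δ.lev (i y) n := fun y => by
    rw [← Category.assoc, hca, Category.assoc, pti_sec]
  constructor
  · intro h
    have h1 : ∀ y, Img (R.Δ.υ (i y)) (a y) (c y ≫ g) ∧ (c y ≫ g) ^ (n + 1) = 1 := fun y => by
      rw [← limg_iff (R.Δ.piece _), ← R.Δ.mem_lev, ← e]
      exact h.comp _ _
    refine ⟨mem_of_etale_family R.j c hc (fun y => ⟨y, hy y⟩) fun y => ?_, ?_⟩
    · rw [hca y, mem_lift_iff]; exact (h1 y).1
    · haveI : ∀ y, Flat (c y).left := fun y => by haveI := hc y; infer_instance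
      refine eq_of_cover c (fun y => ⟨y, hy y⟩) fun y => ?_
      rw [MonObj.comp_pow, (h1 y).2, MonObj.comp_one]
  · rintro ⟨h, hg⟩
    refine mem_of_etale_family R.Δ.D.totj c hc (fun y => ⟨y, hy y⟩) fun y => ?_
    rw [e, R.Δ.mem_lev, limg_iff (R.Δ.piece _), ← MonObj.comp_pow, hg, MonObj.comp_one, ← mem_lift_iff, ← hca y]
    exact ⟨h.comp _ _, rfl⟩

theorem pt_ext {Y : Over S} (v₁ v₂ : Y ⟶ R.A)
    (h : ∀ (T : Over S) (t : T ⟶ Y) (g : T ⟶ G), Mem R.j (t ≫ v₁) g ↔ Mem R.j (t ≫ v₂) g) : v₁ = v₂ :=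
  R.ext _ _ fun n => R.Δ.D.pt_ext _ _ fun T t g => by
    rw [← Category.assoc, ← Category.assoc, mem_level_iff, mem_level_iff, h]

theorem exists_grp : ∃ _ : GrpObj R.K, IsMonHom R.j := by
  refine FinSub.exists_grp R.j (fun Y v => R.mem_of_lift v 1 fun Y' c i a _ => ?_)
    (fun Y v g g' hg hg' => R.mem_of_lift v _ fun Y' c i a e => ?_)
    (fun Y v g hg => R.mem_of_lift v _ fun Y' c i a e => ?_)
  · refine ⟨1, ?_⟩
    rw [MonObj.comp_one]
    exact map_one (ptHom (R.Δ.υ i) (R.Δ.piece i).hom a)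
  · have h1 := hg.comp _ c
    have h2 := hg'.comp _ c
    rw [e, mem_lift_iff] at h1 h2
    obtain ⟨z, hz⟩ := h1
    obtain ⟨z', hz'⟩ := h2
    exact ⟨z * z', by rw [(R.Δ.piece i).hom, hz, hz', MonObj.comp_mul]⟩
  · have h1 := hg.comp _ c
    rw [e, mem_lift_iff] at h1
    obtain ⟨z, hz⟩ := h1
    refine ⟨z⁻¹, ?_⟩
    rw [GrpObj.comp_inv, ← hz]
    exact map_inv (ptHom (R.Δ.υ i) (R.Δ.piece i).hom a) z

theorem nonempty_K_iso [GrpObj R.K] [IsMonHom R.j] (i : Idx.{u}) :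
    Nonempty (Grp.mk (Red.bc (R.pti i).left R.K) ≅ Grp.mk (Red.DS (R.Δ.X i).left (grpI i))) := by
  let c := R.pti i
  let ci := ActBC.bcCompIso c.left R.A.hom G (Over.w c)
  let j₁ : Red.bc c.left R.K ⟶ Red.bc (R.Δ.X i).hom G := (Over.pullback c.left).map R.j ≫ ci.hom
  let j₂ : Red.DS (R.Δ.X i).left (grpI i) ⟶ Red.bc (R.Δ.X i).hom G := famHom (R.Δ.υ i)
  haveI : IsMonHom ((Over.pullback c.left).map R.j) := MonoClosed.isMonHom_pullbackMap _ _
  haveI : IsMonHom ci.hom := (Grp.mkIso' ci).hom.hom.isMonHom_hom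
  haveI : IsMonHom j₁ := inferInstanceAs (IsMonHom ((Over.pullback c.left).map R.j ≫ ci.hom))
  haveI : IsMonHom j₂ := isMonHom_famHom _ (R.Δ.piece i).hom
  haveI : Mono R.j := Over.mono_of_mono_left _
  haveI : Mono j₁ := inferInstanceAs (Mono ((Over.pullback c.left).map R.j ≫ ci.hom))
  haveI : Mono j₁.left := inferInstance
  haveI : IsClosedImmersion j₂.left :=
    isClosedImmersion_famHom (fg_grpI i) (R.Δ.piece i).hom (R.Δ.piece i).mono
  haveI : Mono j₂ := Over.mono_of_mono_left _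
  obtain ⟨φ, hφ⟩ := FinSub.exists_iso j₁ j₂ fun Y a g => by
    rw [mem_bc_iff, mem_lift_iff]
    exact (mem_famHom_iff _ a g).symm
  have : IsMonHom φ.hom := Bridge.isMonHom_of_mul φ.hom fun Y a b => by
    rw [← cancel_mono j₂, Category.assoc, hφ, MonObj.mul_comp, MonObj.mul_comp, Category.assoc, Category.assoc, hφ]
  exact ⟨Grp.mkIso' φ⟩

theorem isMultTypeFT_K [GrpObj R.K] [IsMonHom R.j] : SGA3x.IsMultTypeFT R.K := by
  refine Groth.L08.TorusWeights.isMultTypeFT_of_etale fun s => ?_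
  obtain ⟨Y', c, i, a, -, ⟨y', hy'⟩, h⟩ := R.exists_lift (𝟙 R.A) s
  rw [Category.comp_id] at h
  refine ⟨(R.Δ.X i).left, (R.pti i).left, a.left y', grpI i, inferInstance, inferInstance, ?_, fg_grpI i,
    R.nonempty_K_iso i⟩
  rw [← Scheme.Hom.comp_apply, ← Over.comp_left, ← h]
  exact hy'

section Universal

variable {T : Scheme.{u}} {f : T ⟶ S} {K' : Over T} [GrpObj K'] (j' : K' ⟶ Red.bc f G) [IsMonHom j'] [Mono j'.left]

theorem exists_chart (hK' : SGA3x.IsMultTypeFT K') (x : T) :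
    ∃ (T₁ : Scheme.{u}) (π : T₁ ⟶ T) (_ : Etale π) (w : Over.mk (π ≫ f) ⟶ R.A), x ∈ Set.range π ∧
      ∀ (Y : Over S) (t : Y ⟶ Over.mk (π ≫ f)) (g : Y ⟶ G),
        Mem (M := Over.mk f) j' (t ≫ Over.homMk π rfl) g ↔ Mem R.j (t ≫ w) g := by
  obtain ⟨T₁, π, hπ, ⟨x₁, hx₁⟩, M, instM, hM, ⟨e⟩⟩ := Extend.exists_etale_split hK' x
  letI := instM
  let e₀ : Red.bc π K' ≅ Red.DS T₁ M := (Grp.forget _).mapIso e
  haveI : IsMonHom e₀.inv := e.inv.hom.isMonHom_hom
  obtain ⟨i, ⟨ε⟩⟩ := exists_idx.{u} M hM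
  let Y₁ : Over S := Over.mk (π ≫ f)
  let c : Y₁ ⟶ Over.mk f := Over.homMk π rfl
  let m : Red.DS T₁ (grpI i) ⟶ Red.DS T₁ M := Red.DSmap T₁ (ε.symm : M →+ grpI i)
  have hm1 : m ≫ Red.DSmap T₁ (ε : grpI i →+ M) = 𝟙 _ := by
    rw [TorusTorsion.DSmap_comp, show (ε.symm : M →+ grpI i).comp (ε : grpI i →+ M) = AddMonoidHom.id _ from
      AddMonoidHom.ext fun a => ε.symm_apply_apply a, TorusTorsion.DSmap_id]
  have hm2 : Red.DSmap T₁ (ε : grpI i →+ M) ≫ m = 𝟙 _ := by
    rw [TorusTorsion.DSmap_comp, show (ε : grpI i →+ M).comp (ε.symm : M →+ grpI i) = AddMonoidHom.id _ from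
      AddMonoidHom.ext fun a => ε.apply_symm_apply a, TorusTorsion.DSmap_id]
  haveI : IsIso m := ⟨_, hm1, hm2⟩
  haveI : IsMonHom m := TorusTorsion.isMonHom_DSmap _ _
  let ci := ActBC.bcCompIso π f G (d := π ≫ f) rfl
  haveI : IsMonHom ci.hom := (Grp.mkIso' ci).hom.hom.isMonHom_hom
  let d : Red.bc (π ≫ f) (Red.DS S (grpI i)) ≅ Red.DS T₁ (grpI i) := bcDS _
  haveI : IsMonHom d.hom := isMonHom_bcDS _
  haveI : IsMonHom ((Over.pullback π).map j') := MonoClosed.isMonHom_pullbackMap _ _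
  let q : Red.bc (π ≫ f) (Red.DS S (grpI i)) ⟶ Red.bc π K' := d.hom ≫ m ≫ e₀.inv
  haveI : IsMonHom q := inferInstanceAs (IsMonHom (d.hom ≫ m ≫ e₀.inv))
  haveI : IsIso q := inferInstanceAs (IsIso (d.hom ≫ m ≫ e₀.inv))
  let H : Red.bc (π ≫ f) (Red.DS S (grpI i)) ⟶ Red.bc (π ≫ f) G := q ≫ (Over.pullback π).map j' ≫ ci.hom
  haveI : IsMonHom H := inferInstanceAs (IsMonHom (q ≫ (Over.pullback π).map j' ≫ ci.hom))
  haveI : Mono j' := Over.mono_of_mono_left _
  haveI : Mono H := inferInstanceAs (Mono (q ≫ (Over.pullback π).map j' ≫ ci.hom))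
  obtain ⟨φ, hφ⟩ := exists_sub_eq (Y := Y₁) H
  have hφ' : bcSub φ = H := hφ
  haveI : IsMonHom (bcSub φ) := by rw [hφ']; infer_instance
  haveI : Mono (bcSub φ) := by rw [hφ']; infer_instance
  obtain ⟨a, ha⟩ := (R.Δ.piece i).exists_pt Y₁ φ (isHomFamily_of_isMonHom φ) (monoFam_of_mono φ)
  refine ⟨T₁, π, hπ, a ≫ R.pti i, ⟨x₁, hx₁⟩, fun Y t g => ?_⟩
  rw [← Category.assoc t a, mem_lift_iff]
  have h1 : Img (R.Δ.υ i) (t ≫ a) g ↔ Img φ t g := exists_congr fun z => by
    rw [← ha, lift_whiskerLeft_assoc]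
  rw [h1, ← mem_sub_iff]
  show _ ↔ Mem (bcSub φ) t g
  rw [hφ']
  show _ ↔ Mem (M := Y₁) (q ≫ (Over.pullback π).map j' ≫ ci.hom) t g
  rw [mem_iso_comp_iff (M := Y₁)]
  exact (mem_bc_iff (M := Over.mk f) j' c t g).symm

theorem exists_map (hK' : SGA3x.IsMultTypeFT K') :
    ∃ v : Over.mk f ⟶ R.A, ∀ (Y : Over S) (t : Y ⟶ Over.mk f) (g : Y ⟶ G),
      Mem (M := Over.mk f) j' t g ↔ Mem R.j (t ≫ v) g := by
  choose T₁ π hπ w hx hw using fun x : T => R.exists_chart j' hK' x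
  let P : T → Over S := fun x => Over.mk (π x ≫ f)
  let c : ∀ x, P x ⟶ Over.mk f := fun x => Over.homMk (π x) rfl
  let σ : sum P ⟶ Over.mk f := Over.homMk (Sigma.desc π) (Sigma.hom_ext _ _ fun x => by simp [P])
  haveI : Etale σ.left := IsZariskiLocalAtSource.sigmaDesc (P := @Etale) hπ
  haveI : Surjective σ.left := ⟨fun x => by
    obtain ⟨x₁, hx₁⟩ := hx x
    exact ⟨Sigma.ι T₁ x x₁, (congr($(Sigma.ι_desc π x) x₁)).trans hx₁⟩⟩
  haveI := effectiveEpi_of_etale σ.left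
  let w₀ : sum P ⟶ R.A := Over.homMk (Sigma.desc fun x => (w x).left) (Sigma.hom_ext _ _ fun x => by simp [P])
  have hinc : ∀ x, sumInc P x ≫ σ = c x := fun x => Over.OverMorphism.ext (Sigma.ι_desc _ _)
  have hincw : ∀ x, sumInc P x ≫ w₀ = w x := fun x => Over.OverMorphism.ext (Sigma.ι_desc _ _)
  have hw₀ : ∀ (Y : Over S) (s : Y ⟶ sum P) (g : Y ⟶ G),
      Mem (M := Over.mk f) j' (s ≫ σ) g ↔ Mem R.j (s ≫ w₀) g := by
    intro Y s g
    choose x U u hyU hu using exists_fac_sum P s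
    constructor
    · intro h
      refine Mem.of_openCover R.j U (fun y => ⟨y, hyU y⟩) fun y => ?_
      rw [← Category.assoc, hu y, Category.assoc, hincw, ← hw (x y) _ (u y)]
      show Mem (M := Over.mk f) j' (u y ≫ c (x y)) _
      rw [← hinc, ← reassoc_of% (hu y)]
      exact h.comp _ _
    · intro h
      refine Mem.of_openCover (M := Over.mk f) j' U (fun y => ⟨y, hyU y⟩) fun y => ?_
      rw [← Category.assoc, hu y, Category.assoc, hinc]
      show Mem (M := Over.mk f) j' (u y ≫ Over.homMk (π (x y)) rfl) _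
      rw [hw (x y) _ (u y), ← hincw, ← reassoc_of% (hu y)]
      exact h.comp _ _
  let v₀ := EffectiveEpi.desc σ.left w₀.left fun {Z} g₁ g₂ e => by
    let W : Over S := Over.mk (g₁ ≫ (sum P).hom)
    let G₁ : W ⟶ sum P := Over.homMk g₁ rfl
    let G₂ : W ⟶ sum P := Over.homMk g₂ (by
      show g₂ ≫ (sum P).hom = g₁ ≫ (sum P).hom
      rw [← Over.w σ, reassoc_of% e])
    have hG : G₁ ≫ σ = G₂ ≫ σ := Over.OverMorphism.ext e
    exact congrArg (fun m => m.left) (R.pt_ext (G₁ ≫ w₀) (G₂ ≫ w₀) fun Y t g => by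
      rw [← Category.assoc, ← hw₀, ← Category.assoc t, ← hw₀, Category.assoc, hG, Category.assoc])
  have hv₀ : σ.left ≫ v₀ = w₀.left := EffectiveEpi.fac _ _ _
  let v : Over.mk f ⟶ R.A := Over.homMk v₀ (by
    show v₀ ≫ R.A.hom = f
    rw [← cancel_epi σ.left, reassoc_of% hv₀, Over.w w₀]
    exact (Over.w σ).symm)
  refine ⟨v, fun Y t g => ?_⟩
  have hσv : σ ≫ v = w₀ := Over.OverMorphism.ext hv₀
  have hy : ∀ y : Y.left, ∃ (Q : Over S) (r : Q ⟶ Y) (s : Q ⟶ sum P), Etale r.left ∧ y ∈ Set.range r.left ∧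
      r ≫ t = s ≫ σ := fun y => by
    obtain ⟨p, hp⟩ := σ.left.surjective (t.left y)
    obtain ⟨Q, r, s, z, hrs, hrz, -, het⟩ := exists_fibre t σ y p hp.symm
    exact ⟨Q, r, s, het inferInstance, ⟨z, hrz⟩, hrs⟩
  choose Q r s hr hry hrs using hy
  constructor
  · intro h
    refine mem_of_etale_family R.j r hr (fun y => ⟨y, hry y⟩) fun y => ?_
    rw [← Category.assoc, hrs y, Category.assoc, hσv, ← hw₀, ← hrs y]
    exact h.comp _ _
  · intro h
    refine mem_of_etale_family (M := Over.mk f) j' r hr (fun y => ⟨y, hry y⟩) fun y => ?_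
    rw [hrs y, hw₀, ← hσv, ← Category.assoc, ← hrs y, Category.assoc]
    exact h.comp _ _

end Universal

end MRep

end Groth.L24.MSub
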