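import Groth.Agent.L24.MSub.ToriQuot

/-!
# The quotient by the centraliser is finite over the quotient by the normaliser when the Weyl group is finite
-/

set_option autoImplicit false
universe u

open CategoryTheory CategoryTheory.Limits MonoidalCategory CartesianMonoidalCategory AlgebraicGeometry
open scoped MonObj

set_option backward.isDefEq.respectTransparency.types false
set_option linter.style.haveILetI false

noncomputable section

namespace Groth.L24.MSub

open Groth.L25

variable {S : Scheme.{u}} {G C N : Over S} [GrpObj G] [GrpObj C] [GrpObj N]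

/-- two points have the same image in a quotient iff they differ by a point of the subgroup -/
theorem quot_eq_iff {c : C ⟶ G} {Q : Over S} {q : G ⟶ Q} (hq : RedSub.IsQuotient c q) {X : Over S}
    (a b : X ⟶ G) : a ≫ q = b ≫ q ↔ ∃ z : X ⟶ C, z ≫ c = a⁻¹ * b := by
  have hmul : ∀ (g : X ⟶ G) (z : X ⟶ C), lift g z ≫ (G ◁ c) ≫ μ[G] = g * (z ≫ c) := fun g z => by
    rw [lift_whiskerLeft_assoc, Hom.mul_def]
  constructor
  · intro e
    let l := hq.2.2.2.lift a b e
    refine ⟨l ≫ snd G C, ?_⟩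
    have h1 : l ≫ fst G C = a := hq.2.2.2.lift_fst a b e
    have h2 : lift (l ≫ fst G C) (l ≫ snd G C) ≫ (G ◁ c) ≫ μ[G] = b := by
      rw [← comp_lift, lift_fst_snd, Category.comp_id]
      exact hq.2.2.2.lift_snd a b e
    rw [hmul, h1] at h2
    rw [← h2, inv_mul_cancel_left]
  · rintro ⟨z, hz⟩
    have h := lift a z ≫= hq.2.2.2.w
    rw [lift_fst_assoc, ← Category.assoc (lift a z), hmul, hz, mul_inv_cancel_left] at h
    exact h

theorem isFinite_quot_map [IsAffineHom G.hom] [Smooth G.hom] {c : C ⟶ G} {n : N ⟶ G} [IsMonHom n] [Mono n]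
    {c' : C ⟶ N} [IsMonHom c']
    (hc' : c' ≫ n = c) {W : Over S} {w : N ⟶ W} (hw : RedSub.IsQuotient c' w) [IsFinite W.hom]
    {P Q : Over S} {p : G ⟶ P} {q : G ⟶ Q} (hp : RedSub.IsQuotient c p) (hq : RedSub.IsQuotient n q) :
    ∃ u : P ⟶ Q, p ≫ u = q ∧ IsFinite u.left := by
  haveI := hp.1; haveI := hp.2.1; haveI := hp.2.2.1
  haveI := hq.1; haveI := hq.2.1; haveI := hq.2.2.1
  haveI := hw.1; haveI := hw.2.1; haveI := hw.2.2.1
  haveI : EffectiveEpi p.left := Descent.effectiveEpi_of_cover p.left (Groth.L08.Borel.cover_of_lfp p.left)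
  obtain ⟨u, hu, -⟩ := Actions.existsUnique_desc p q fun Z a b e => by
    obtain ⟨z, hz⟩ := (quot_eq_iff hp a b).1 e
    exact (quot_eq_iff hq a b).2 ⟨z ≫ c', by rw [Category.assoc, hc', hz]⟩
  refine ⟨u, hu, ?_⟩
  let R : Over S := Over.mk (pullback.snd u.left q.left ≫ G.hom)
  let π₁ : R ⟶ P := Over.homMk (pullback.fst u.left q.left) (by
    show pullback.fst u.left q.left ≫ P.hom = pullback.snd u.left q.left ≫ G.hom
    rw [← Over.w u, ← Over.w q, pullback.condition_assoc])
  let π₂ : R ⟶ G := Over.homMk (pullback.snd u.left q.left) rfl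
  let m : G ⊗ N ⟶ G := (G ◁ n) ≫ μ[G]
  have hpb : IsPullback π₁.left π₂.left u.left q.left := .of_hasPullback _ _
  have hcond : (m ≫ p) ≫ u = fst G N ≫ q := by rw [Category.assoc, hu]; exact hq.2.2.2.w.symm
  let r : G ⊗ N ⟶ R := Over.homMk (pullback.lift (m ≫ p).left (fst G N).left
      (congrArg (fun k => k.left) hcond)) (by
    show _ ≫ pullback.snd u.left q.left ≫ G.hom = _
    rw [pullback.lift_snd_assoc]
    exact Over.w (fst G N))
  have hr₁ : r ≫ π₁ = m ≫ p := Over.OverMorphism.ext (pullback.lift_fst _ _ _)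
  have hr₂ : r ≫ π₂ = fst G N := Over.OverMorphism.ext (pullback.lift_snd _ _ _)
  have hout : IsPullback m.left (r.left ≫ π₂.left) (p.left ≫ u.left) q.left := by
    rw [← Over.comp_left, ← Over.comp_left, hr₂, hu]
    exact (hq.2.2.2.map (Over.forget S)).flip
  have htop : IsPullback m.left r.left p.left π₁.left :=
    IsPullback.of_bot hout (by rw [← Over.comp_left, ← Over.comp_left, hr₁]) hpb
  haveI : Surjective r.left := MorphismProperty.of_isPullback htop hp.1
  haveI : Flat r.left := MorphismProperty.of_isPullback htop hp.2.1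
  haveI : LocallyOfFinitePresentation r.left := MorphismProperty.of_isPullback htop hp.2.2.1
  haveI : EffectiveEpi r.left := Descent.effectiveEpi_of_cover r.left (Groth.L08.Borel.cover_of_lfp r.left)
  let ρ : G ⊗ N ⟶ G ⊗ W := G ◁ w
  have hρ : IsPullback ρ.left (snd G N).left (snd G W).left w.left := by
    have h1 : IsPullback (fst G W).left (snd G W).left G.hom W.hom := Actions.isPullback_snd G W
    have h2 : IsPullback (fst G N).left (snd G N).left G.hom N.hom := Actions.isPullback_snd G N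
    refine IsPullback.of_right (t := h1) (by
      rw [← Over.comp_left, whiskerLeft_fst, Over.w w]; exact h2) ?_
    rw [← Over.comp_left, ← Over.comp_left, whiskerLeft_snd]
  haveI : Surjective ρ.left := MorphismProperty.of_isPullback hρ.flip hw.1
  haveI : Flat ρ.left := MorphismProperty.of_isPullback hρ.flip hw.2.1
  haveI : LocallyOfFinitePresentation ρ.left := MorphismProperty.of_isPullback hρ.flip hw.2.2.1
  haveI : EffectiveEpi ρ.left := Descent.effectiveEpi_of_cover ρ.left (Groth.L08.Borel.cover_of_lfp ρ.left)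
  have hm : ∀ {Z : Over S} (a : Z ⟶ G ⊗ N), a ≫ m = (a ≫ fst G N) * ((a ≫ snd G N) ≫ n) := fun a => by
    have : a = lift (a ≫ fst G N) (a ≫ snd G N) := by rw [← comp_lift, lift_fst_snd, Category.comp_id]
    conv_lhs => rw [this]
    rw [lift_whiskerLeft_assoc, Hom.mul_def]
  have hker : ∀ (Z : Over S) (a b : Z ⟶ G ⊗ N), a ≫ r = b ≫ r ↔ a ≫ ρ = b ≫ ρ := fun Z a b => by
    constructor
    · intro e
      have e1 : a ≫ fst G N = b ≫ fst G N := by rw [← hr₂, reassoc_of% e]
      have e2 : (a ≫ m) ≫ p = (b ≫ m) ≫ p := by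
        have := congrArg (· ≫ π₁) e
        simp only [Category.assoc, hr₁] at this
        simpa only [Category.assoc] using this
      obtain ⟨z, hz⟩ := (quot_eq_iff hp _ _).1 e2
      refine CartesianMonoidalCategory.hom_ext _ _ (by simp only [ρ, Category.assoc, whiskerLeft_fst]; exact e1) ?_
      simp only [ρ, Category.assoc, whiskerLeft_snd]
      rw [← Category.assoc, ← Category.assoc]
      refine (quot_eq_iff hw _ _).2 ⟨z, ?_⟩
      rw [← cancel_mono n, Category.assoc, hc', hz, hm, hm, e1, MonObj.mul_comp, GrpObj.inv_comp]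
      group
    · intro e
      have e1 : a ≫ fst G N = b ≫ fst G N := by
        have := congrArg (· ≫ fst G W) e
        simpa only [ρ, Category.assoc, whiskerLeft_fst] using this
      have e2 : (a ≫ snd G N) ≫ w = (b ≫ snd G N) ≫ w := by
        have := congrArg (· ≫ snd G W) e
        simpa only [ρ, Category.assoc, whiskerLeft_snd] using this
      obtain ⟨z, hz⟩ := (quot_eq_iff hw _ _).1 e2
      have e3 : (a ≫ m) ≫ p = (b ≫ m) ≫ p := (quot_eq_iff hp _ _).2 ⟨z, by
        rw [← hc', ← Category.assoc, hz, hm, hm, e1, MonObj.mul_comp, GrpObj.inv_comp]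
        group⟩
      refine Over.OverMorphism.ext (pullback.hom_ext ?_ ?_)
      · show ((a ≫ r) ≫ π₁).left = ((b ≫ r) ≫ π₁).left
        rw [Category.assoc, Category.assoc, hr₁]
        simp only [m, Category.assoc] at e3 ⊢
        rw [e3]
      · show ((a ≫ r) ≫ π₂).left = ((b ≫ r) ≫ π₂).left
        rw [Category.assoc, Category.assoc, hr₂, e1]
  obtain ⟨θ, hθ, -⟩ := Actions.existsUnique_desc r ρ fun Z a b e => (hker Z a b).1 e
  obtain ⟨θ', hθ', -⟩ := Actions.existsUnique_desc ρ r fun Z a b e => (hker Z a b).2 e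
  obtain ⟨d₁, -, hu₁⟩ := Actions.existsUnique_desc r r fun _ _ _ h => h
  obtain ⟨d₂, -, hu₂⟩ := Actions.existsUnique_desc ρ ρ fun _ _ _ h => h
  have h12 : θ ≫ θ' = 𝟙 _ := (hu₁ _ (show r ≫ θ ≫ θ' = r by rw [← Category.assoc, hθ, hθ'])).trans
    (hu₁ (𝟙 _) (Category.comp_id _)).symm
  have h21 : θ' ≫ θ = 𝟙 _ := (hu₂ _ (show ρ ≫ θ' ≫ θ = ρ by rw [← Category.assoc, hθ', hθ])).trans
    (hu₂ (𝟙 _) (Category.comp_id _)).symm
  let e : R ≅ G ⊗ W := ⟨θ, θ', h12, h21⟩
  have hπ : θ ≫ fst G W = π₂ := by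
    obtain ⟨d₃, -, hu₃⟩ := Actions.existsUnique_desc r (fst G N) fun Z a b h => by
      rw [← hr₂, reassoc_of% h]
    exact (hu₃ _ (show r ≫ θ ≫ fst G W = fst G N by rw [← Category.assoc, hθ, whiskerLeft_fst])).trans
      (hu₃ _ hr₂).symm
  haveI : IsIso θ.left := ((Over.forget S).mapIso e).isIso_hom
  haveI : IsFinite (fst G W).left := MorphismProperty.of_isPullback (Actions.isPullback_snd G W).flip ‹IsFinite W.hom›
  have hfin : IsFinite π₂.left := by rw [← hπ, Over.comp_left]; infer_instance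
  refine Groth.L25.FpqcLocal.of_fpqc (P := @IsFinite) u.left (𝟙 _) q.left
    (Groth.L08.Borel.cover_of_lfp q.left) fun a => ⟨⊤, trivial, ?_⟩
  refine Groth.L25.FpqcLocal.bc_comp u.left (pullback.snd (𝟙 _) ((⊤ : G.left.Opens).ι ≫ q.left))
    ((⊤ : G.left.Opens).ι ≫ q.left) _ (by rw [← pullback.condition, Category.comp_id]) ?_
  exact Groth.L25.FpqcLocal.bc_comp u.left (⊤ : G.left.Opens).ι q.left _ rfl hfin

end Groth.L24.MSub
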